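import Groth.Agent.CohC3.Affines

/-! Artin–Rees for modules of linear maps. -/

universe u

namespace Groth.CohC3

variable {R : Type*} [CommRing R] {M N : Type*} [AddCommGroup M] [Module R M] [AddCommGroup N] [Module R N]

lemma mem_smul_top_pi {ι : Type*} [Fintype ι] {J : Ideal R} {x : ι → N}
    (h : ∀ i, x i ∈ J • (⊤ : Submodule R N)) : x ∈ J • (⊤ : Submodule R (ι → N)) := by
  classical
  rw [← Finset.univ_sum_single x]
  refine Submodule.sum_mem _ fun i _ => ?_
  have := Submodule.mem_map_of_mem (f := LinearMap.single R (fun _ : ι => N) i) (h i)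
  rw [Submodule.map_smul''] at this
  exact Submodule.smul_mono le_rfl le_top this

lemma apply_mem_smul_top_of_mem {J : Ideal R} {θ : M →ₗ[R] N} (h : θ ∈ J • (⊤ : Submodule R (M →ₗ[R] N)))
    (x : M) : θ x ∈ J • (⊤ : Submodule R N) := by
  refine Submodule.smul_induction_on h (fun a ha f _ => ?_) fun f g hf hg => add_mem hf hg
  exact Submodule.smul_mem_smul ha trivial

/-- Uniform approximation of maps into the quotients `N/J^n N` by maps into `N`. -/
theorem exists_hom_artinRees [IsNoetherianRing R] [Module.Finite R M] [Module.Finite R N] (J : Ideal R) :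
    ∃ c, (∀ n m, n + c ≤ m → ∀ φ : M →ₗ[R] N ⧸ (J ^ m • ⊤ : Submodule R N), ∃ θ : M →ₗ[R] N,
        ∀ x, ∀ y, Submodule.Quotient.mk y = φ x → θ x - y ∈ J ^ n • (⊤ : Submodule R N)) ∧
      ∀ n m, n + c ≤ m → ∀ θ : M →ₗ[R] N, (∀ x, θ x ∈ J ^ m • (⊤ : Submodule R N)) →
        θ ∈ J ^ n • (⊤ : Submodule R (M →ₗ[R] N)) := by
  classical
  obtain ⟨a, e, he⟩ := Module.Finite.exists_fin' R M
  have : IsNoetherian R (Fin a → R) := inferInstance
  obtain ⟨b, k, hk⟩ := Submodule.fg_iff_exists_fin_generating_family.1 (IsNoetherian.noetherian (LinearMap.ker e))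
  let B := Pi.basisFun R (Fin a)
  let f : (Fin a → N) →ₗ[R] (Fin b → N) :=
    LinearMap.pi fun j => ∑ i, k j i • LinearMap.proj i
  let ι : (M →ₗ[R] N) →ₗ[R] (Fin a → N) :=
    LinearMap.pi fun i => (LinearMap.applyₗ (e (B i)))
  have hlift : ∀ x : Fin a → N, f x = 0 → ∃ θ : M →ₗ[R] N, ι θ = x := by
    intro x hx
    let L : (Fin a → R) →ₗ[R] N := Fintype.linearCombination R x
    have hker : LinearMap.ker e ≤ LinearMap.ker L := by
      rw [← hk, Submodule.span_le]
      rintro - ⟨j, rfl⟩
      have := congrFun hx j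
      simpa [f, L, Fintype.linearCombination_apply] using this
    refine ⟨((LinearMap.ker e).liftQ L hker).comp (e.quotKerEquivOfSurjective he).symm.toLinearMap,
      funext fun i => ?_⟩
    change (LinearMap.ker e).liftQ L hker ((e.quotKerEquivOfSurjective he).symm (e (B i))) = x i
    rw [show (e.quotKerEquivOfSurjective he).symm (e (B i)) = Submodule.Quotient.mk (B i) from
      (e.quotKerEquivOfSurjective he).symm_apply_eq.2 rfl, Submodule.liftQ_apply]
    simp [L, B]
  obtain ⟨c₁, h₁⟩ := exists_artinRees J f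
  obtain ⟨c₂, h₂⟩ := exists_artinRees J ι
  refine ⟨max c₁ c₂, fun n m hnm φ => ?_, fun n m hnm θ hθ => ?_⟩
  · choose y hy using fun i => Submodule.Quotient.mk_surjective _ (φ (e (B i)))
    have hf : f y ∈ J ^ m • (⊤ : Submodule R (Fin b → N)) := by
      refine mem_smul_top_pi fun j => ?_
      rw [← Submodule.Quotient.mk_eq_zero, ← Submodule.mkQ_apply]
      have hkj : e (k j) = 0 := by
        have : k j ∈ LinearMap.ker e := hk ▸ Submodule.subset_span ⟨j, rfl⟩
        exact this
      have h0 : φ (e (k j)) = 0 := by rw [hkj, map_zero]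
      rw [pi_eq_sum_univ' (k j), map_sum, map_sum] at h0
      refine Eq.trans ?_ h0
      simp only [f, LinearMap.pi_apply, LinearMap.coe_sum, Finset.sum_apply, LinearMap.smul_apply,
        LinearMap.proj_apply, map_sum, map_smul, Submodule.mkQ_apply, hy]
      exact Finset.sum_congr rfl fun i _ => by simp [B, Pi.basisFun_apply, Pi.single_apply, funext_iff]
    obtain ⟨p, hp, hfp⟩ := h₁ (n := n) (by omega) y hf
    obtain ⟨θ, hθ⟩ := hlift (y - p) (by rw [map_sub, hfp, sub_self])
    refine ⟨θ, fun x z hz => ?_⟩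
    let q := (J ^ n • ⊤ : Submodule R N)
    have hle : (J ^ m • ⊤ : Submodule R N) ≤ q := Submodule.smul_mono_left (Ideal.pow_le_pow_right (by omega))
    have e1 : q.mkQ.comp θ = (Submodule.factor hle).comp φ := by
      refine (LinearMap.cancel_right he).1 (B.ext fun i => ?_)
      simp only [LinearMap.comp_apply]
      rw [← hy i, show θ (e (B i)) = y i - p i from congrFun hθ i]
      refine (Submodule.Quotient.eq q).2 ?_
      rw [LinearMap.id_apply, sub_sub_cancel_left]
      exact neg_mem (by
        have := Submodule.mem_map_of_mem (f := (LinearMap.proj i : (Fin a → N) →ₗ[R] N)) hp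
        rw [Submodule.map_smul''] at this
        exact Submodule.smul_mono le_rfl le_top this)
    rw [← Submodule.Quotient.eq q]
    have := LinearMap.congr_fun e1 x
    simp only [LinearMap.comp_apply, ← hz] at this
    exact this
  · obtain ⟨θ', hθ', hι⟩ := h₂ (n := n) (by omega) θ (mem_smul_top_pi fun i => hθ _)
    have : θ' = θ := (LinearMap.cancel_right he).1 (B.ext fun i => congrFun hι i)
    exact this ▸ hθ'

end Groth.CohC3
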