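import Groth.Agent.CohC3.FFConsequences
import Groth.Agent.CohC3.HomAR
import Groth.Agent.RefRank.HomSec

/-! Completion is fully faithful when cohomology of coherent sheaves is finite. -/

universe u

open CategoryTheory CategoryTheory.Limits AlgebraicGeometry Opposite TopologicalSpace

namespace Groth.CohC3

variable {X : Scheme.{u}}

/-- Global sections as degree zero cohomology. -/
noncomputable def secEquiv₀ (M : X.Modules) : Coh.HH X M 0 ≃+ Γ(M, ⊤) :=
  Sheaf.H.equiv₀ (Coh.toAb M) (Preorder.isTerminalTop X.Opens)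

variable {A : Type u} [CommRing A] [X.Over (Spec (CommRingCat.of A))]

lemma secEquiv₀_hmap {M N : X.Modules} (φ : M ⟶ N) (x : Coh.HH X M 0) :
    secEquiv₀ N (hmap A φ 0 x) = φ.app ⊤ (secEquiv₀ M x) :=
  (Sheaf.H.equiv₀_naturality (Preorder.isTerminalTop X.Opens) ((CohBase.toAbF X).map φ) x).symm

variable {M N : X.Modules}

/-- A section of the sheaf Hom composed with `π` equals `χ`, on stalks. -/
def Sat {U : X.Opens} (g : Γ(RefHull.homSh M N, U)) {Q : X.Modules} (χ : M ⟶ Q) (π : N ⟶ Q) : Prop :=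
  ∀ y : U, (RefHull.stalkMapₗ π y.1).comp (g.1 y) = RefHull.stalkMapₗ χ y.1

omit [X.Over (Spec (CommRingCat.of A))] in
lemma stalkMapₗ_comp {P Q R : X.Modules} (φ : P ⟶ Q) (ψ : Q ⟶ R) (y : X) :
    RefHull.stalkMapₗ (φ ≫ ψ) y = (RefHull.stalkMapₗ ψ y).comp (RefHull.stalkMapₗ φ y) := by
  refine LinearMap.ext fun t => ?_
  obtain ⟨V, hy, m, rfl⟩ := TopCat.Presheaf.exists_germ_eq P.presheaf t
  rw [LinearMap.comp_apply, RefHull.stalkMapₗ_germ, RefHull.stalkMapₗ_germ, RefHull.stalkMapₗ_germ]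
  rfl

omit [X.Over (Spec (CommRingCat.of A))] in
lemma stalkMapₗ_zero {P Q : X.Modules} (y : X) : RefHull.stalkMapₗ (0 : P ⟶ Q) y = 0 := by
  refine LinearMap.ext fun t => ?_
  obtain ⟨V, hy, m, rfl⟩ := TopCat.Presheaf.exists_germ_eq P.presheaf t
  rw [RefHull.stalkMapₗ_germ]
  exact map_zero _

omit [X.Over (Spec (CommRingCat.of A))] in
lemma Sat.res {U V : X.Opens} {g : Γ(RefHull.homSh M N, U)} {Q : X.Modules} {χ : M ⟶ Q} {π : N ⟶ Q}
    (h : Sat g χ π) (hVU : V ≤ U) : Sat (CohTwo.res (RefHull.homSh M N) hVU g) χ π :=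
  fun y => h ⟨y.1, hVU y.2⟩

omit [X.Over (Spec (CommRingCat.of A))] in
lemma Sat.postcomp {U : X.Opens} {g : Γ(RefHull.homSh M N, U)} {Q Q' : X.Modules} {χ : M ⟶ Q} {π : N ⟶ Q}
    (h : Sat g χ π) (τ : Q ⟶ Q') : Sat g (χ ≫ τ) (π ≫ τ) := fun y => by
  rw [stalkMapₗ_comp, stalkMapₗ_comp, LinearMap.comp_assoc, h y]

omit [X.Over (Spec (CommRingCat.of A))] in
lemma Sat.sub {U : X.Opens} {g g' : Γ(RefHull.homSh M N, U)} {Q : X.Modules} {χ : M ⟶ Q} {π : N ⟶ Q}
    (h : Sat g χ π) (h' : Sat g' χ π) : Sat (g - g') 0 π := fun y => by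
  rw [show (g - g').1 y = g.1 y - g'.1 y from rfl, LinearMap.comp_sub, h y, h' y, sub_self, stalkMapₗ_zero]

omit [X.Over (Spec (CommRingCat.of A))] in
lemma Sat.app {U : X.Opens} {g : Γ(RefHull.homSh M N, U)} {Q : X.Modules} {χ : M ⟶ Q} {π : N ⟶ Q}
    (h : Sat g χ π) {V : X.Opens} (hVU : V ≤ U) (x : Γ(M, V)) :
    π.app V (RefRank.applySec g hVU x) = χ.app V x := by
  refine RefRank.mod_section_ext Q fun y hy => ?_
  have := LinearMap.congr_fun (h ⟨y, hVU hy⟩) (QCohMod.germ M y hy x)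
  rw [LinearMap.comp_apply, ← RefRank.germ_applySec g hVU x y hy] at this
  exact ((RefHull.stalkMapₗ_germ π y hy _).symm.trans this).trans (RefHull.stalkMapₗ_germ χ y hy x)

omit [X.Over (Spec (CommRingCat.of A))] in
lemma sat_of_app [M.IsQuasicoherent] {U : X.Opens} (hU : IsAffineOpen U) {g : Γ(RefHull.homSh M N, U)}
    {Q : X.Modules} {χ : M ⟶ Q} {π : N ⟶ Q} (h : ∀ x, π.app U (RefRank.secToLin g x) = χ.app U x) :
    Sat g χ π := fun y => RefRank.stalkHom_ext hU y.2 fun m => by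
  rw [LinearMap.comp_apply, ← RefRank.germ_secToLin g m y.1 y.2]
  exact (RefHull.stalkMapₗ_germ π y.1 y.2 _).trans ((congrArg _ (h m)).trans
    (RefHull.stalkMapₗ_germ χ y.1 y.2 m).symm)

variable [IsNoetherian X] (I : Ideal A) (hM : Coh.IsCoh M) (hN : Coh.IsCoh N)

include hM hN in
/-- The constants on an affine open. -/
lemma exists_local_constant {U : X.Opens} (hU : IsAffineOpen U) :
    ∃ c, (∀ n m, n + c ≤ m → ∀ χ : M ⟶ Formal.modPow I m N, ∀ (h : I ^ m ≤ I ^ n),
        ∃ g : Γ(RefHull.homSh M N, U), Sat g (χ ≫ qTr N h) (Formal.modPowπ I n N)) ∧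
      ∀ n m, n + c ≤ m → ∀ g : Γ(RefHull.homSh M N, U), Sat g 0 (Formal.modPowπ I m N) →
        (Formal.modPowπ I n (RefHull.homSh M N)).app U g = 0 := by
  have := hM.1
  have := hN.1
  have hH := RefRank.isCoh_homSh hM hN
  have := hH.1
  have : IsNoetherianRing Γ(X, U) := IsLocallyNoetherian.component_noetherian ⟨U, hU⟩
  have := ((QCohMod.isCoh_iff _).1 hM).2 U hU
  have := ((QCohMod.isCoh_iff _).1 hN).2 U hU
  set J := I.map (baseApp X U)
  obtain ⟨c, hE, hU'⟩ := exists_hom_artinRees (M := Γ(M, U)) (N := Γ(N, U)) J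
  refine ⟨c, fun n m hnm χ h => ?_, fun n m hnm g hg => ?_⟩
  · let p := QCohMod.appₗ (Formal.modPowπ I m N) U
    have hker : LinearMap.ker p = J ^ m • ⊤ := by
      ext y
      rw [LinearMap.mem_ker, ← Ideal.map_pow]
      exact (isQuot_modPowπ I m N).app_eq_zero_iff y hU
    let e := p.quotKerEquivOfSurjective ((isQuot_modPowπ I m N).app_surjective hU)
    let φ : Γ(M, U) →ₗ[Γ(X, U)] Γ(N, U) ⧸ (J ^ m • ⊤ : Submodule Γ(X, U) Γ(N, U)) :=
      (Submodule.quotEquivOfEq _ _ hker).toLinearMap.comp (e.symm.toLinearMap.comp (QCohMod.appₗ χ U))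
    obtain ⟨θ, hθ⟩ := hE n m hnm φ
    obtain ⟨g, hg⟩ := RefRank.secToLin_surjective hU θ
    refine ⟨g, sat_of_app hU fun x => ?_⟩
    obtain ⟨y, hy⟩ := (isQuot_modPowπ I m N).app_surjective hU (χ.app U x)
    have hy' : Submodule.Quotient.mk y = φ x := by
      change _ = Submodule.quotEquivOfEq _ _ hker (e.symm (χ.app U x))
      rw [← hy]
      exact (congrArg (Submodule.quotEquivOfEq _ _ hker) (show e.symm (p y) = Submodule.Quotient.mk y from e.symm_apply_eq.2 rfl)).symm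
    have := hθ x y hy'
    rw [← Ideal.map_pow] at this
    rw [hg, ← sub_add_cancel (θ x) y, map_add, app_eq_zero_of_mem_smul _ (isQuot_modPowπ I n N).le_ann this,
      zero_add, Scheme.Modules.Hom.comp_app, ConcreteCategory.comp_apply, ← hy, app_comp_apply, modPowπ_qTr]
  · have hθ : ∀ x, RefRank.secToLin g x ∈ J ^ m • (⊤ : Submodule Γ(X, U) Γ(N, U)) := fun x => by
      rw [← Ideal.map_pow]
      exact ((isQuot_modPowπ I m N).app_eq_zero_iff _ hU).1 ((hg.app le_rfl x).trans rfl)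
    have h1 := Submodule.mem_map_of_mem (f := (RefRank.secLinEquiv (F := M) (G := N) hU).symm.toLinearMap)
      (hU' n m hnm _ hθ)
    rw [Submodule.map_smul''] at h1
    rw [show (RefRank.secLinEquiv (F := M) (G := N) hU).symm.toLinearMap (RefRank.secToLin g) = g from
      (RefRank.secLinEquiv hU).symm_apply_apply g] at h1
    have h2 : g ∈ J ^ n • (⊤ : Submodule Γ(X, U) Γ(RefHull.homSh M N, U)) :=
      Submodule.smul_mono le_rfl le_top h1
    rw [← Ideal.map_pow] at h2
    exact app_eq_zero_of_mem_smul _ (isQuot_modPowπ I n _).le_ann h2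

/-- Morphisms are the global sections of the sheaf Hom. -/
noncomputable def homOfGlobal (h : Γ(RefHull.homSh M N, ⊤)) : M ⟶ N :=
  ⟨PresheafOfModules.homMk
    { app := fun V => AddCommGrpCat.ofHom
        (AddMonoidHom.mk' (fun m : Γ(M, V.unop) => RefRank.applySec h le_top m) fun m m' =>
          RefRank.mod_section_ext N fun x hx => by
            refine (RefRank.germ_applySec h le_top _ x hx).trans ?_
            refine ((congrArg (h.1 ⟨x, trivial⟩) ((QCohMod.germ M x hx).map_add m m')).trans (map_add _ _ _)).trans ?_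
            exact ((map_add _ _ _).trans (congrArg₂ (· + ·) (RefRank.germ_applySec h le_top m x hx)
              (RefRank.germ_applySec h le_top m' x hx))).symm)
      naturality := fun V W i => by
        ext m
        exact (RefRank.res_applySec h le_top (leOfHom i.unop) m).symm }
    (fun V r m => RefRank.mod_section_ext N fun x hx => by
      refine (RefRank.germ_applySec h le_top _ x hx).trans ?_
      refine ((congrArg (h.1 ⟨x, trivial⟩) (QCohMod.germ_smul M x hx r m)).trans ((h.1 ⟨x, trivial⟩).map_smul _ _)).trans ?_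
      exact ((QCohMod.germ_smul N x hx r _).trans (congrArg _ (RefRank.germ_applySec h le_top m x hx))).symm)⟩

omit [X.Over (Spec (CommRingCat.of A))] in
lemma homOfGlobal_app (h : Γ(RefHull.homSh M N, ⊤)) (V : X.Opens) (m : Γ(M, V)) :
    (homOfGlobal h).app V m = RefRank.applySec h le_top m := rfl

include hM hN in
/-- **Completion is fully faithful**, given formal functions for the sheaf Hom. -/
theorem existsUnique_hom_of_bijective
    (hbij : Function.Bijective (Formal.toHHlim I (RefHull.homSh M N) 0))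
    (ψ : Formal.completion I M ⟶ Formal.completion I N) :
    ∃! φ : M ⟶ N, ∀ n : ℕ, Formal.modPowπ I (n + 1) M ≫ ψ.app (op n) = φ ≫ Formal.modPowπ I (n + 1) N := by
  classical
  have := hM.1
  have := hN.1
  let H := RefHull.homSh M N
  have hH : Coh.IsCoh H := RefRank.isCoh_homSh hM hN
  have := hH.1
  -- the maps `M ⟶ N/I^j N`
  let χ : ∀ k, M ⟶ Formal.modPow I (k + 1) N := fun k => Formal.modPowπ I (k + 1) M ≫ ψ.app (op k)
  have hχ : ∀ {i j : ℕ} (hij : i ≤ j), χ j ≫ qTr N (Ideal.pow_le_pow_right (Nat.succ_le_succ hij) :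
      I ^ (j + 1) ≤ I ^ (i + 1)) = χ i := fun {i j} hij => by
    have e : qTr N (Ideal.pow_le_pow_right (Nat.succ_le_succ hij) : I ^ (j + 1) ≤ I ^ (i + 1)) =
        sysMap (Formal.completion I N) hij := (isQuot_modPowπ I (j + 1) N).hom_ext
      ((modPowπ_qTr N _).trans (modPowπ_sysMap I N hij).symm)
    rw [e]
    exact (Category.assoc _ _ _).trans ((congrArg (Formal.modPowπ I (j + 1) M ≫ ·)
      (ψ.naturality (homOfLE hij).op).symm).trans ((Category.assoc _ _ _).symm.trans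
        (congrArg (· ≫ ψ.app (op i)) (modPowπ_sysMap I M hij))))
  let C : ∀ j, M ⟶ Formal.modPow I j N := fun j =>
    χ j ≫ qTr N (Ideal.pow_le_pow_right (Nat.le_succ j) : I ^ (j + 1) ≤ I ^ j)
  have hC : ∀ {i j : ℕ} (hij : i ≤ j), C j ≫ qTr N (Ideal.pow_le_pow_right hij : I ^ j ≤ I ^ i) = C i := by
    intro i j hij
    refine (Category.assoc (χ j) _ _).trans ?_
    rw [qTr_comp, ← qTr_comp N (Ideal.pow_le_pow_right (Nat.le_succ i) : I ^ (i + 1) ≤ I ^ i)
      (Ideal.pow_le_pow_right (Nat.succ_le_succ hij) : I ^ (j + 1) ≤ I ^ (i + 1)), ← Category.assoc, hχ hij]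
  have hC' : ∀ k, C (k + 1) = χ k := fun k => hχ (Nat.le_succ k)
  -- constants
  obtain ⟨F, hF⟩ := exists_finset_affineCover X
  choose cst hE hU using fun U : X.affineOpens => exists_local_constant I hM hN U.2
  have hinter : ∀ U V : X.affineOpens, ∃ G : Finset X.affineOpens, (∀ W ∈ G, W.1 ≤ U.1 ⊓ V.1) ∧
      ∀ x ∈ U.1 ⊓ V.1, ∃ W ∈ G, x ∈ W.1 := fun U V => by
    obtain ⟨G, hG⟩ := (TopologicalSpace.NoetherianSpace.isCompact ((U.1 ⊓ V.1 : X.Opens) : Set X)).elim_finite_subcover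
      (fun W : {W : X.affineOpens // W.1 ≤ U.1 ⊓ V.1} => ((W.1.1 : X.Opens) : Set X)) (fun W => W.1.1.2)
      (fun x hx => by
        obtain ⟨_, ⟨W, hW, rfl⟩, hxW, hWV⟩ :=
          X.isBasis_affineOpens.exists_subset_of_mem_open hx (U.1 ⊓ V.1).2
        exact Set.mem_iUnion.2 ⟨⟨⟨W, hW⟩, hWV⟩, hxW⟩)
    refine ⟨G.image Subtype.val, fun W hW => ?_, fun x hx => ?_⟩
    · obtain ⟨W', -, rfl⟩ := Finset.mem_image.1 hW
      exact W'.2
    · obtain ⟨W, hW, hxW⟩ := Set.mem_iUnion₂.1 (hG hx)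
      exact ⟨W.1, Finset.mem_image_of_mem _ hW, hxW⟩
  choose inter hinterle hintercov using hinter
  set c := max (F.sup cst) ((F ×ˢ F).sup fun p => (inter p.1 p.2).sup cst) with hc
  have hcU : ∀ U ∈ F, cst U ≤ c := fun U hUF => (Finset.le_sup hUF).trans (le_max_left _ _)
  have hcI : ∀ U ∈ F, ∀ V ∈ F, ∀ W ∈ inter U V, cst W ≤ c := fun U hUF V hVF W hW =>
    ((Finset.le_sup (f := cst) hW).trans
      (Finset.le_sup (f := fun p : X.affineOpens × X.affineOpens => (inter p.1 p.2).sup cst)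
        (Finset.mk_mem_product hUF hVF : (U, V) ∈ F ×ˢ F))).trans (le_max_right _ _)
  let U' : F → X.Opens := fun U => ((U : X.affineOpens) : X.Opens)
  have hglue : ∀ (Q : X.Modules) (s t : Γ(Q, ⊤)),
      (∀ U : F, CohTwo.res Q (le_top : U' U ≤ ⊤) s = CohTwo.res Q le_top t) → s = t := fun Q s t h => by
    refine CohTwo.eq_of_local Q s t fun x _ => ?_
    obtain ⟨U, hUF, hxU⟩ := hF x
    exact ⟨U' ⟨U, hUF⟩, le_top, hxU, h ⟨U, hUF⟩⟩
  -- local sections
  have hloc : ∀ (n : ℕ) (U : F), ∃ g : Γ(H, U' U), Sat g (C (n + c)) (Formal.modPowπ I (n + c) N) := by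
    intro n U
    obtain ⟨g, hg⟩ := hE U (n + c) (n + c + c) (Nat.add_le_add_left (hcU U U.2) _) (C (n + c + c))
      (Ideal.pow_le_pow_right (Nat.le_add_right _ _))
    exact ⟨g, by rwa [hC (Nat.le_add_right (n + c) c)] at hg⟩
  choose g hg using hloc
  have hgs : ∀ n, ∃ s : Γ(Formal.modPow I n H, ⊤), ∀ U : F,
      CohTwo.res _ (le_top : U' U ≤ ⊤) s = (Formal.modPowπ I n H).app (U' U) (g n U) := by
    intro n
    obtain ⟨s, hs⟩ := CohTwo.exists_glue (Formal.modPow I n H) (W := ⊤) U' (fun _ => le_top)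
      (fun x _ => by
        obtain ⟨U, hUF, hxU⟩ := hF x
        exact ⟨⟨U, hUF⟩, hxU⟩)
      (fun U => (Formal.modPowπ I n H).app (U' U) (g n U)) (fun U V => by
        refine CohTwo.eq_of_local _ _ _ fun x hx => ?_
        obtain ⟨W, hW, hxW⟩ := hintercov U V x hx
        refine ⟨W.1, hinterle U V W hW, hxW, ?_⟩
        rw [← CohTwo.app_res, ← CohTwo.app_res, ← CohTwo.app_res, ← CohTwo.app_res, ← sub_eq_zero, ← map_sub]
        exact hU W n (n + c) (Nat.add_le_add_left (hcI U U.2 V V.2 W hW) _) _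
          ((((hg n U).res _).res _).sub (((hg n V).res _).res _)))
    exact ⟨s, hs⟩
  choose s hs using hgs
  have hcompat : ∀ n, (qTr H (Ideal.pow_le_pow_right (Nat.le_succ n) : I ^ (n + 1) ≤ I ^ n)).app ⊤ (s (n + 1)) = s n := by
    intro n
    refine hglue _ _ _ fun U => ?_
    rw [← CohTwo.app_res, hs, hs, app_comp_apply, modPowπ_qTr, ← sub_eq_zero, ← map_sub]
    have h1 := (hg (n + 1) U).postcomp (qTr N (Ideal.pow_le_pow_right (show n + c ≤ n + 1 + c by omega) :
      I ^ (n + 1 + c) ≤ I ^ (n + c)))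
    rw [hC (show n + c ≤ n + 1 + c by omega), modPowπ_qTr] at h1
    exact hU U n (n + c) (Nat.add_le_add_left (hcU U U.2) _) _ (h1.sub (hg n U))
  let y : Formal.HHlim I H 0 := ⟨fun k => (secEquiv₀ _).symm (s (k + 1)), fun k => by
    rw [HHmodPowTrans_eq]
    refine (secEquiv₀ _).injective ?_
    rw [secEquiv₀_hmap, AddEquiv.apply_symm_apply, AddEquiv.apply_symm_apply]
    exact hcompat (k + 1)⟩
  obtain ⟨h₀, hh₀⟩ := hbij.2 y
  set h := secEquiv₀ H h₀
  have hh : ∀ k, (Formal.modPowπ I (k + 1) H).app ⊤ h = s (k + 1) := fun k => by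
    have := congrArg (fun z : Formal.HHlim I H 0 => secEquiv₀ _ ((z : ∀ n, Formal.HHmodPow I H 0 n) k)) hh₀
    refine ((secEquiv₀_hmap (A := A) (Formal.modPowπ I (k + 1) H) h₀).symm.trans this).trans ?_
    exact (secEquiv₀ _).apply_symm_apply _
  refine ⟨homOfGlobal h, fun k => ?_, fun φ' hφ' => ?_⟩
  · change χ k = _
    refine CohTwo.hom_ext_app fun V m => CohTwo.eq_of_local _ _ _ fun x hx => ?_
    obtain ⟨U, hUF, hxU⟩ := hF x
    refine ⟨U' ⟨U, hUF⟩ ⊓ V, inf_le_right, ⟨hxU, hx⟩, ?_⟩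
    rw [← CohTwo.app_res, ← CohTwo.app_res]
    set U₀ : F := ⟨U, hUF⟩
    have h1 : Sat (CohTwo.res H (le_top : U' U₀ ≤ ⊤) h) (C (k + 1)) (Formal.modPowπ I (k + 1) N) := by
      have hd : (Formal.modPowπ I (k + 1) H).app (U' U₀) (CohTwo.res H le_top h - g (k + 1) U₀) = 0 := by
        rw [map_sub, CohTwo.app_res, hh, hs, sub_self]
      have hd' := ((isQuot_modPowπ I (k + 1) H).app_eq_zero_iff _ U.2).1 hd
      have hsat0 : Sat (CohTwo.res H (le_top : U' U₀ ≤ ⊤) h - g (k + 1) U₀) 0 (Formal.modPowπ I (k + 1) N) := by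
        refine sat_of_app U.2 fun z => ?_
        have h2 := Submodule.mem_map_of_mem
          (f := (RefRank.secLinEquiv (F := M) (G := N) U.2).toLinearMap) hd'
        rw [Submodule.map_smul''] at h2
        have h3 := apply_mem_smul_top_of_mem (Submodule.smul_mono le_rfl le_top h2) z
        exact (app_eq_zero_of_mem_smul _ (isQuot_modPowπ I (k + 1) N).le_ann h3).trans rfl
      have h4 := (hg (k + 1) U₀).postcomp (qTr N (Ideal.pow_le_pow_right (Nat.le_add_right (k + 1) c) :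
        I ^ (k + 1 + c) ≤ I ^ (k + 1)))
      rw [hC (Nat.le_add_right (k + 1) c), modPowπ_qTr] at h4
      intro z
      have e0 := hsat0 z
      rw [stalkMapₗ_zero] at e0
      rw [show (CohTwo.res H (le_top : U' U₀ ≤ ⊤) h).1 z =
        (CohTwo.res H (le_top : U' U₀ ≤ ⊤) h - g (k + 1) U₀).1 z + (g (k + 1) U₀).1 z from (sub_add_cancel _ _).symm,
        LinearMap.comp_add, e0, zero_add, h4 z]
    rw [← hC', ← (h1.app (inf_le_left : U' U₀ ⊓ V ≤ U' U₀))]
    change _ = (Formal.modPowπ I (k + 1) N).app _ ((homOfGlobal h).app _ _)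
    rw [homOfGlobal_app]
    congr 1
  · let h' := RefHull.ofHom φ' ⊤
    have hh' : ∀ j, Sat h' (C j) (Formal.modPowπ I j N) := fun j z => by
      rw [RefHull.ofHom_apply, ← stalkMapₗ_comp, ← modPowπ_qTr N (Ideal.pow_le_pow_right (Nat.le_succ j) :
        I ^ (j + 1) ≤ I ^ j), ← Category.assoc, ← hφ' j]
      rfl
    have hs' : ∀ k, (Formal.modPowπ I (k + 1) H).app ⊤ h' = s (k + 1) := fun k => by
      refine hglue _ _ _ fun U => ?_
      rw [← CohTwo.app_res, hs, ← sub_eq_zero, ← map_sub]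
      exact hU U (k + 1) (k + 1 + c) (Nat.add_le_add_left (hcU U U.2) _) _
        (((hh' (k + 1 + c)).res _).sub (hg (k + 1) U))
    have : (secEquiv₀ H).symm h' = h₀ := hbij.1 (by
      rw [hh₀]
      refine Subtype.ext (funext fun k => ?_)
      change Formal.toHHmodPow I H 0 k ((secEquiv₀ H).symm h') = (secEquiv₀ _).symm (s (k + 1))
      refine (secEquiv₀ _).injective ?_
      rw [toHHmodPow_eq, secEquiv₀_hmap, AddEquiv.apply_symm_apply, AddEquiv.apply_symm_apply, hs'])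
    have e : h' = h := by
      simp only [h, ← this, AddEquiv.apply_symm_apply]
    refine CohTwo.hom_ext_app fun V m => RefRank.mod_section_ext N fun z hz => ?_
    rw [homOfGlobal_app, ← e, RefRank.germ_applySec]
    exact (RefHull.stalkMapₗ_germ φ' z hz m).symm

include hM hN in
/-- **Completion is fully faithful**, given finiteness of cohomology. -/
theorem existsUnique_hom [IsNoetherianRing A] [IsAdicComplete I A]
    (hfin : ∀ p, Module.Finite A (Coh.HH X (RefHull.homSh M N) p))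
    (ψ : Formal.completion I M ⟶ Formal.completion I N) :
    ∃! φ : M ⟶ N, ∀ n : ℕ, Formal.modPowπ I (n + 1) M ≫ ψ.app (op n) = φ ≫ Formal.modPowπ I (n + 1) N :=
  existsUnique_hom_of_bijective I hM hN
    ((proBij I (RefRank.isCoh_homSh hM hN) hfin 0).toHHlim_bijective (hfin 0)) ψ

end Groth.CohC3
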