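import Groth.Agent.CohFin.Proper
import Groth.Agent.CohFin.Rpush
import Groth.Agent.CohTwo.CohInduction
import Groth.Agent.QCohMod.Killed
import Groth.Agent.QCohMod.PullbackQCoh
import Groth.Prelude.Def_ClSub2
import Groth.Agent.CohC3.FullyFaithful

/-! Finiteness of cohomology of coherent modules with proper support. -/

universe u

open CategoryTheory CategoryTheory.Limits AlgebraicGeometry Opposite TopologicalSpace

namespace Groth.CohC3

open Groth.CohBase Groth.CohFin

variable {A : Type u} [CommRing A] {X Z : Scheme.{u}}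

/-- Direct image along a closed immersion is exact on all modules. -/
lemma shortExact_push_closed (i : Z ⟶ X) [IsClosedImmersion i] {S : ShortComplex Z.Modules}
    (hS : S.ShortExact) : (S.map (Scheme.Modules.pushforward i)).ShortExact := by
  haveI := hS.mono_f
  haveI := hS.epi_g
  refine { exact := hS.exact.map_of_mono_of_preservesKernel _ hS.mono_f inferInstance
           mono_f := inferInstanceAs (Mono ((Scheme.Modules.pushforward i).map S.f))
           epi_g := ?_ }
  refine (Groth.QCohMod.epi_iff_stalk _).2 fun x t => ?_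
  by_cases hx : x ∈ Set.range i
  · obtain ⟨z, rfl⟩ := hx
    obtain ⟨s, hs⟩ := (Groth.QCohMod.epi_iff_stalk S.g).1 inferInstance z
      (Groth.CohTwo.pushStalk i S.X₃ z t)
    obtain ⟨s', hs'⟩ := (Groth.CohTwo.bijective_pushStalk i S.X₂ z).2 s
    refine ⟨s', (Groth.CohTwo.bijective_pushStalk i S.X₃ z).1 ?_⟩
    rw [← hs, ← hs']
    obtain ⟨U, hU, m, rfl⟩ := Groth.QCohMod.exists_germ
      ((Scheme.Modules.pushforward i).obj S.X₂) (i z) s'
    change Groth.CohTwo.pushStalk i S.X₃ z ((Groth.QCohMod.stalk (i z)).map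
      ((Scheme.Modules.pushforward i).map S.g) (Groth.QCohMod.germ _ (i z) hU m)) = _
    rw [Groth.QCohMod.stalk_map_germ]
    refine (Groth.CohTwo.pushStalk_germ i S.X₃ z hU _).trans ?_
    refine Eq.trans ?_ (congrArg _ (Groth.CohTwo.pushStalk_germ i S.X₂ z hU m).symm)
    exact (Groth.QCohMod.stalk_map_germ S.g z (U := i ⁻¹ᵁ U) hU _).symm
  · haveI : Subsingleton ↑((Groth.QCohMod.stalk x).obj ((Scheme.Modules.pushforward i).obj S.X₃)) :=
      not_not.1 fun h => hx (Groth.CohTwo.support_push_subset i S.X₃ h)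
    exact ⟨0, this.elim _ _⟩

/-- Higher cohomology of injective modules vanishes, also after direct image. -/
lemma subsingleton_HH_push_injective (i : Z ⟶ X) (I : Z.Modules) [Injective I] (n : ℕ) :
    Subsingleton (Coh.HH X ((Scheme.Modules.pushforward i).obj I) (n + 1)) := by
  haveI : TopCat.Sheaf.IsFlasque (abSheaf ((Scheme.Modules.pushforward i).obj I)) :=
    (Groth.SiteCohomology.isFlasque_iff_surjective _).2
      fun U V h => res_surjective_of_injective I ((Opens.map i.base).map h).le
  exact (subsingleton_H_iff (X := X.toTopCat) _ _).2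
    (Groth.SiteCohomology.subsingleton_HU_succ_of_flasque
      (abSheaf ((Scheme.Modules.pushforward i).obj I)) ⊤ n)

/-- `H^n(X, i_* M) ≅ H^n(Z, M)` for a closed immersion. -/
theorem nonempty_linearEquiv_push_closed (i : Z ⟶ X) [IsClosedImmersion i]
    (s : X ⟶ Spec (CommRingCat.of A)) (n : ℕ) (M : Z.Modules) :
    Nonempty (HA s ((Scheme.Modules.pushforward i).obj M) n ≃ₗ[A] HA (i ≫ s) M n) := by
  induction n generalizing M with
  | zero => exact ⟨pushZero i s M⟩
  | succ n ih =>
    let ι := Injective.ι M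
    let S := ShortComplex.mk ι (cokernel.π ι) (cokernel.condition _)
    have hS : S.ShortExact :=
      { exact := ShortComplex.exact_of_g_is_cokernel _ (cokernelIsCokernel ι)
        mono_f := inferInstanceAs (Mono (Injective.ι M))
        epi_g := inferInstanceAs (Epi (cokernel.π ι)) }
    have hS' := shortExact_push_closed i hS
    have hIX : ∀ m, Subsingleton (HA s ((Scheme.Modules.pushforward i).obj (Injective.under M)) (m + 1)) :=
      fun m => subsingleton_HH_push_injective i (Injective.under M) m
    have hIZ : ∀ m, Subsingleton (HA (i ≫ s) (Injective.under M) (m + 1)) :=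
      fun m => (subsingleton_H_iff (X := Z.toTopCat) _ _).2
        (hVanish_of_injective_module (Injective.under M) ⊤ m)
    have hδ : Function.Surjective (delta (f := i ≫ s) hS n) := fun y =>
      ((exact_delta_mapL (f := i ≫ s) hS n) y).1 (@Subsingleton.elim _ (hIZ n) _ _)
    have hδ' : Function.Surjective (delta (f := s) hS' n) := fun y =>
      ((exact_delta_mapL (f := s) hS' n) y).1 (@Subsingleton.elim _ (hIX n) _ _)
    rcases n with _ | n
    · let p := pushZero i s (cokernel ι)
      have hker : (LinearMap.ker (delta (f := s) hS' 0)).map p.toLinearMap =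
          LinearMap.ker (delta (f := i ≫ s) hS 0) := by
        ext x
        constructor
        · rintro ⟨x', hx', rfl⟩
          obtain ⟨y, rfl⟩ := (exact_mapL_delta (f := s) hS' 0 x').1 hx'
          refine (exact_mapL_delta (f := i ≫ s) hS 0 _).2 ⟨pushZero i s _ y, ?_⟩
          exact (pushZero_mapL i s (cokernel.π ι) y).symm
        · intro hx
          obtain ⟨y, rfl⟩ := (exact_mapL_delta (f := i ≫ s) hS 0 x).1 hx
          refine ⟨mapL s ((Scheme.Modules.pushforward i).map (cokernel.π ι)) 0
            ((pushZero i s _).symm y), (exact_mapL_delta (f := s) hS' 0 _).2 ⟨_, rfl⟩, ?_⟩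
          refine (pushZero_mapL i s (cokernel.π ι) _).trans ?_
          rw [LinearEquiv.apply_symm_apply]
      exact ⟨((delta (f := s) hS' 0).quotKerEquivOfSurjective hδ').symm ≪≫ₗ
        Submodule.Quotient.equiv _ _ p hker ≪≫ₗ
        (delta (f := i ≫ s) hS 0).quotKerEquivOfSurjective hδ⟩
    · obtain ⟨e⟩ := ih (cokernel ι)
      have hi : Function.Injective (delta (f := i ≫ s) hS (n + 1)) :=
        (injective_iff_map_eq_zero _).2 fun x hx => by
          obtain ⟨y, rfl⟩ := (exact_mapL_delta (f := i ≫ s) hS (n + 1) x).1 hx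
          rw [show y = 0 from @Subsingleton.elim _ (hIZ n) _ _, map_zero]
      have hi' : Function.Injective (delta (f := s) hS' (n + 1)) :=
        (injective_iff_map_eq_zero _).2 fun x hx => by
          obtain ⟨y, rfl⟩ := (exact_mapL_delta (f := s) hS' (n + 1) x).1 hx
          rw [show y = 0 from @Subsingleton.elim _ (hIX n) _ _, map_zero]
      exact ⟨(LinearEquiv.ofBijective (delta (f := s) hS' (n + 1)) ⟨hi', hδ'⟩).symm ≪≫ₗ e ≪≫ₗ
        LinearEquiv.ofBijective (delta (f := i ≫ s) hS (n + 1)) ⟨hi, hδ⟩⟩

/-- Finiteness for coherent modules with support contained in a closed subset proper over `A`. -/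
theorem hFin_of_properSupport (hP : ProjFinite.{u}) [IsNoetherianRing A] [IsNoetherian X]
    (s : X ⟶ Spec (CommRingCat.of A)) {T : Set X} (hT : ClSub.IsProperOver s T)
    {F : X.Modules} (hF : Coh.IsCoh F) (hs : CohB1.support F ⊆ T) (q : ℕ) : HFin s F q := by
  obtain ⟨hc, hp⟩ := hT
  refine Groth.CohTwo.coh_induction (fun G => ∀ q, HFin s G q)
    (fun M N e h q => hFin_of_iso e.some (h q)) (fun M hM q => hFin_of_isZero hM q)
    (fun S hS _ _ _ h₁ h₃ q => hFin_middle hS (h₁ q) (h₃ q)) T ?_ hc F hF hs q
  intro Y ξ hY hYT G hG hkill _ q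
  haveI := hG.1
  let J := Scheme.IdealSheafData.vanishingIdeal Y
  let J' := Scheme.IdealSheafData.vanishingIdeal ⟨T, hc⟩
  have hle : J' ≤ J := Scheme.IdealSheafData.gc.monotone_u (show Y ≤ (⟨T, hc⟩ : Closeds X) from hYT)
  haveI : IsProper (J.subschemeι ≫ s) := by
    rw [← Scheme.IdealSheafData.inclusion_subschemeι hle, Category.assoc]
    haveI : IsProper (J'.subschemeι ≫ s) := hp
    infer_instance
  haveI hu : IsIso ((Scheme.Modules.pullbackPushforwardAdjunction J.subschemeι).unit.app G) :=
    (Groth.QCohMod.isIso_unit_closedImmersion_iff J.subschemeι G).2 fun U a ha m => by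
      rw [Scheme.IdealSheafData.ker_subschemeι] at ha
      exact hkill.smul_eq_zero U.2 ha m
  have hG' : Coh.IsCoh ((Scheme.Modules.pullback J.subschemeι).obj G) :=
    ⟨Groth.QCohMod.isQCoh_pullback_obj J.subschemeι G, Groth.QCohMod.isFT_pullback J.subschemeι G hG.2⟩
  refine hFin_of_iso (asIso ((Scheme.Modules.pullbackPushforwardAdjunction J.subschemeι).unit.app G)).symm ?_
  obtain ⟨e⟩ := nonempty_linearEquiv_push_closed J.subschemeι s q
    ((Scheme.Modules.pullback J.subschemeι).obj G)
  exact (Module.Finite.equiv_iff e).2 (hFin_of_proper hP q _ (J.subschemeι ≫ s) _ hG')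

end Groth.CohC3

namespace Groth.CohC3

/-- The support of the sheaf Hom lies in both supports. -/
theorem support_homSh_subset {X : Scheme.{u}} {M N : X.Modules} (hM : IsClosed (CohB1.support M))
    (hN : IsClosed (CohB1.support N)) :
    CohB1.support (RefHull.homSh M N) ⊆ CohB1.support M ∩ CohB1.support N := by
  intro x hx
  by_contra hx'
  refine hx (subsingleton_of_forall_eq 0 fun t => ?_)
  obtain ⟨U, hxU, g, rfl⟩ := TopCat.Presheaf.exists_germ_eq (RefHull.homSh M N).presheaf t
  let V : X.Opens := U ⊓ ⟨(CohB1.support M ∩ CohB1.support N)ᶜ, (hM.inter hN).isOpen_compl⟩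
  have hV : (RefHull.homSh M N).presheaf.map (homOfLE (inf_le_left : V ≤ U)).op g = 0 := by
    refine Subtype.ext (funext fun y => LinearMap.ext fun m => ?_)
    by_cases hy : y.1 ∈ CohB1.support M
    · exact @Subsingleton.elim _ (not_not.1 fun h => y.2.2 ⟨hy, h⟩) _ _
    · rw [@Subsingleton.elim _ (not_not.1 hy) m 0, map_zero]
      exact (map_zero _).symm
  rw [← TopCat.Presheaf.germ_res_apply (RefHull.homSh M N).presheaf
    (homOfLE (inf_le_left : V ≤ U)) x ⟨hxU, hx'⟩ g]
  exact (congrArg _ hV).trans (map_zero _)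

end Groth.CohC3
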