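import Groth.Agent.CohC3.LimitSys
import Groth.Agent.QCohMod.Coherent

/-! Checking properties of morphisms on an affine cover; Artin–Rees on affine opens. -/

universe u

open CategoryTheory CategoryTheory.Limits AlgebraicGeometry Opposite TopologicalSpace

namespace Groth.CohC3

variable {X : Scheme.{u}}

/-- A morphism out of a quasi-coherent module vanishing on the sections over an affine cover is zero. -/
lemma hom_eq_zero_of_cover {M N : X.Modules} [M.IsQuasicoherent] (φ : M ⟶ N)
    (h : ∀ x : X, ∃ U : X.Opens, IsAffineOpen U ∧ x ∈ U ∧ ∀ s, φ.app U s = 0) : φ = 0 := by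
  refine CohTwo.hom_ext_app fun W s => CohTwo.eq_of_local N _ _ fun x hx => ?_
  obtain ⟨U, hU, hxU, h0⟩ := h x
  obtain ⟨f, hfW, hxf⟩ := hU.exists_basicOpen_le (V := W) ⟨x, hx⟩ hxU
  refine ⟨X.basicOpen f, hfW, hxf, ?_⟩
  rw [← CohTwo.app_res, ← CohTwo.app_res]
  set s' := CohTwo.res M hfW s
  change φ.app _ s' = (0 : M ⟶ N).app _ s'
  obtain ⟨n, t, ht⟩ := QCohMod.exists_pow_smul_eq_res M hU f s'
  have hu : IsUnit (QCohMod.resFun X (X.basicOpen_le f) f) :=
    RingedSpace.isUnit_res_basicOpen X.toRingedSpace f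
  have hz : QCohMod.resFun X (X.basicOpen_le f) f ^ n • φ.app _ s' = 0 := by
    rw [← Scheme.Modules.Hom.app_smul, ← ht, ← QCohMod.res_app, h0, map_zero]
  rw [(hu.pow n).smul_eq_zero.1 hz]
  rfl

/-- A morphism of quasi-coherent modules surjective on sections over an affine cover is epi. -/
lemma epi_of_cover {M N : X.Modules} [M.IsQuasicoherent] [N.IsQuasicoherent] (φ : M ⟶ N)
    (h : ∀ x : X, ∃ U : X.Opens, IsAffineOpen U ∧ x ∈ U ∧ Function.Surjective (φ.app U)) : Epi φ := by
  refine Preadditive.epi_of_isZero_cokernel φ ?_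
  rw [IsZero.iff_id_eq_zero, ← cancel_epi (cokernel.π φ), comp_zero, Category.comp_id]
  refine hom_eq_zero_of_cover _ fun x => ?_
  obtain ⟨U, hU, hxU, hs⟩ := h x
  refine ⟨U, hU, hxU, fun s => ?_⟩
  obtain ⟨m, rfl⟩ := hs s
  exact congr(($(cokernel.condition φ)).app U m)

variable {A : Type u} [CommRing A] [X.Over (Spec (CommRingCat.of A))]

lemma baseApp_resR {U V : X.Opens} (h : V ≤ U) (a : A) :
    CohTwo.resR X h (baseApp X U a) = baseApp X V a :=
  baseApp_res h a

lemma baseApp_smul_app_eq_zero {M N : X.Modules} (p : M ⟶ N) (U : X.Opens) {a : A}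
    (ha : a ∈ annHom p) (s : Γ(M, U)) : baseApp X U a • p.app U s = 0 := by
  rw [← p.app_smul]
  exact congr(($((mem_annHom p a).1 ha)).app U s)

/-- `J M(U)` dies under a morphism annihilated by `J`. -/
lemma app_eq_zero_of_mem_smul {M N : X.Modules} (p : M ⟶ N) {J : Ideal A} (hJ : J ≤ annHom p)
    {U : X.Opens} {s : Γ(M, U)}
    (hs : s ∈ (J.map (baseApp X U)) • (⊤ : Submodule Γ(X, U) Γ(M, U))) : p.app U s = 0 := by
  refine Submodule.smul_induction_on hs (fun r hr m _ => ?_) (fun a b ha hb => by rw [map_add, ha, hb, add_zero])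
  rw [p.app_smul]
  induction hr using Submodule.span_induction with
  | mem z hz =>
    obtain ⟨a, ha, rfl⟩ := hz
    exact baseApp_smul_app_eq_zero p U (hJ ha) m
  | zero => rw [zero_smul]
  | add a b _ _ ha hb => rw [add_smul, ha, hb, add_zero]
  | smul c a _ ha => rw [smul_eq_mul, mul_smul, ha, smul_zero]

/-- On a Noetherian scheme finitely many elements of `S` suffice to test annihilation by `S`. -/
lemma exists_finset_le_annHom (X : Scheme.{u}) [X.Over (Spec (CommRingCat.of A))] [IsNoetherian X]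
    (S : Set A) : ∃ T : Finset A, ↑T ⊆ S ∧
      ∀ {M N : X.Modules} (p : M ⟶ N), (∀ a ∈ T, a ∈ annHom p) → Ideal.span S ≤ annHom p := by
  classical
  have hU : ∀ x : X, ∃ U : X.Opens, IsAffineOpen U ∧ x ∈ U := fun x => QCohMod.exists_affine_mem x
  choose U hUa hxU using hU
  obtain ⟨F, hF⟩ := CompactSpace.isCompact_univ.elim_finite_subcover (fun x : X => (U x : Set X))
    (fun x => (U x).2) (fun x _ => Set.mem_iUnion.2 ⟨x, hxU x⟩)
  have hfin : ∀ x : X, ∃ T : Finset A, ↑T ⊆ S ∧ (Ideal.span S).map (baseApp X (U x)) =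
      Ideal.span (baseApp X (U x) '' (T : Set A)) := by
    intro x
    have : IsNoetherianRing Γ(X, U x) :=
      IsLocallyNoetherian.component_noetherian ⟨U x, hUa x⟩
    obtain ⟨T, hTS, hT⟩ := (Submodule.fg_span_iff_fg_span_finset_subset _).1
      (IsNoetherian.noetherian (Submodule.span Γ(X, U x) (baseApp X (U x) '' S)))
    choose g hgS hg using fun t : T => hTS t.2
    refine ⟨Finset.univ.image g, fun a ha => ?_, ?_⟩
    · obtain ⟨t, -, rfl⟩ := Finset.mem_image.1 ha
      exact hgS t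
    · rw [Ideal.map_span]
      refine le_antisymm ?_ (Ideal.span_mono ?_)
      · rw [show Ideal.span (baseApp X (U x) '' S) = Submodule.span _ (T : Set Γ(X, U x)) from hT]
        exact Ideal.span_mono fun t ht => ⟨g ⟨t, ht⟩, by simp, hg ⟨t, ht⟩⟩
      · rintro - ⟨a, ha, rfl⟩
        obtain ⟨t, -, rfl⟩ := Finset.mem_image.1 (Finset.mem_coe.1 ha)
        exact ⟨g t, hgS t, rfl⟩
  choose T hTS hT using hfin
  refine ⟨F.biUnion T, fun a ha => ?_, fun {M N} p hp => Ideal.span_le.2 fun a ha => ?_⟩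
  · obtain ⟨x, -, hax⟩ := Finset.mem_biUnion.1 (Finset.mem_coe.1 ha)
    exact hTS x hax
  · change Formal.smulMod A M a ≫ p = 0
    refine CohTwo.hom_ext_app fun W s => CohTwo.eq_of_local N _ _ fun y hy => ?_
    obtain ⟨x, hxF, hyx⟩ : ∃ x ∈ F, y ∈ U x := by simpa using hF (Set.mem_univ y)
    refine ⟨U x ⊓ W, inf_le_right, ⟨hyx, hy⟩, ?_⟩
    rw [← CohTwo.app_res, ← CohTwo.app_res]
    set V := U x ⊓ W
    set s' := CohTwo.res M (inf_le_right : V ≤ W) s
    change p.app V (baseApp X V a • s') = 0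
    rw [p.app_smul]
    have hmem : baseApp X (U x) a ∈ (Ideal.span S).map (baseApp X (U x)) :=
      Ideal.mem_map_of_mem _ (Ideal.subset_span ha)
    rw [hT] at hmem
    have hV : baseApp X V a ∈ Ideal.span (baseApp X V '' (T x : Set A)) := by
      have := Ideal.mem_map_of_mem (CohTwo.resR X (inf_le_left : V ≤ U x)) hmem
      rw [baseApp_resR, Ideal.map_span, Set.image_image] at this
      simpa only [baseApp_resR] using this
    generalize baseApp X V a = r at hV ⊢
    induction hV using Submodule.span_induction with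
    | mem z hz =>
      obtain ⟨b, hb, rfl⟩ := hz
      exact baseApp_smul_app_eq_zero p V (hp b (Finset.mem_biUnion.2 ⟨x, hxF, hb⟩)) s'
    | zero => rw [zero_smul]
    | add c d _ _ hc hd => rw [add_smul, hc, hd, add_zero]
    | smul c d _ hd => rw [smul_eq_mul, mul_smul, hd, smul_zero]

/-- A finite affine cover of a quasi-compact scheme. -/
lemma exists_finset_affineCover (X : Scheme.{u}) [CompactSpace X] :
    ∃ F : Finset X.affineOpens, ∀ x : X, ∃ U ∈ F, x ∈ (U : X.Opens) := by
  classical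
  obtain ⟨F, hF⟩ := CompactSpace.isCompact_univ.elim_finite_subcover
    (fun U : X.affineOpens => ((U : X.Opens) : Set X)) (fun U => (U : X.Opens).2) (fun x _ => by
      obtain ⟨U, hU, hx⟩ := QCohMod.exists_affine_mem x
      exact Set.mem_iUnion.2 ⟨⟨U, hU⟩, hx⟩)
  exact ⟨F, fun x => by simpa using hF (Set.mem_univ x)⟩

/-- A bound valid on every member of a finite affine cover. -/
lemma exists_uniform (X : Scheme.{u}) [CompactSpace X] (P : X.affineOpens → ℕ → Prop)
    (hmono : ∀ U {i j}, i ≤ j → P U i → P U j) (h : ∀ U, ∃ c, P U c) :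
    ∃ c, ∀ x : X, ∃ U : X.affineOpens, x ∈ (U : X.Opens) ∧ P U c := by
  obtain ⟨F, hF⟩ := exists_finset_affineCover X
  choose c hc using h
  refine ⟨F.sup c, fun x => ?_⟩
  obtain ⟨U, hU, hx⟩ := hF x
  exact ⟨U, hx, hmono U (Finset.le_sup hU) (hc U)⟩

end Groth.CohC3

namespace Groth.CohC3

/-- Artin–Rees in the form `I^(a) Q ∩ range f ⊆ I^(a - c) range f`. -/
lemma exists_artinRees {R : Type*} [CommRing R] [IsNoetherianRing R] {P Q : Type*} [AddCommGroup P]
    [Module R P] [AddCommGroup Q] [Module R Q] [Module.Finite R Q] (I : Ideal R) (f : P →ₗ[R] Q) :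
    ∃ c, ∀ {n m : ℕ}, n + c ≤ m → ∀ p : P, f p ∈ (I ^ m • ⊤ : Submodule R Q) →
      ∃ p' ∈ (I ^ n • ⊤ : Submodule R P), f p' = f p := by
  obtain ⟨c, hc⟩ := Ideal.exists_pow_inf_eq_pow_smul I (LinearMap.range f)
  refine ⟨c, fun {n m} hnm p hp => ?_⟩
  have h2 : f p ∈ I ^ m • (⊤ : Submodule R Q) ⊓ LinearMap.range f := ⟨hp, p, rfl⟩
  rw [hc m (by omega)] at h2
  have h3 : f p ∈ I ^ n • LinearMap.range f :=
    Submodule.smul_mono (Ideal.pow_le_pow_right (by omega)) inf_le_right h2
  rw [LinearMap.range_eq_map, ← Submodule.map_smul''] at h3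
  exact h3

end Groth.CohC3
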