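import Groth.Agent.CohC3.HMap
import Groth.Agent.CohC3.Affines

/-! The pro-isomorphism `H^p(X, F)/I^n → H^p(X, F/I^n F)` for finite `H^p(X, F)`. -/

universe u

open CategoryTheory CategoryTheory.Limits AlgebraicGeometry Opposite TopologicalSpace

namespace Groth.CohC3

variable {A : Type u} [CommRing A] {X : Scheme.{u}} [X.Over (Spec (CommRingCat.of A))]

/-- The map `F/J^m F ⟶ F/I^n F` for `J^m ≤ I^n`. -/
noncomputable def qTr (F : X.Modules) {I J : Ideal A} {m n : ℕ} (h : J ^ m ≤ I ^ n) :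
    Formal.modPow J m F ⟶ Formal.modPow I n F :=
  modPowDesc J m (Formal.modPowπ I n F) (h.trans (isQuot_modPowπ I n F).le_ann)

@[reassoc]
lemma modPowπ_qTr (F : X.Modules) {I J : Ideal A} {m n : ℕ} (h : J ^ m ≤ I ^ n) :
    Formal.modPowπ J m F ≫ qTr F h = Formal.modPowπ I n F :=
  modPowπ_desc _ _ _ _

lemma qTr_comp (F : X.Modules) {I J L : Ideal A} {l m n : ℕ} (h : J ^ m ≤ I ^ n) (h' : L ^ l ≤ J ^ m) :
    qTr F h' ≫ qTr F h = qTr F (h'.trans h) :=
  (isQuot_modPowπ L l F).hom_ext (by rw [modPowπ_qTr_assoc, modPowπ_qTr, modPowπ_qTr])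

lemma hmap_modPowπ_eq_zero (I : Ideal A) (n : ℕ) (F : X.Modules) {p : ℕ} {x : Coh.HH X F p}
    (hx : x ∈ I ^ n • (⊤ : Submodule A (Coh.HH X F p))) : hmap A (Formal.modPowπ I n F) p x = 0 := by
  refine Submodule.smul_induction_on hx (fun a ha z _ => ?_) fun y z hy hz => by rw [map_add, hy, hz, add_zero]
  rw [← hmap_smulMod, hmap_comp, (mem_annHom _ a).1 ((isQuot_modPowπ I n F).le_ann ha), hmap_zero]

/-- `H^p(X, F)/I^n → H^p(X, F/I^n F)` is a pro-isomorphism, spelled out on elements. -/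
structure ProBij (I : Ideal A) (F : X.Modules) (p : ℕ) : Prop where
  ker : ∀ n, ∃ m, ∃ _ : n ≤ m, ∀ x : Coh.HH X F p, hmap A (Formal.modPowπ I m F) p x = 0 →
    x ∈ I ^ n • (⊤ : Submodule A (Coh.HH X F p))
  coker : ∀ n, ∃ m, ∃ h : n ≤ m, ∀ y : Coh.HH X (Formal.modPow I m F) p, ∃ x : Coh.HH X F p,
    hmap A (Formal.modPowπ I n F) p x = hmap A (qTr F (Ideal.pow_le_pow_right h)) p y

section Principal

variable (t : A)

/-- The power `t^c` has stabilised on `Q`. -/
def TStable (Q : X.Modules) (c : ℕ) : Prop :=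
  ∀ j, Mono (Abelian.image.ι (Formal.smulMod A Q (t ^ c)) ≫ Formal.smulMod A Q (t ^ j))

/-- Sections killed by a power of `t` on the members of an affine cover are killed by `t^c`. -/
def TBound (Q : X.Modules) (c : ℕ) : Prop :=
  ∀ x : X, ∃ U : X.affineOpens, x ∈ (U : X.Opens) ∧ ∀ (j : ℕ) (q : Γ(Q, (U : X.Opens))),
    baseApp X (U : X.Opens) (t ^ (j + c)) • q = 0 → baseApp X (U : X.Opens) (t ^ c) • q = 0

variable [IsNoetherian X]

lemma exists_tBound {Q : X.Modules} (hQ : Coh.IsCoh Q) : ∃ c, TBound t Q c := by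
  refine exists_uniform X (fun U c => ∀ (j : ℕ) (q : Γ(Q, (U : X.Opens))),
    baseApp X (U : X.Opens) (t ^ (j + c)) • q = 0 → baseApp X (U : X.Opens) (t ^ c) • q = 0)
    (fun U i i' hii hi j q hq => ?_) fun U => ?_
  · obtain ⟨d, rfl⟩ := Nat.exists_eq_add_of_le hii
    rw [pow_add, mul_comm, map_mul, mul_smul, hi (j + d) q (by rw [show j + d + i = j + (i + d) by omega]; exact hq),
      smul_zero]
  · have : IsNoetherianRing Γ(X, (U : X.Opens)) := IsLocallyNoetherian.component_noetherian U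
    have := ((QCohMod.isCoh_iff _).1 hQ).2 U U.2
    let K : ℕ →o Submodule Γ(X, (U : X.Opens)) Γ(Q, (U : X.Opens)) :=
      { toFun := fun k => LinearMap.ker (LinearMap.lsmul Γ(X, (U : X.Opens)) Γ(Q, (U : X.Opens)) (baseApp X (U : X.Opens) (t ^ k)))
        monotone' := fun i i' hii q hq => by
          obtain ⟨d, rfl⟩ := Nat.exists_eq_add_of_le hii
          simp only [LinearMap.mem_ker, LinearMap.lsmul_apply] at hq ⊢
          rw [pow_add, mul_comm, map_mul, mul_smul, hq, smul_zero] }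
    obtain ⟨c, hc⟩ := monotone_stabilizes_iff_noetherian.2 inferInstance K
    refine ⟨c, fun j q hq => ?_⟩
    have : q ∈ K c := by rw [hc (j + c) (by omega)]; exact hq
    exact this

lemma tStable_of_tBound {Q : X.Modules} (hQ : Coh.IsCoh Q) {c : ℕ} (h : TBound t Q c) : TStable t Q c := by
  intro j
  have := hQ.1
  have : (Abelian.image (Formal.smulMod A Q (t ^ c))).IsQuasicoherent := QCohMod.isQCoh_kernel _
  refine Preadditive.mono_of_kernel_zero (hom_eq_zero_of_cover _ fun x => ?_)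
  obtain ⟨U, hxU, hU⟩ := h x
  refine ⟨U, U.2, hxU, fun s => ?_⟩
  set y := (kernel.ι (Abelian.image.ι (Formal.smulMod A Q (t ^ c)) ≫ Formal.smulMod A Q (t ^ j))).app U s with hy
  obtain ⟨q, hq⟩ := QCohMod.app_surjective_of_epi (Abelian.factorThruImage (Formal.smulMod A Q (t ^ c))) U.2 y
  have hy' : (Abelian.image.ι (Formal.smulMod A Q (t ^ c))).app U y = baseApp X (U : X.Opens) (t ^ c) • q := by
    rw [← hq, app_comp_apply, Abelian.image.fac]; rfl
  have h0 : baseApp X (U : X.Opens) (t ^ j) • (Abelian.image.ι (Formal.smulMod A Q (t ^ c))).app U y = 0 :=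
    congr(($(kernel.condition (Abelian.image.ι (Formal.smulMod A Q (t ^ c)) ≫ Formal.smulMod A Q (t ^ j)))).app
      (U : X.Opens) s)
  rw [hy', ← mul_smul, ← map_mul, ← pow_add] at h0
  exact CohTwo.app_injective (Abelian.image.ι (Formal.smulMod A Q (t ^ c))) _
    ((hy'.trans (hU j q h0)).trans (map_zero _).symm)

end Principal

section Sequences

variable (t : A) (Q : X.Modules) (c j : ℕ)

lemma seq_zero : (Abelian.image.ι (Formal.smulMod A Q (t ^ c)) ≫ Formal.smulMod A Q (t ^ j)) ≫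
    Formal.modPowπ (Ideal.span {t}) (c + j) Q = 0 := by
  rw [← cancel_epi (Abelian.factorThruImage (Formal.smulMod A Q (t ^ c))), comp_zero, ← Category.assoc,
    reassoc_of% (Abelian.image.fac (Formal.smulMod A Q (t ^ c))), ← smulMod_mul, ← pow_add, add_comm j c]
  exact (mem_annHom _ _).1 ((isQuot_modPowπ _ (c + j) Q).le_ann (Ideal.pow_mem_pow (Ideal.mem_span_singleton_self t) _))

/-- `0 → t^c Q → Q → Q/t^(c+j) Q → 0`. -/
noncomputable abbrev tSeq : ShortComplex X.Modules :=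
  ShortComplex.mk _ _ (seq_zero t Q c j)

lemma shortExact_tSeq (h : TStable t Q c) : (tSeq t Q c j).ShortExact where
  exact := ShortComplex.exact_of_g_is_cokernel _ (CokernelCofork.IsColimit.ofπ' _ _ fun {W} φ hφ => by
    have hann : Ideal.span {t} ^ (c + j) ≤ annHom φ := by
      rw [Ideal.span_singleton_pow, Ideal.span_le, Set.singleton_subset_iff, SetLike.mem_coe, mem_annHom,
        add_comm c j, pow_add, smulMod_mul, ← Abelian.image.fac (Formal.smulMod A Q (t ^ c))]
      simp only [Category.assoc] at hφ ⊢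
      rw [hφ, comp_zero]
    exact ⟨modPowDesc _ _ φ hann, modPowπ_desc _ _ _ _⟩)
  mono_f := h j
  epi_g := inferInstanceAs (Epi (Formal.modPowπ (Ideal.span {t}) (c + j) Q))

variable {Q} {Q' : X.Modules} (w : Q ⟶ Q')

/-- The map induced on `t^c Q`. -/
noncomputable def imgMap : Abelian.image (Formal.smulMod A Q (t ^ c)) ⟶ Abelian.image (Formal.smulMod A Q' (t ^ c)) :=
  kernel.lift _ (Abelian.image.ι (Formal.smulMod A Q (t ^ c)) ≫ w) (by
    rw [← cancel_epi (Abelian.factorThruImage (Formal.smulMod A Q (t ^ c))), comp_zero, Category.assoc,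
      reassoc_of% (Abelian.image.fac (Formal.smulMod A Q (t ^ c))), ← smulMod_naturality_assoc', cokernel.condition, comp_zero])
where
  smulMod_naturality_assoc' {M N P : X.Modules} {φ : M ⟶ N} {a : A} {g : N ⟶ P} :
      φ ≫ Formal.smulMod A N a ≫ g = Formal.smulMod A M a ≫ φ ≫ g := by
    rw [← Category.assoc, smulMod_naturality, Category.assoc]

@[reassoc]
lemma imgMap_ι : imgMap t c w ≫ Abelian.image.ι (Formal.smulMod A Q' (t ^ c)) =
    Abelian.image.ι (Formal.smulMod A Q (t ^ c)) ≫ w :=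
  kernel.lift_ι _ _ _

/-- The map `Q/t^(c+j') Q ⟶ Q'/t^(c+j) Q'`. -/
noncomputable def quotMap {j j' : ℕ} (hj : j ≤ j') :
    Formal.modPow (Ideal.span {t}) (c + j') Q ⟶ Formal.modPow (Ideal.span {t}) (c + j) Q' :=
  modPowDesc _ _ (w ≫ Formal.modPowπ (Ideal.span {t}) (c + j) Q')
    ((Ideal.pow_le_pow_right (by omega)).trans
      ((isQuot_modPowπ (Ideal.span {t}) (c + j) Q').le_ann.trans (annHom_le_precomp _ _)))

/-- The morphism between the sequences. -/
noncomputable def tSeqHom {j j' : ℕ} (hj : j ≤ j') : tSeq t Q c j' ⟶ tSeq t Q' c j where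
  τ₁ := imgMap t c w ≫ Formal.smulMod A _ (t ^ (j' - j))
  τ₂ := w
  τ₃ := quotMap t c w hj
  comm₁₂ := by
    obtain ⟨d, rfl⟩ := Nat.exists_eq_add_of_le hj
    change (imgMap t c w ≫ Formal.smulMod A _ (t ^ (j + d - j))) ≫
      Abelian.image.ι (Formal.smulMod A Q' (t ^ c)) ≫ Formal.smulMod A Q' (t ^ j) =
      (Abelian.image.ι (Formal.smulMod A Q (t ^ c)) ≫ Formal.smulMod A Q (t ^ (j + d))) ≫ w
    rw [Nat.add_sub_cancel_left, pow_add t j d, smulMod_mul, Category.assoc,
      ← Category.assoc (Formal.smulMod A _ (t ^ d)), ← smulMod_naturality, Category.assoc,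
      imgMap_ι_assoc, Category.assoc, Category.assoc, ← smulMod_naturality w, ← Category.assoc w,
      smulMod_naturality w (t ^ d), Category.assoc]
  comm₂₃ := (modPowπ_desc _ _ _ _).symm

end Sequences

section Step

variable {t : A} {J : Ideal A} {F : X.Modules}

lemma qToSpan_le {a s M : ℕ} (hM : a + s ≤ M) :
    (J ⊔ Ideal.span {t}) ^ M ≤ annHom (Formal.modPowπ J a F ≫ Formal.modPowπ (Ideal.span {t}) s (Formal.modPow J a F)) := by
  refine (Ideal.pow_le_pow_right hM).trans (Ideal.sup_pow_add_le_pow_sup_pow.trans (sup_le ?_ ?_))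
  · exact (isQuot_modPowπ J a F).le_ann.trans (annHom_le_comp _ _)
  · exact le_annHom_of_killedBy (isQuot_modPowπ (Ideal.span {t}) s _).killedBy _

/-- `F/(J+t)^M F ⟶ (F/J^a F)/t^s`. -/
noncomputable def toSpanQuot {a s M : ℕ} (hM : a + s ≤ M) :
    Formal.modPow (J ⊔ Ideal.span {t}) M F ⟶ Formal.modPow (Ideal.span {t}) s (Formal.modPow J a F) :=
  modPowDesc _ _ _ (qToSpan_le hM)

lemma pow_le_sup_pow {N n : ℕ} (hn : N ≤ n) : J ^ n ≤ (J ⊔ Ideal.span {t}) ^ N :=
  (Ideal.pow_le_pow_right hn).trans (Ideal.pow_right_mono le_sup_left N)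

/-- `(F/J^n F)/t^k ⟶ F/(J+t)^N F`. -/
noncomputable def ofSpanQuot {N n k : ℕ} (hn : N ≤ n) (hk : N ≤ k) :
    Formal.modPow (Ideal.span {t}) k (Formal.modPow J n F) ⟶ Formal.modPow (J ⊔ Ideal.span {t}) N F :=
  modPowDesc _ _ (qTr F (pow_le_sup_pow hn)) (((Ideal.pow_le_pow_right hk).trans
    (Ideal.pow_right_mono le_sup_right N)).trans (le_annHom_of_killedBy (isQuot_modPowπ _ N F).killedBy _))

lemma toSpanQuot_ofSpanQuot {a n c j j' M N : ℕ} (han : n ≤ a) (hj : j ≤ j') (hM : a + (c + j') ≤ M)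
    (hn : N ≤ n) (hk : N ≤ c + j) (hNM : N ≤ M) :
    toSpanQuot (F := F) (t := t) (J := J) hM ≫ quotMap t c (qTr F (Ideal.pow_le_pow_right han)) hj ≫
      ofSpanQuot hn hk = qTr F (Ideal.pow_le_pow_right hNM) := by
  refine (isQuot_modPowπ _ M F).hom_ext ?_
  rw [toSpanQuot, modPowπ_desc_assoc, modPowπ_qTr, Category.assoc, quotMap, modPowπ_desc_assoc,
    Category.assoc, ofSpanQuot, modPowπ_desc, qTr_comp, modPowπ_qTr]

variable [IsNoetherianRing A] [IsNoetherian X] (hF : Coh.IsCoh F)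
  (hfin : ∀ p, Module.Finite A (Coh.HH X F p)) (h : ∀ p, ProBij J F p)

include hfin h in
/-- Bounded `t`-torsion in the pro-system. -/
lemma exists_torsion_bound (n p : ℕ) : ∃ a, ∃ ha : n ≤ a, ∃ d, ∀ (e : Coh.HH X (Formal.modPow J a F) p) (s : ℕ),
    t ^ s • e = 0 → t ^ d • hmap A (qTr F (Ideal.pow_le_pow_right ha)) p e = 0 := by
  obtain ⟨n'', hn'', hker⟩ := (h p).ker n
  obtain ⟨a, ha, hcok⟩ := (h p).coker n''
  have := hfin p
  let P := J ^ n • (⊤ : Submodule A (Coh.HH X F p))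
  let K : ℕ →o Submodule A (Coh.HH X F p) :=
    { toFun := fun k => P.comap (LinearMap.lsmul A (Coh.HH X F p) (t ^ k))
      monotone' := fun i i' hii q hq => by
        obtain ⟨d, rfl⟩ := Nat.exists_eq_add_of_le hii
        simp only [Submodule.mem_comap, LinearMap.lsmul_apply] at hq ⊢
        rw [pow_add, mul_comm, mul_smul]
        exact P.smul_mem _ hq }
  obtain ⟨d, hd⟩ := monotone_stabilizes_iff_noetherian.2 inferInstance K
  refine ⟨a, hn''.trans ha, d, fun e s he => ?_⟩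
  obtain ⟨z, hz⟩ := hcok e
  have h1 : t ^ s • z ∈ P := hker _ (by rw [map_smul, hz, ← map_smul, he, map_zero])
  have h2 : z ∈ K d := by
    rcases le_total d s with hds | hds
    · rw [hd s hds]; exact h1
    · exact K.monotone hds h1
  rw [← qTr_comp F (Ideal.pow_le_pow_right hn'') (Ideal.pow_le_pow_right ha), ← hmap_comp, ← hz, hmap_comp,
    modPowπ_qTr, ← map_smul]
  exact hmap_modPowπ_eq_zero J n F h2

lemma isCoh_modPow {M : X.Modules} (hM : Coh.IsCoh M) (I : Ideal A) (n : ℕ) : Coh.IsCoh (Formal.modPow I n M) := by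
  have := hM.1
  exact QCohMod.isCoh_cokernel _ hM

include hF h in
theorem ProBij.sup_span_ker (p N : ℕ) : ∃ M, ∃ _ : N ≤ M, ∀ x : Coh.HH X F p,
    hmap A (Formal.modPowπ (J ⊔ Ideal.span {t}) M F) p x = 0 →
      x ∈ (J ⊔ Ideal.span {t}) ^ N • (⊤ : Submodule A (Coh.HH X F p)) := by
  obtain ⟨n1, hn1, hker⟩ := (h p).ker N
  obtain ⟨a, ha, hcok⟩ := (h p).coker n1
  obtain ⟨c, hc⟩ := exists_tBound t (isCoh_modPow hF J a)
  refine ⟨a + (c + N), by omega, fun x hx => ?_⟩
  set Q := Formal.modPow J a F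
  have hS := shortExact_tSeq t Q c N (tStable_of_tBound t (isCoh_modPow hF J a) hc)
  obtain ⟨e, he⟩ := exists_of_hmap_g_eq_zero hS (hmap A (Formal.modPowπ J a F) p x) (by
    rw [hmap_comp]
    change hmap A (Formal.modPowπ J a F ≫ Formal.modPowπ (Ideal.span {t}) (c + N) Q) p x = 0
    rw [← modPowπ_desc (J ⊔ Ideal.span {t}) (a + (c + N)) _ (qToSpan_le le_rfl), ← hmap_comp, hx, map_zero])
  change hmap A (Abelian.image.ι (Formal.smulMod A Q (t ^ c)) ≫ Formal.smulMod A Q (t ^ N)) p e = _ at he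
  rw [← hmap_comp, hmap_smulMod] at he
  obtain ⟨z, hz⟩ := hcok (hmap A (Abelian.image.ι (Formal.smulMod A Q (t ^ c))) p e)
  have h1 : x - t ^ N • z ∈ J ^ N • (⊤ : Submodule A (Coh.HH X F p)) := hker _ (by
    rw [map_sub, map_smul, hz, ← map_smul, he, hmap_comp, modPowπ_qTr, sub_self])
  rw [← sub_add_cancel x (t ^ N • z)]
  refine add_mem (Submodule.smul_mono_left (pow_le_sup_pow le_rfl) h1) (Submodule.smul_mem_smul ?_ trivial)
  exact Ideal.pow_right_mono le_sup_right N (Ideal.pow_mem_pow (Ideal.mem_span_singleton_self t) N)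

include hF hfin h in
theorem ProBij.sup_span_coker (p N : ℕ) : ∃ M, ∃ hM : N ≤ M,
    ∀ y : Coh.HH X (Formal.modPow (J ⊔ Ideal.span {t}) M F) p, ∃ x : Coh.HH X F p,
      hmap A (Formal.modPowπ (J ⊔ Ideal.span {t}) N F) p x = hmap A (qTr F (Ideal.pow_le_pow_right hM)) p y := by
  obtain ⟨n1, hn1, hcok⟩ := (h p).coker N
  obtain ⟨a, ha, d, htor⟩ := exists_torsion_bound (t := t) hfin h n1 (p + 1)
  obtain ⟨c₁, hc₁⟩ := exists_tBound t (isCoh_modPow hF J a)
  obtain ⟨c₂, hc₂⟩ := exists_tBound t (isCoh_modPow hF J n1)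
  set c := max c₁ c₂
  have hmono : ∀ {Q : X.Modules} {i : ℕ}, TBound t Q i → i ≤ c → TBound t Q c := fun {Q i} hi hic x => by
    obtain ⟨U, hxU, hU⟩ := hi x
    refine ⟨U, hxU, fun j q hq => ?_⟩
    obtain ⟨e, he⟩ := Nat.exists_eq_add_of_le hic
    rw [he, add_comm i e, pow_add, map_mul, mul_smul, hU (j + e) q (by rwa [add_assoc, add_comm e i, ← he]),
      smul_zero]
  set Q := Formal.modPow J a F
  set Q' := Formal.modPow J n1 F
  set w : Q ⟶ Q' := qTr F (Ideal.pow_le_pow_right ha)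
  have hjj : N ≤ N + (d + c) := Nat.le_add_right _ _
  have hS := shortExact_tSeq t Q c (N + (d + c))
    (tStable_of_tBound t (isCoh_modPow hF J a) (hmono hc₁ (le_max_left _ _)))
  have hS' := shortExact_tSeq t Q' c N
    (tStable_of_tBound t (isCoh_modPow hF J n1) (hmono hc₂ (le_max_right _ _)))
  have hM : N ≤ a + (c + (N + (d + c))) := by omega
  refine ⟨a + (c + (N + (d + c))), hM, fun y => ?_⟩
  set z := hmap A (toSpanQuot (F := F) (J := J) (t := t) (le_refl (a + (c + (N + (d + c)))))) p y with hz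
  set e := hdelta hS p z with he
  have he1 : t ^ (N + (d + c)) • hmap A (Abelian.image.ι (Formal.smulMod A Q (t ^ c))) (p + 1) e = 0 := by
    rw [← hmap_smulMod, hmap_comp]
    exact hmap_f_hdelta hS z
  set ι' := Abelian.image.ι (Formal.smulMod A Q' (t ^ c)) with hι'
  have he2 : t ^ d • hmap A ι' (p + 1) (hmap A (imgMap t c w) (p + 1) e) = 0 := by
    rw [hmap_comp, hι', imgMap_ι, ← hmap_comp]
    exact htor _ _ he1
  have hfac : ι' ≫ Abelian.factorThruImage (Formal.smulMod A Q' (t ^ c)) = Formal.smulMod A _ (t ^ c) := by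
    rw [← cancel_mono ι', Category.assoc, hι', Abelian.image.fac, ← smulMod_naturality]
  have he3 : hmap A (tSeqHom t c w hjj).τ₁ (p + 1) e = 0 := by
    change hmap A (imgMap t c w ≫ Formal.smulMod A _ (t ^ (N + (d + c) - N))) (p + 1) e = 0
    rw [Nat.add_sub_cancel_left, ← hmap_comp, hmap_smulMod, pow_add, mul_smul, ← hmap_smulMod _ (t ^ c),
      ← hfac, ← hmap_comp, ← map_smul, he2, map_zero]
  rw [he, hdelta_naturality (A := A) hS hS'] at he3
  obtain ⟨y', hy'⟩ := exists_of_hdelta_eq_zero (A := A) hS' _ he3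
  obtain ⟨x, hx⟩ := hcok y'
  refine ⟨x, ?_⟩
  rw [← modPowπ_qTr F (pow_le_sup_pow (J := J) (t := t) (le_refl N)), ← hmap_comp, hx, hmap_comp, qTr_comp,
    ← toSpanQuot_ofSpanQuot ha hjj (le_refl _) hn1 (show N ≤ c + N by omega) hM, ← hmap_comp, ← hmap_comp]
  refine Eq.trans ?_ (congrArg (hmap A (ofSpanQuot hn1 _) p) hy')
  rw [hmap_comp]
  congr 2
  exact (modPowπ_desc _ _ _ _).symm

include hF hfin h in
theorem ProBij.sup_span (p : ℕ) : ProBij (J ⊔ Ideal.span {t}) F p :=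
  ⟨ProBij.sup_span_ker hF h p, ProBij.sup_span_coker hF hfin h p⟩

end Step

lemma proBij_bot (F : X.Modules) (p : ℕ) : ProBij (⊥ : Ideal A) F p where
  ker n := ⟨n + 1, Nat.le_succ n, fun x hx => by
    have hk : Formal.KilledBy ((⊥ : Ideal A) ^ (n + 1)) F := fun a ha => by
      rw [Ideal.bot_pow (Nat.succ_ne_zero n), Submodule.mem_bot] at ha
      rw [ha, smulMod_zero]
    have := (isQuot_modPowπ (⊥ : Ideal A) (n + 1) F).isIso_of_killedBy hk
    rw [(hmap_bijective_of_isIso (A := A) (Formal.modPowπ (⊥ : Ideal A) (n + 1) F) p).1 (hx.trans (map_zero _).symm)]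
    exact zero_mem _⟩
  coker n := ⟨n + 1, Nat.le_succ n, fun y => by
    have hk : Formal.KilledBy ((⊥ : Ideal A) ^ (n + 1)) F := fun a ha => by
      rw [Ideal.bot_pow (Nat.succ_ne_zero n), Submodule.mem_bot] at ha
      rw [ha, smulMod_zero]
    have := (isQuot_modPowπ (⊥ : Ideal A) (n + 1) F).isIso_of_killedBy hk
    obtain ⟨x, rfl⟩ := (hmap_bijective_of_isIso (A := A) (Formal.modPowπ (⊥ : Ideal A) (n + 1) F) p).2 y
    exact ⟨x, by rw [hmap_comp, modPowπ_qTr]⟩⟩

/-- **Formal functions**, pro form: if every `H^p(X, F)` is finite over the Noetherian ring `A`, then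
`H^p(X, F)/I^n → H^p(X, F/I^n F)` is a pro-isomorphism. -/
theorem proBij [IsNoetherianRing A] [IsNoetherian X] (I : Ideal A) {F : X.Modules} (hF : Coh.IsCoh F)
    (hfin : ∀ p, Module.Finite A (Coh.HH X F p)) (p : ℕ) : ProBij I F p := by
  classical
  obtain ⟨s, rfl⟩ := IsNoetherian.noetherian I
  induction s using Finset.induction_on generalizing p with
  | empty => simpa using proBij_bot F p
  | insert a s ha ih =>
    have := ProBij.sup_span (t := a) hF hfin ih p
    rwa [Finset.coe_insert, Submodule.span_insert, sup_comm] 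

end Groth.CohC3
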