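import Groth.Agent.CohC3.GradedCoh
import Groth.Agent.CohC3.FormalFunctions

/-! The sequence `n ↦ I^n M` and linear bounds in the theorem on formal functions. -/

universe u

open CategoryTheory CategoryTheory.Limits AlgebraicGeometry Opposite TopologicalSpace

namespace Groth.CohC3

variable {A : Type u} [CommRing A] {X : Scheme.{u}} [X.Over (Spec (CommRingCat.of A))]
  (I : Ideal A) (M : X.Modules)

/-- `I^n M`. -/
noncomputable abbrev powSub (n : ℕ) : X.Modules := kernel (Formal.modPowπ I n M)

/-- The inclusion of `I^n M`. -/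
noncomputable abbrev powSubι (n : ℕ) : powSub I M n ⟶ M := kernel.ι (Formal.modPowπ I n M)

lemma powSubι_smulMod_modPowπ {a : A} (ha : a ∈ I) (n : ℕ) :
    powSubι I M n ≫ Formal.smulMod A M a ≫ Formal.modPowπ I (n + 1) M = 0 := by
  obtain ⟨ψ, hψ⟩ := (isQuot_modPowπ I n M).desc (Formal.smulMod A M a ≫ Formal.modPowπ I (n + 1) M)
    (fun b hb => by
      rw [mem_annHom, ← Category.assoc, ← smulMod_mul]
      exact (isQuot_modPowπ I (n + 1) M).le_ann (by
        rw [pow_succ']; exact Ideal.mul_mem_mul ha hb))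
  rw [← hψ, kernel.condition_assoc, zero_comp]

/-- Multiplication by an element of `I`. -/
noncomputable def raise {a : A} (ha : a ∈ I) (n : ℕ) : powSub I M n ⟶ powSub I M (n + 1) :=
  kernel.lift _ (powSubι I M n ≫ Formal.smulMod A M a)
    (by rw [Category.assoc, powSubι_smulMod_modPowπ I M ha])

@[reassoc]
lemma raise_ι {a : A} (ha : a ∈ I) (n : ℕ) :
    raise I M ha n ≫ powSubι I M (n + 1) = powSubι I M n ≫ Formal.smulMod A M a :=
  kernel.lift_ι _ _ _

/-- The inclusion `I^m M ⊆ I^n M`. -/
noncomputable def lower {n m : ℕ} (h : n ≤ m) : powSub I M m ⟶ powSub I M n :=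
  kernel.lift _ (powSubι I M m) (by
    rw [← modPowπ_qTr M (Ideal.pow_le_pow_right h : I ^ m ≤ I ^ n), kernel.condition_assoc, zero_comp])

@[reassoc]
lemma lower_ι {n m : ℕ} (h : n ≤ m) : lower I M h ≫ powSubι I M n = powSubι I M m :=
  kernel.lift_ι _ _ _

lemma lower_comp {l n m : ℕ} (h : l ≤ n) (h' : n ≤ m) :
    lower I M h' ≫ lower I M h = lower I M (h.trans h') := by
  rw [← cancel_mono (powSubι I M l), Category.assoc, lower_ι, lower_ι, lower_ι]

lemma raise_lower {a : A} (ha : a ∈ I) {n m : ℕ} (h : n ≤ m) :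
    raise I M ha m ≫ lower I M (Nat.succ_le_succ h) = lower I M h ≫ raise I M ha n := by
  rw [← cancel_mono (powSubι I M (n + 1)), Category.assoc, lower_ι, raise_ι, Category.assoc, raise_ι,
    lower_ι_assoc]

lemma raise_lower_self {a : A} (ha : a ∈ I) {n m : ℕ} (h : n ≤ m) :
    raise I M ha m ≫ lower I M (h.trans (Nat.le_succ m)) = lower I M h ≫ Formal.smulMod A (powSub I M n) a := by
  rw [← cancel_mono (powSubι I M n), Category.assoc, lower_ι, raise_ι, Category.assoc,
    ← smulMod_naturality, lower_ι_assoc]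

variable {r : ℕ} (t : Fin r → A) (ht : ∀ i, t i ∈ I)

/-- The sequence `n ↦ I^n M` with the generators of `I` as operators. -/
noncomputable abbrev adicSeq : GSeq X r where
  obj := powSub I M
  op i n := raise I M (ht i) n
  comm i j n := by
    rw [← cancel_mono (powSubι I M (n + 1 + 1))]
    simp only [Category.assoc, raise_ι, raise_ι_assoc, ← smulMod_mul, mul_comm]

variable [IsNoetherian X] {I M}

lemma isCoh_powSub (hM : Coh.IsCoh M) (n : ℕ) : Coh.IsCoh (powSub I M n) := by
  have := hM.1
  have : (Formal.modPow I n M).IsQuasicoherent := isQCoh_of_isQuot (isQuot_modPowπ I n M)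
  exact QCohMod.isCoh_kernel _ hM

lemma gen_adicSeq (hM : Coh.IsCoh M) (hspan : Ideal.span (Set.range t) = I) :
    (adicSeq I M t ht).Gen := by
  refine ⟨0, fun n _ => ?_⟩
  have := hM.1
  have : ∀ n, (powSub I M n).IsQuasicoherent := fun n => (isCoh_powSub hM n).1
  have : (⨁ fun _ : Fin r => powSub I M n).IsQuasicoherent := (isCoh_pw r (isCoh_powSub hM n)).1
  refine epi_of_cover _ fun x => ?_
  obtain ⟨U, hU, hx⟩ := QCohMod.exists_affine_mem x
  refine ⟨U, hU, hx, fun y => ?_⟩
  let φ : (⨁ fun _ : Fin r => powSub I M n) ⟶ powSub I M (n + 1) :=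
    biproduct.desc fun i => raise I M (ht i) n
  let ψ := φ ≫ powSubι I M (n + 1)
  suffices ∀ m ∈ (Ideal.map (baseApp X U) (I ^ (n + 1))) • (⊤ : Submodule Γ(X, U) Γ(M, U)),
      m ∈ LinearMap.range (QCohMod.appₗ ψ U) by
    obtain ⟨z, hz⟩ := this ((powSubι I M (n + 1)).app U y)
      (((isQuot_modPowπ I (n + 1) M).app_eq_zero_iff _ hU).1
        (congr(($(kernel.condition (Formal.modPowπ I (n + 1) M))).app U y)))
    exact ⟨z, CohTwo.app_injective (powSubι I M (n + 1)) U hz⟩
  intro m hm
  rw [pow_succ', Ideal.map_mul, ← hspan, Ideal.map_span, Submodule.mul_smul] at hm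
  refine Submodule.smul_induction_on hm (fun a ha w hw => ?_) (fun a b ha hb => add_mem ha hb)
  rw [hspan] at hw
  induction ha using Submodule.span_induction with
  | zero => rw [zero_smul]; exact zero_mem _
  | add a b _ _ ha hb => rw [add_smul]; exact add_mem ha hb
  | smul c a _ ha => rw [smul_eq_mul, mul_smul]; exact Submodule.smul_mem _ _ ha
  | mem a ha =>
    obtain ⟨_, ⟨i, rfl⟩, rfl⟩ := ha
    obtain ⟨w', rfl⟩ := QCohMod.exists_app_eq_of_mono_exact
      (S := ShortComplex.mk (powSubι I M n) (Formal.modPowπ I n M) (kernel.condition _))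
      (ShortComplex.exact_of_f_is_kernel _ (kernelIsKernel _)) U w
      (((isQuot_modPowπ I n M).app_eq_zero_iff _ hU).2 hw)
    refine ⟨(biproduct.ι (fun _ : Fin r => powSub I M n) i).app U w', ?_⟩
    have e : biproduct.ι (fun _ : Fin r => powSub I M n) i ≫ ψ = powSubι I M n ≫ Formal.smulMod A M (t i) :=
      (biproduct.ι_desc_assoc _ _ _).trans (raise_ι I M (ht i) n)
    exact congr(($e).app U w')

section

omit [AlgebraicGeometry.IsNoetherian X]

variable (I M) in
lemma powSeq_shortExact (n : ℕ) :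
    (ShortComplex.mk (powSubι I M n) (Formal.modPowπ I n M) (kernel.condition _)).ShortExact where
  exact := ShortComplex.exact_of_f_is_kernel _ (kernelIsKernel _)
  mono_f := inferInstanceAs (Mono (kernel.ι _))
  epi_g := inferInstanceAs (Epi (Formal.modPowπ I n M))

end

variable [IsNoetherianRing A] {P : X.Modules → Prop} (hP : GSeq.FinClass A X P)
  (hPM : ∀ n, P (powSub I M n)) (hM : Coh.IsCoh M)

include hP hPM hM in
/-- The kernels of `H^p(M) → H^p(M/I^n M)` form a good filtration. -/
theorem exists_ker_modPowπ_eq (p : ℕ) : ∃ d, ∀ n, d ≤ n →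
    LinearMap.ker (hmap A (Formal.modPowπ I (n + 1) M) p) =
      I • LinearMap.ker (hmap A (Formal.modPowπ I n M) p) := by
  obtain ⟨r, t, hspan⟩ := Submodule.fg_iff_exists_fin_generating_family.1 (IsNoetherian.noetherian I)
  have ht : ∀ i, t i ∈ I := fun i => hspan ▸ Submodule.subset_span ⟨i, rfl⟩
  obtain ⟨d, hd⟩ := GSeq.gen_hh hP (adicSeq I M t ht) hPM (gen_adicSeq t ht hM hspan) p
  refine ⟨d, fun n hn => le_antisymm (fun y hy => ?_) (Submodule.smul_le.2 fun a ha y hy => ?_)⟩
  · obtain ⟨x, rfl⟩ := exists_of_hmap_g_eq_zero (A := A) (powSeq_shortExact I M (n + 1)) y hy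
    refine Submodule.iSup_induction _ (motive := fun x => hmap A (powSubι I M (n + 1)) p x ∈
      I • LinearMap.ker (hmap A (Formal.modPowπ I n M) p)) (hd n hn (trivial : x ∈ ⊤)) ?_
      (by rw [map_zero]; exact zero_mem _) fun a b ha hb => by rw [map_add]; exact add_mem ha hb
    rintro i _ ⟨z, rfl⟩
    rw [hmap_comp, raise_ι, ← hmap_comp, hmap_smulMod]
    refine Submodule.smul_mem_smul (ht i) ?_
    rw [LinearMap.mem_ker, hmap_comp, kernel.condition, hmap_zero]
  · obtain ⟨x, rfl⟩ := exists_of_hmap_g_eq_zero (A := A) (powSeq_shortExact I M n) y hy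
    change hmap A (Formal.modPowπ I (n + 1) M) p (a • hmap A (powSubι I M n) p x) = 0
    rw [← hmap_smulMod, hmap_comp, hmap_comp, powSubι_smulMod_modPowπ I M ha, hmap_zero]

include hP hPM hM in
/-- Linear bound for the kernels of `H^p(M) → H^p(M/I^n M)`. -/
theorem exists_ker_modPowπ_le (p : ℕ) : ∃ c, ∀ n,
    LinearMap.ker (hmap A (Formal.modPowπ I n M) p) ≤ I ^ (n - c) • (⊤ : Submodule A (Coh.HH X M p)) := by
  obtain ⟨d, hd⟩ := exists_ker_modPowπ_eq hP hPM hM p
  refine ⟨d, fun n => ?_⟩
  induction n with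
  | zero => simp
  | succ n ih =>
    by_cases hn : d ≤ n
    · rw [hd n hn, show n + 1 - d = (n - d) + 1 by omega, pow_succ', Submodule.mul_smul]
      exact Submodule.smul_mono le_rfl ih
    · rw [show n + 1 - d = 0 by omega, pow_zero, Ideal.one_eq_top, Submodule.top_smul]
      exact le_top

include hP hPM hM in
/-- Linear bound for the images of `H^p(M/I^m M) → H^p(M/I^n M)`. -/
theorem exists_range_qTr_le (p : ℕ) : ∃ c, ∀ n m (h : n ≤ m), n + c ≤ m →
    ∀ y, hmap A (qTr M (Ideal.pow_le_pow_right h : I ^ m ≤ I ^ n)) p y ∈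
      LinearMap.range (hmap A (Formal.modPowπ I n M) p) := by
  obtain ⟨r, t, hspan⟩ := Submodule.fg_iff_exists_fin_generating_family.1 (IsNoetherian.noetherian I)
  have ht : ∀ i, t i ∈ I := fun i => hspan ▸ Submodule.subset_span ⟨i, rfl⟩
  let Z : ∀ n, Submodule A (Coh.HH X (powSub I M n) (p + 1)) := fun n =>
    LinearMap.ker (hmap A (powSubι I M n) (p + 1))
  have hZ : ∀ i n, (Z n).map (hmap A ((adicSeq I M t ht).op i n) (p + 1)) ≤ Z (n + 1) := fun i n => by
    rintro _ ⟨x, hx, rfl⟩
    have hx' : hmap A (powSubι I M n) (p + 1) x = 0 := hx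
    change hmap A (powSubι I M (n + 1)) (p + 1) (hmap A (raise I M (ht i) n) (p + 1) x) = 0
    rw [hmap_comp, raise_ι, ← hmap_comp, hx', map_zero]
  obtain ⟨d, hd⟩ := (adicSeq I M t ht).exists_bound_hh (p + 1) (fun n => hP.fin (hPM n) (p + 1))
    (GSeq.gen_hh hP (adicSeq I M t ht) hPM (gen_adicSeq t ht hM hspan) (p + 1)) Z hZ
  -- `Z_(d+j)` lands in `I^j Z_d`
  have h1 : ∀ j, ∀ z ∈ Z (d + j), hmap A (lower I M (Nat.le_add_right d j)) (p + 1) z ∈ I ^ j • Z d := by
    intro j
    induction j with
    | zero =>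
      intro z hz
      rw [show lower I M (Nat.le_add_right d 0) = 𝟙 _ from
        (cancel_mono (powSubι I M d)).1 ((lower_ι I M _).trans (Category.id_comp _).symm),
        hmap_id, pow_zero, Ideal.one_eq_top, Submodule.top_smul]
      exact hz
    | succ j ih =>
      intro z hz
      refine Submodule.iSup_induction _ (motive := fun z => hmap A (lower I M (Nat.le_add_right d (j + 1))) (p + 1) z ∈
        I ^ (j + 1) • Z d) (hd (d + j) (Nat.le_add_right d j) hz) ?_
        (by rw [map_zero]; exact zero_mem _) fun a b ha hb => by rw [map_add]; exact add_mem ha hb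
      rintro i _ ⟨x, hx, rfl⟩
      change hmap A (lower I M ((Nat.le_add_right d j).trans (Nat.le_succ (d + j)))) (p + 1)
        (hmap A (raise I M (ht i) (d + j)) (p + 1) x) ∈ _
      rw [hmap_comp, raise_lower_self I M (ht i) (Nat.le_add_right d j), ← hmap_comp, hmap_smulMod, pow_succ', Submodule.mul_smul]
      exact Submodule.smul_mem_smul (ht i) (ih x hx)
  -- `I^d` kills `Z_d`
  have h2 : ∀ a ∈ I ^ d, ∀ z ∈ Z d, a • z = 0 := fun a ha z hz => by
    let l : M ⟶ powSub I M d := kernel.lift _ (Formal.smulMod A M a) ((isQuot_modPowπ I d M).le_ann ha)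
    have e : Formal.smulMod A (powSub I M d) a = powSubι I M d ≫ l := by
      rw [← cancel_mono (powSubι I M d), Category.assoc, kernel.lift_ι, smulMod_naturality]
    rw [← hmap_smulMod, e, ← hmap_comp, show hmap A (powSubι I M d) (p + 1) z = 0 from hz, map_zero]
  have h3 : ∀ m, d ≤ m → ∀ z ∈ Z (m + d), hmap A (lower I M (Nat.le_add_right m d)) (p + 1) z = 0 := by
    intro m hm
    induction m, hm using Nat.le_induction with
    | base =>
      intro z hz
      refine Submodule.smul_induction_on (h1 d z hz) (fun a ha x hx => h2 a ha x hx)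
        fun a b ha hb => by rw [ha, hb, add_zero]
    | succ m hm ih =>
      intro z hz
      have key : ∀ (k : ℕ) (hk : k = m + d + 1) (hk' : m + 1 ≤ k), ∀ z ∈ Z k, hmap A (lower I M hk') (p + 1) z = 0 := by
        rintro k rfl hk' z hz
        refine Submodule.iSup_induction _ (motive := fun z => hmap A (lower I M hk') (p + 1) z = 0)
          (hd (m + d) (by omega) hz) ?_ (map_zero _) fun a b ha hb => by rw [map_add, ha, hb, add_zero]
        rintro i _ ⟨x, hx, rfl⟩
        rw [hmap_comp, show hk' = Nat.succ_le_succ (Nat.le_add_right m d) from rfl,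
          raise_lower I M (ht i) (Nat.le_add_right m d),
          ← hmap_comp, ih x hx, map_zero]
      exact key (m + 1 + d) (by omega) _ z hz
  refine ⟨2 * d, fun n m h hnm y => ?_⟩
  let S := fun n => ShortComplex.mk (powSubι I M n) (Formal.modPowπ I n M) (kernel.condition _)
  refine LinearMap.mem_range.2 (exists_of_hdelta_eq_zero (A := A) (powSeq_shortExact I M n) _ ?_)
  let φ : S m ⟶ S n :=
    { τ₁ := lower I M h
      τ₂ := 𝟙 M
      τ₃ := qTr M (Ideal.pow_le_pow_right h)
      comm₁₂ := by simp [S, lower_ι]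
      comm₂₃ := by simp [S, modPowπ_qTr] }
  refine (hdelta_naturality (A := A) (powSeq_shortExact I M m) (powSeq_shortExact I M n) φ y).symm.trans ?_
  have hz : hdelta (powSeq_shortExact I M m) p y ∈ Z m := hmap_f_hdelta (powSeq_shortExact I M m) y
  change hmap A (lower I M h) (p + 1) _ = 0
  generalize hdelta (powSeq_shortExact I M m) p y = z at hz ⊢
  obtain ⟨k, rfl⟩ := Nat.exists_eq_add_of_le' (show d ≤ m by omega)
  rw [← lower_comp I M (show n ≤ k by omega) (Nat.le_add_right k d), ← hmap_comp, h3 k (by omega) z hz, map_zero]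

end Groth.CohC3

namespace Groth.CohC3

variable {A : Type u} [CommRing A] {X : Scheme.{u}} [X.Over (Spec (CommRingCat.of A))]
  [AlgebraicGeometry.IsNoetherian X]

/-- All coherent modules form a class with finite cohomology, given finiteness. -/
theorem finClass_isCoh (hfin : ∀ G : X.Modules, Coh.IsCoh G → ∀ p, Module.Finite A (Coh.HH X G p)) :
    GSeq.FinClass A X Coh.IsCoh where
  coh h := h
  ker φ h h' := have := h'.1; QCohMod.isCoh_kernel φ h
  coker φ h h' := have := h.1; QCohMod.isCoh_cokernel φ h'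
  fin h := hfin _ h

end Groth.CohC3
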