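import Groth.Agent.CohFin.ProjFinite
import Groth.Agent.CohC3.AdicSeq
import Groth.Agent.CohC3.ProperSupport

/-! Instances and finiteness for schemes proper over a Noetherian ring. -/

universe u

open CategoryTheory CategoryTheory.Limits AlgebraicGeometry Opposite TopologicalSpace

namespace Groth.CohC3

variable (A : Type u) [CommRing A] (X : Scheme.{u}) [X.Over (Spec (CommRingCat.of A))]

theorem isNoetherian_of_proper [IsNoetherianRing A] [IsProper (X ↘ Spec (CommRingCat.of A))] :
    AlgebraicGeometry.IsNoetherian X := by
  haveI : CompactSpace X := QuasiCompact.compactSpace_of_compactSpace (X ↘ Spec (CommRingCat.of A))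
  haveI : IsLocallyNoetherian X := LocallyOfFiniteType.isLocallyNoetherian (X ↘ Spec (CommRingCat.of A))
  exact {}

theorem isNoetherian_of_finiteType [IsNoetherianRing A]
    [LocallyOfFiniteType (X ↘ Spec (CommRingCat.of A))] [QuasiCompact (X ↘ Spec (CommRingCat.of A))] :
    AlgebraicGeometry.IsNoetherian X := by
  haveI : CompactSpace X := QuasiCompact.compactSpace_of_compactSpace (X ↘ Spec (CommRingCat.of A))
  haveI : IsLocallyNoetherian X := LocallyOfFiniteType.isLocallyNoetherian (X ↘ Spec (CommRingCat.of A))
  exact {}

/-- Finiteness of coherent cohomology, proper case. -/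
theorem finite_HH_of_proper [IsNoetherianRing A] [IsProper (X ↘ Spec (CommRingCat.of A))]
    {M : X.Modules} (hM : Coh.IsCoh M) (p : ℕ) : Module.Finite A (Coh.HH X M p) :=
  CohFin.hFin_of_proper CohFin.projFinite p X (X ↘ Spec (CommRingCat.of A)) M hM

end Groth.CohC3
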