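import Groth.Agent.CohC3.Completion

/-! Lifting a map of systems through a comparison map whose kernel and cokernel are pro-zero
with linear shifts. -/

universe u

open CategoryTheory CategoryTheory.Limits AlgebraicGeometry Opposite

namespace Groth.CohC3

variable {A : Type u} [CommRing A] {X : Scheme.{u}} [X.Over (Spec (CommRingCat.of A))]
  {I : Ideal A}

variable {C T : ℕᵒᵖ ⥤ X.Modules} (cmp : C ⟶ T)

lemma sysMap_comp_app {F G : ℕᵒᵖ ⥤ X.Modules} (φ : F ⟶ G) {i j : ℕ} (h : i ≤ j) :
    sysMap F h ≫ φ.app (op i) = φ.app (op j) ≫ sysMap G h :=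
  φ.naturality (homOfLE h).op

@[reassoc]
lemma sysMap_sysMap (F : ℕᵒᵖ ⥤ X.Modules) {i j k : ℕ} (h : i ≤ j) (h' : j ≤ k) :
    sysMap F h' ≫ sysMap F h = sysMap F (h.trans h') := by rw [← sysMap_comp F h h']

/-- The image of the comparison map at level `n`. -/
noncomputable abbrev proIm (n : ℕ) : X.Modules := Abelian.image (cmp.app (op n))

noncomputable abbrev proImTrans {m m' : ℕ} (h : m ≤ m') : proIm cmp m' ⟶ proIm cmp m :=
  kernel.map _ _ (sysMap T h) (cokernel.map _ _ (sysMap C h) (sysMap T h) (sysMap_comp_app cmp h).symm)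
    (by rw [cokernel.map, cokernel.π_desc])

lemma factorThru_proImTrans {m m' : ℕ} (h : m ≤ m') :
    Abelian.factorThruImage (cmp.app (op m')) ≫ proImTrans cmp h =
      sysMap C h ≫ Abelian.factorThruImage (cmp.app (op m)) := by
  rw [← cancel_mono (Abelian.image.ι (cmp.app (op m))), Category.assoc, Category.assoc, kernel.lift_ι,
    kernel.lift_ι, ← Category.assoc, Abelian.image.fac, sysMap_comp_app cmp h]

variable {G : ℕᵒᵖ ⥤ X.Modules}

/-- Two maps into `C` agreeing after `cmp` are equal. -/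
theorem proLift_ext (hG : IsSys I G) (c : ℕ)
    (hker : ∀ n, kernel.ι (cmp.app (op (n + c))) ≫ sysMap C (Nat.le_add_right n c) = 0) {α β : G ⟶ C}
    (h : α ≫ cmp = β ≫ cmp) : α = β := by
  refine NatTrans.ext (funext fun ⟨n⟩ => ?_)
  have := (hG.isQuot (Nat.le_add_right n c)).epi
  rw [← cancel_epi (sysMap G (Nat.le_add_right n c)), sysMap_comp_app α, sysMap_comp_app β, ← sub_eq_zero,
    ← Preadditive.sub_comp]
  obtain ⟨l, hl⟩ := kernel.lift' (cmp.app (op (n + c))) (α.app (op (n + c)) - β.app (op (n + c)))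
    (by rw [Preadditive.sub_comp, sub_eq_zero]; exact congr($h |>.app (op (n + c))))
  rw [← hl, Category.assoc, hker, comp_zero]

/-- A map of systems into `T` lifts uniquely along `cmp : C ⟶ T` when the kernel of `cmp` dies
`c` steps down and the cokernel dies `d` steps down. -/
theorem existsUnique_proLift (hG : IsSys I G) (hC : ∀ n, Formal.KilledBy (I ^ (n + 1)) (C.obj (op n)))
    (c d : ℕ) (hker : ∀ n, kernel.ι (cmp.app (op (n + c))) ≫ sysMap C (Nat.le_add_right n c) = 0)
    (hcok : ∀ n, sysMap T (Nat.le_add_right n d) ≫ cokernel.π (cmp.app (op n)) = 0) (u : G ⟶ T) :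
    ∃! α : G ⟶ C, α ≫ cmp = u := by
  let e : ∀ m, C.obj (op m) ⟶ proIm cmp m := fun m => Abelian.factorThruImage (cmp.app (op m))
  have he : ∀ m, kernel.ι (e m) ≫ cmp.app (op m) = 0 := fun m => by
    rw [← Abelian.image.fac (cmp.app (op m)), kernel.condition_assoc, zero_comp]
  -- the map out of the image
  have hθ : ∀ n, ∃ θ : proIm cmp (n + c) ⟶ C.obj (op n), e (n + c) ≫ θ = sysMap C (Nat.le_add_right n c) := by
    intro n
    refine ⟨Abelian.epiDesc (e (n + c)) _ ?_, Abelian.comp_epiDesc _ _ _⟩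
    obtain ⟨l, hl⟩ := kernel.lift' (cmp.app (op (n + c))) (kernel.ι (e (n + c))) (he _)
    rw [← hl, Category.assoc, hker, comp_zero]
  choose θ hθ using hθ
  let lft : ∀ m, G.obj (op (m + d)) ⟶ proIm cmp m := fun m =>
    kernel.lift _ (u.app (op (m + d)) ≫ sysMap T (Nat.le_add_right m d)) (by rw [Category.assoc, hcok, comp_zero])
  have hlft : ∀ m, lft m ≫ Abelian.image.ι (cmp.app (op m)) =
      u.app (op (m + d)) ≫ sysMap T (Nat.le_add_right m d) := fun m => kernel.lift_ι _ _ _
  have hα : ∀ n, ∃ a : G.obj (op n) ⟶ C.obj (op n),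
      sysMap G ((Nat.le_add_right n c).trans (Nat.le_add_right _ d)) ≫ a = lft (n + c) ≫ θ n := fun n =>
    (hG.isQuot ((Nat.le_add_right n c).trans (Nat.le_add_right _ d))).desc _ (le_annHom_of_killedBy (hC n) _)
  choose a ha using hα
  have hnat : ∀ n, sysMap G (Nat.le_succ n) ≫ a n = a (n + 1) ≫ sysMap C (Nat.le_succ n) := by
    intro n
    have := (hG.isQuot ((Nat.le_add_right (n + 1) c).trans (Nat.le_add_right _ d))).epi
    have hm : n + c ≤ n + 1 + c := by omega
    rw [← cancel_epi (sysMap G ((Nat.le_add_right (n + 1) c).trans (Nat.le_add_right _ d)))]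
    calc sysMap G ((Nat.le_add_right (n + 1) c).trans (Nat.le_add_right _ d)) ≫ sysMap G (Nat.le_succ n) ≫ a n
        = sysMap G (show n + c + d ≤ n + 1 + c + d by omega) ≫
            sysMap G ((Nat.le_add_right n c).trans (Nat.le_add_right _ d)) ≫ a n := by
          rw [sysMap_sysMap_assoc, sysMap_sysMap_assoc]
      _ = sysMap G (show n + c + d ≤ n + 1 + c + d by omega) ≫ lft (n + c) ≫ θ n := by rw [ha]
      _ = lft (n + 1 + c) ≫ θ (n + 1) ≫ sysMap C (Nat.le_succ n) := ?_
      _ = (lft (n + 1 + c) ≫ θ (n + 1)) ≫ sysMap C (Nat.le_succ n) := (Category.assoc _ _ _).symm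
      _ = _ := by rw [← ha, Category.assoc]
    have h1 : sysMap G (show n + c + d ≤ n + 1 + c + d by omega) ≫ lft (n + c) =
        lft (n + 1 + c) ≫ proImTrans cmp hm := by
      rw [← cancel_mono (Abelian.image.ι (cmp.app (op (n + c)))), Category.assoc, Category.assoc, hlft,
        kernel.lift_ι, ← Category.assoc, sysMap_comp_app u, ← Category.assoc (lft _), hlft, Category.assoc,
        Category.assoc, sysMap_sysMap, sysMap_sysMap]
    have h2 : proImTrans cmp hm ≫ θ n = θ (n + 1) ≫ sysMap C (Nat.le_succ n) := by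
      rw [← cancel_epi (e (n + 1 + c)), ← Category.assoc, factorThru_proImTrans, Category.assoc, hθ,
        ← Category.assoc, hθ, sysMap_sysMap, sysMap_sysMap]
    rw [← Category.assoc, h1, Category.assoc, h2]
  suffices h : NatTrans.ofOpSequence a (fun n => hnat n) ≫ cmp = u from
    ⟨_, h, fun β hβ => proLift_ext cmp hG c hker (hβ.trans h.symm)⟩
  refine NatTrans.ext (funext fun ⟨n⟩ => ?_)
  have := (hG.isQuot ((Nat.le_add_right n c).trans (Nat.le_add_right _ d))).epi
  rw [← cancel_epi (sysMap G ((Nat.le_add_right n c).trans (Nat.le_add_right _ d)))]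
  change sysMap G _ ≫ a n ≫ cmp.app (op n) = sysMap G _ ≫ u.app (op n)
  have h3 : θ n ≫ cmp.app (op n) =
      Abelian.image.ι (cmp.app (op (n + c))) ≫ sysMap T (Nat.le_add_right n c) := by
    rw [← cancel_epi (e (n + c)), ← Category.assoc, hθ, ← Category.assoc (e (n + c)), Abelian.image.fac,
      sysMap_comp_app]
  rw [← Category.assoc, ha, Category.assoc, h3, ← Category.assoc, hlft, Category.assoc, sysMap_sysMap,
    sysMap_comp_app]

/-- If the map into `T` and the comparison map are epi in each degree, so is the lift. -/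
theorem epi_proLift (c : ℕ) (hker : ∀ n, kernel.ι (cmp.app (op (n + c))) ≫ sysMap C (Nat.le_add_right n c) = 0)
    {u : G ⟶ T} {α : G ⟶ C} (hα : α ≫ cmp = u) (n : ℕ) (hu : Epi (u.app (op (n + c))))
    (hcmp : Epi (cmp.app (op (n + c)))) (hC : Epi (sysMap C (Nat.le_add_right n c))) : Epi (α.app (op n)) := by
  refine Preadditive.epi_of_cancel_zero _ fun z hz => ?_
  obtain ⟨z', hz'⟩ : ∃ z', cmp.app (op (n + c)) ≫ z' = sysMap C (Nat.le_add_right n c) ≫ z :=
    ⟨Abelian.epiDesc _ _ (by rw [← Category.assoc, hker, zero_comp]), Abelian.comp_epiDesc _ _ _⟩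
  have h0 : u.app (op (n + c)) ≫ z' = 0 := by
    rw [← hα, NatTrans.comp_app, Category.assoc, hz', ← Category.assoc, ← sysMap_comp_app α, Category.assoc,
      hz, comp_zero]
  rw [← cancel_epi (sysMap C (Nat.le_add_right n c)), ← hz', (cancel_epi _).1 (h0.trans comp_zero.symm),
    comp_zero, comp_zero]

end Groth.CohC3
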