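import Groth.Agent.CohC3.Tricky

/-! The existence theorem by reduction to modules killed by powers of an ideal sheaf. -/

universe u

open CategoryTheory CategoryTheory.Limits AlgebraicGeometry Opposite TopologicalSpace

namespace Groth.CohC3

variable {A : Type u} [CommRing A] {X : Scheme.{u}} [X.Over (Spec (CommRingCat.of A))] {I : Ideal A}

/-- A compatible family out of `M` gives a map out of its completion. -/
lemma exists_compl_desc {M : X.Modules} {G : ℕᵒᵖ ⥤ X.Modules}
    (hk : ∀ n, Formal.KilledBy (I ^ (n + 1)) (G.obj (op n))) (χ : ∀ n, M ⟶ G.obj (op n))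
    (hχ : ∀ n, χ (n + 1) ≫ sysMap G (Nat.le_succ n) = χ n) :
    ∃ τ : Formal.completion I M ⟶ G, ∀ n, Formal.modPowπ I (n + 1) M ≫ τ.app (op n) = χ n := by
  refine ⟨NatTrans.ofOpSequence (fun n => modPowDesc I (n + 1) (χ n) (le_annHom_of_killedBy (hk n) _)) fun n => ?_,
    fun n => modPowπ_desc I (n + 1) (χ n) (le_annHom_of_killedBy (hk n) _)⟩
  refine (isQuot_modPowπ I (n + 1 + 1) M).hom_ext ?_
  change Formal.modPowπ I (n + 1 + 1) M ≫ sysMap (Formal.completion I M) (Nat.le_succ n) ≫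
      modPowDesc I (n + 1) (χ n) _ =
    Formal.modPowπ I (n + 1 + 1) M ≫ modPowDesc I (n + 1 + 1) (χ (n + 1)) _ ≫ sysMap G (Nat.le_succ n)
  erw [modPowπ_sysMap_succ_assoc, modPowπ_desc, modPowπ_desc_assoc]
  exact (hχ n).symm

omit [X.Over (Spec (CommRingCat.of A))] in
lemma epi_isoApp {F G : ℕᵒᵖ ⥤ X.Modules} (e : F ≅ G) (n : ℕ) : Epi (e.hom.app (op n)) :=
  inferInstanceAs (Epi (e.app (op n)).hom)

omit [X.Over (Spec (CommRingCat.of A))] in
lemma app_mem_smul {M N : X.Modules} (φ : M ⟶ N) (U : X.Opens) (a : Ideal Γ(X, U)) {k : Γ(M, U)}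
    (hk : k ∈ (a • ⊤ : Submodule Γ(X, U) Γ(M, U))) : φ.app U k ∈ (a • ⊤ : Submodule Γ(X, U) Γ(N, U)) := by
  refine Submodule.smul_induction_on hk (fun r hr m _ => ?_) (fun x y hx hy => by rw [map_add]; exact add_mem hx hy)
  rw [φ.app_smul]
  exact Submodule.smul_mem_smul hr trivial

/-- Maps out of `modISys` into systems killed by the ideal sheaf. -/
lemma exists_modISys_desc (𝒦 : X.IdealSheafData) {G T : ℕᵒᵖ ⥤ X.Modules}
    (hGq : ∀ n, (G.obj (op n)).IsQuasicoherent) (hTq : ∀ n, (T.obj (op n)).IsQuasicoherent)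
    (hT : ∀ n, ClSub.KilledByIdeal 𝒦 (T.obj (op n))) (u : G ⟶ T) :
    ∃ v : modISys 𝒦 G ⟶ T, modISysπ 𝒦 G ≫ v = u := by
  choose v hv using fun n => have := hGq n; have := hTq n; exists_modI_desc (u.app (op n)) (hT n)
  refine ⟨NatTrans.ofOpSequence v fun n => ?_, NatTrans.ext (funext fun ⟨n⟩ => hv n)⟩
  have := hGq (n + 1)
  have : Epi (modIπ 𝒦 (G.obj (op (n + 1)))) := epi_modIπ 𝒦 _
  refine (cancel_epi (modIπ 𝒦 (G.obj (op (n + 1))))).1 ?_
  exact ((Category.assoc _ _ _).symm.trans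
    (congrArg (· ≫ v n) ((modISysπ 𝒦 G).naturality (homOfLE (Nat.le_succ n)).op).symm)).trans
    ((Category.assoc _ _ _).trans ((congrArg (sysMap G (Nat.le_succ n) ≫ ·) (hv n)).trans
      ((u.naturality (homOfLE (Nat.le_succ n)).op).trans
        ((congrArg (· ≫ sysMap T (Nat.le_succ n)) (hv (n + 1)).symm).trans (Category.assoc _ _ _)))))

omit [X.Over (Spec (CommRingCat.of A))] in
lemma isCoh_pullback [IsNoetherian X] {F H Q : X.Modules} (hF : Coh.IsCoh F) (hH : Coh.IsCoh H)
    (hQ : Coh.IsCoh Q) (p : F ⟶ Q) (q : H ⟶ Q) : Coh.IsCoh (pullback p q) := by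
  have := hF.1
  have := hH.1
  have := hQ.1
  refine (QCohMod.isCoh_iff _).2 ⟨QCohMod.isQCoh_pullback p q, fun U hU => ?_⟩
  have := ((QCohMod.isCoh_iff _).1 hF).2 U hU
  have := ((QCohMod.isCoh_iff _).1 hH).2 U hU
  have : IsNoetherianRing Γ(X, U) := IsLocallyNoetherian.component_noetherian ⟨U, hU⟩
  refine Module.Finite.of_injective
    ((QCohMod.appₗ (pullback.fst p q) U).prod (QCohMod.appₗ (pullback.snd p q) U)) fun s t h => ?_
  exact pullback_sec_ext p q U (congrArg Prod.fst h) (congrArg Prod.snd h)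

/-- The levelwise fibre product of two maps of systems. -/
noncomputable def pbSys {F H Q : ℕᵒᵖ ⥤ X.Modules} (p : F ⟶ Q) (q : H ⟶ Q) : ℕᵒᵖ ⥤ X.Modules :=
  Functor.ofOpSequence (X := fun n => pullback (p.app (op n)) (q.app (op n))) fun n =>
    pullback.map _ _ _ _ (sysMap F (Nat.le_succ n)) (sysMap H (Nat.le_succ n)) (sysMap Q (Nat.le_succ n))
      (p.naturality (homOfLE (Nat.le_succ n)).op).symm (q.naturality (homOfLE (Nat.le_succ n)).op).symm

omit [X.Over (Spec (CommRingCat.of A))] in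
lemma pbSys_map_succ {F H Q : ℕᵒᵖ ⥤ X.Modules} (p : F ⟶ Q) (q : H ⟶ Q) (n : ℕ) :
    sysMap (pbSys p q) (Nat.le_succ n) =
    pullback.map _ _ _ _ (sysMap F (Nat.le_succ n)) (sysMap H (Nat.le_succ n)) (sysMap Q (Nat.le_succ n))
      (p.naturality (homOfLE (Nat.le_succ n)).op).symm (q.naturality (homOfLE (Nat.le_succ n)).op).symm :=
  Functor.ofOpSequence_map_homOfLE_succ _ n

omit [X.Over (Spec (CommRingCat.of A))] in
lemma exists_pbSys_lift {F H Q W : ℕᵒᵖ ⥤ X.Modules} {p : F ⟶ Q} {q : H ⟶ Q} (a : W ⟶ F) (b : W ⟶ H)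
    (h : a ≫ p = b ≫ q) : ∃ l : W ⟶ pbSys p q, ∀ n, l.app (op n) ≫ pullback.fst (p.app (op n)) (q.app (op n)) =
      a.app (op n) ∧ l.app (op n) ≫ pullback.snd (p.app (op n)) (q.app (op n)) = b.app (op n) := by
  let l : ∀ n, W.obj (op n) ⟶ (pbSys p q).obj (op n) := fun n =>
    pullback.lift (a.app (op n)) (b.app (op n)) congr($h |>.app (op n))
  refine ⟨NatTrans.ofOpSequence l fun n => ?_, fun n => ⟨pullback.lift_fst _ _ _, pullback.lift_snd _ _ _⟩⟩
  change sysMap W (Nat.le_succ n) ≫ l n = l (n + 1) ≫ sysMap (pbSys p q) (Nat.le_succ n)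
  rw [pbSys_map_succ]
  refine pullback.hom_ext ?_ ?_
  · refine (Category.assoc _ _ _).trans ((congrArg (sysMap W _ ≫ ·) (pullback.lift_fst _ _ _)).trans
      ((a.naturality (homOfLE (Nat.le_succ n)).op).trans ?_))
    refine (Eq.trans ?_ (Category.assoc _ _ _).symm)
    refine (Eq.trans ?_ (congrArg (l (n + 1) ≫ ·) (pullback.lift_fst _ _ _).symm))
    exact (congrArg (· ≫ sysMap F _) (pullback.lift_fst _ _ _).symm).trans (Category.assoc _ _ _)
  · refine (Category.assoc _ _ _).trans ((congrArg (sysMap W _ ≫ ·) (pullback.lift_snd _ _ _)).trans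
      ((b.naturality (homOfLE (Nat.le_succ n)).op).trans ?_))
    refine (Eq.trans ?_ (Category.assoc _ _ _).symm)
    refine (Eq.trans ?_ (congrArg (l (n + 1) ≫ ·) (pullback.lift_snd _ _ _).symm))
    exact (congrArg (· ≫ sysMap H _) (pullback.lift_snd _ _ _).symm).trans (Category.assoc _ _ _)

/-- The hypothesis: completion is an equivalence for modules killed by `𝒦^e`. -/
def AlgebraizesKilled (I : Ideal A) (𝒦 : X.IdealSheafData) : Prop := ∀ e : ℕ,
  (∀ (M N : X.Modules), Coh.IsCoh M → Coh.IsCoh N → ClSub.KilledByIdeal (𝒦 ^ e) M →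
    ClSub.KilledByIdeal (𝒦 ^ e) N → ∀ ψ : Formal.completion I M ⟶ Formal.completion I N,
      ∃! φ : M ⟶ N, ∀ n : ℕ, Formal.modPowπ I (n + 1) M ≫ ψ.app (op n) = φ ≫ Formal.modPowπ I (n + 1) N) ∧
  (∀ G : ℕᵒᵖ ⥤ X.Modules, Formal.IsCohFormal I G → (∀ n : ℕ, ClSub.KilledByIdeal (𝒦 ^ e) (G.obj (op n))) →
    ∃ M : X.Modules, Coh.IsCoh M ∧ ClSub.KilledByIdeal (𝒦 ^ e) M ∧ Nonempty (Formal.completion I M ≅ G))

/-- A class of coherent modules stable under quotients, submodules and fibre products. -/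
structure SuppClass (P : X.Modules → Prop) : Prop where
  of_epi : ∀ {M N : X.Modules} (p : M ⟶ N) [Epi p], Coh.IsCoh M → Coh.IsCoh N → P M → P N
  of_mono : ∀ {M N : X.Modules} (i : M ⟶ N) [Mono i], Coh.IsCoh M → Coh.IsCoh N → P N → P M
  pullback : ∀ {F H Q : X.Modules} (p : F ⟶ Q) (q : H ⟶ Q), Coh.IsCoh F → Coh.IsCoh H → Coh.IsCoh Q →
    P F → P H → P (pullback p q)

/-- The hypothesis, relative to a class of modules. -/
def AlgebraizesKilledOn (I : Ideal A) (𝒦 : X.IdealSheafData) (P : X.Modules → Prop) : Prop := ∀ e : ℕ,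
  (∀ (M N : X.Modules), Coh.IsCoh M → Coh.IsCoh N → P N → ClSub.KilledByIdeal (𝒦 ^ e) M →
    ClSub.KilledByIdeal (𝒦 ^ e) N → ∀ ψ : Formal.completion I M ⟶ Formal.completion I N,
      ∃! φ : M ⟶ N, ∀ n : ℕ, Formal.modPowπ I (n + 1) M ≫ ψ.app (op n) = φ ≫ Formal.modPowπ I (n + 1) N) ∧
  (∀ G : ℕᵒᵖ ⥤ X.Modules, Formal.IsCohFormal I G → P (G.obj (op 0)) →
    (∀ n : ℕ, ClSub.KilledByIdeal (𝒦 ^ e) (G.obj (op n))) →
    ∃ M : X.Modules, Coh.IsCoh M ∧ P M ∧ ClSub.KilledByIdeal (𝒦 ^ e) M ∧ Nonempty (Formal.completion I M ≅ G))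

lemma killed_completion {𝒦 : X.IdealSheafData} {M : X.Modules} (hM : Coh.IsCoh M)
    (h : ClSub.KilledByIdeal 𝒦 M) (n : ℕ) : ClSub.KilledByIdeal 𝒦 ((Formal.completion I M).obj (op n)) :=
  have := hM.1
  have := (isCoh_modPow' hM I (n + 1)).1
  @killed_of_epi X 𝒦 M (Formal.modPow I (n + 1) M) _ _ (Formal.modPowπ I (n + 1) M)
    (isQuot_modPowπ I (n + 1) M).epi h

/-- A formal module with an epimorphism onto a completion with kernel killed by `𝒦^e` is algebraizable. -/
theorem exists_algebraization_of_epi [IsNoetherian X] {𝒦 : X.IdealSheafData} {P : X.Modules → Prop}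
    (hP : SuppClass P) (h₁ : AlgebraizesKilledOn I 𝒦 P)
    {G : ℕᵒᵖ ⥤ X.Modules} (hG : Formal.IsCohFormal I G) (hG₀ : P (G.obj (op 0)))
    {H : X.Modules} (hH : Coh.IsCoh H) (hHP : P H)
    (β : G ⟶ Formal.completion I H) (hβ : ∀ n, Epi (β.app (op n))) (e : ℕ)
    (hK : ∀ n, ClSub.KilledByIdeal (𝒦 ^ e) (kernel (β.app (op n)))) :
    ∃ M : X.Modules, Coh.IsCoh M ∧ P M ∧ Nonempty (Formal.completion I M ≅ G) := by
  have hs := isSys_of_isCohFormal hG
  have hq := fun n => (hG.1 n).1
  have hcq := fun n => isQCoh_completion_obj (I := I) hH n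
  have := hH.1
  obtain ⟨j, hj⟩ := exists_pro_disjoint_sys hs hG.1 (isSys_completion I H)
    (fun n => isCoh_modPow' hH I (n + 1)) β hβ 𝒦 e hK
  set 𝒥 := 𝒦 ^ j
  have hmG := isCohFormal_modISys 𝒥 hG
  have hP₀ : P ((modISys 𝒥 G).obj (op 0)) :=
    @SuppClass.of_epi _ _ hP _ _ (modIπ 𝒥 (G.obj (op 0))) (have := (hG.1 0).1; epi_modIπ 𝒥 _) (hG.1 0)
      (hmG.1 0) hG₀
  obtain ⟨F, hF, hFP, hFk, ⟨ε⟩⟩ := (h₁ j).2 (modISys 𝒥 G) hmG hP₀ fun n => killed_modI 𝒥 _
  have := hF.1
  have hFq := fun n => isQCoh_completion_obj (I := I) hF n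
  set Hq := modI 𝒥 H
  have hHq : Coh.IsCoh Hq := isCoh_modI 𝒥 hH
  have := hHq.1
  have hHqq := fun n => isQCoh_completion_obj (I := I) hHq n
  set q := modIπ 𝒥 H
  let a : G ⟶ Formal.completion I F := modISysπ 𝒥 G ≫ ε.inv
  have ha : ∀ n, Epi (a.app (op n)) := fun n => by
    have := hq n
    exact @epi_comp _ _ _ _ _ (modIπ 𝒥 (G.obj (op n))) (epi_modIπ 𝒥 _) _ (epi_isoApp ε.symm n)
  obtain ⟨v, hv⟩ := exists_modISys_desc 𝒥 hq hHqq (fun n => killed_completion hHq (killed_modI 𝒥 H) n)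
    (β ≫ mapCompl I q)
  have hHqP : P Hq := @SuppClass.of_epi _ _ hP _ _ q (epi_modIπ 𝒥 H) hH hHq hHP
  obtain ⟨p, hp, -⟩ := (h₁ j).1 F Hq hF hHq hHqP hFk (killed_modI 𝒥 H) (ε.hom ≫ v)
  have hp' : mapCompl I p = ε.hom ≫ v := completion_hom_ext fun n => (modPowπ_mapCompl p n).trans (hp n).symm
  have hab : a ≫ mapCompl I p = β ≫ mapCompl I q := by
    rw [hp']; simp only [a, Category.assoc, Iso.inv_hom_id_assoc, hv]
  let M := pullback p q
  have hM : Coh.IsCoh M := isCoh_pullback hF hH hHq p q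
  have := hM.1
  have hMq := fun n => isQCoh_completion_obj (I := I) hM n
  obtain ⟨cmp, hcmp⟩ := exists_pbSys_lift (p := mapCompl I p) (q := mapCompl I q)
    (mapCompl I (pullback.fst p q)) (mapCompl I (pullback.snd p q)) (completion_hom_ext fun n => by
      refine (modPowπ_mapCompl_assoc _ n _).trans (Eq.trans ?_ (modPowπ_mapCompl_assoc _ n _).symm)
      refine (Category.assoc _ _ _).trans ((congrArg (pullback.fst p q ≫ ·) (modPowπ_mapCompl p n)).trans ?_)
      refine Eq.trans ?_ (congrArg (pullback.snd p q ≫ ·) (modPowπ_mapCompl q n)).symm |>.trans (Category.assoc _ _ _).symm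
      exact (Category.assoc _ _ _).symm.trans ((congrArg (· ≫ Formal.modPowπ I (n + 1) Hq) pullback.condition).trans (Category.assoc _ _ _)))
  obtain ⟨u, hu⟩ := exists_pbSys_lift (p := mapCompl I p) (q := mapCompl I q) a β hab
  let T := pbSys (mapCompl I p) (mapCompl I q)
  have hTq : ∀ n, (T.obj (op n)).IsQuasicoherent := fun n => by
    have := hFq n
    have := hcq n
    have := hHqq n
    exact QCohMod.isQCoh_pullback ((mapCompl I p).app (op n)) ((mapCompl I q).app (op n))
  -- sections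
  have hqs : ∀ {U : X.Opens} (hU : IsAffineOpen U), LinearMap.range (QCohMod.appₗ q U) = ⊤ := fun hU =>
    (LinearMap.range_eq_top (f := QCohMod.appₗ q _)).2 (modIπ_app_surjective 𝒥 H hU)
  have hkerq : ∀ n (U : X.affineOpens) (z : Γ((Formal.completion I H).obj (op n), (U : X.Opens))),
      ((mapCompl I q).app (op n)).app U z = 0 →
      ∃ k ∈ (𝒥.ideal U • ⊤ : Submodule Γ(X, (U : X.Opens)) Γ(H, (U : X.Opens))),
        (Formal.modPowπ I (n + 1) H).app U k = z := by
    intro n U z hz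
    obtain ⟨h, rfl⟩ := (isQuot_modPowπ I (n + 1) H).app_surjective U.2 z
    have h0 : (Formal.modPowπ I (n + 1) Hq).app U (q.app U h) = 0 :=
      (congr(($(modPowπ_mapCompl (I := I) q n)).app (U : X.Opens) h)).symm.trans hz
    have h1 := ((isQuot_modPowπ I (n + 1) Hq).app_eq_zero_iff _ U.2).1 h0
    rw [← hqs U.2, LinearMap.range_eq_map, ← Submodule.map_smul''] at h1
    obtain ⟨w, hw, hwh⟩ := h1
    refine ⟨h - w, (modIπ_app_eq_zero_iff 𝒥 H U _).1 (by rw [map_sub]; exact sub_eq_zero.2 hwh.symm), ?_⟩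
    rw [map_sub, ((isQuot_modPowπ I (n + 1) H).app_eq_zero_iff w U.2).2 hw]
    exact sub_zero _
  have hcmpe : ∀ n, Epi (cmp.app (op n)) := fun n => by
    have := hTq n
    have := hMq n
    refine epi_of_cover _ fun x => ?_
    obtain ⟨U, hU, hx⟩ := QCohMod.exists_affine_mem x
    refine ⟨U, hU, hx, fun z => ?_⟩
    let fst := pullback.fst ((mapCompl I p).app (op n)) ((mapCompl I q).app (op n))
    let snd := pullback.snd ((mapCompl I p).app (op n)) ((mapCompl I q).app (op n))
    obtain ⟨x₁, hx₁⟩ := (isQuot_modPowπ I (n + 1) F).app_surjective hU (fst.app U z)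
    obtain ⟨x₂, hx₂⟩ := (isQuot_modPowπ I (n + 1) H).app_surjective hU (snd.app U z)
    have h0 : (Formal.modPowπ I (n + 1) Hq).app U (p.app U x₁ - q.app U x₂) = 0 := by
      rw [map_sub, sub_eq_zero]
      refine (congr(($(modPowπ_mapCompl (I := I) p n)).app U x₁)).symm.trans
        (Eq.trans ?_ (congr(($(modPowπ_mapCompl (I := I) q n)).app U x₂)))
      refine (congrArg (((mapCompl I p).app (op n)).app U) hx₁).trans
        (Eq.trans ?_ (congrArg (((mapCompl I q).app (op n)).app U) hx₂).symm)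
      exact congr(($(pullback.condition (f := (mapCompl I p).app (op n)) (g := (mapCompl I q).app (op n)))).app U z)
    have h1 := ((isQuot_modPowπ I (n + 1) Hq).app_eq_zero_iff _ hU).1 h0
    rw [← hqs hU, LinearMap.range_eq_map, ← Submodule.map_smul''] at h1
    obtain ⟨w, hw, hwh⟩ := h1
    obtain ⟨m, hm₁, hm₂⟩ := pullback_sec_exists p q U x₁ (x₂ + w) (by
      rw [map_add, show q.app U w = p.app U x₁ - q.app U x₂ from hwh, add_sub_cancel])
    refine ⟨(Formal.modPowπ I (n + 1) M).app U m, pullback_sec_ext _ _ U ?_ ?_⟩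
    · refine (congr(($((hcmp n).1)).app U ((Formal.modPowπ I (n + 1) M).app U m))).trans ?_
      refine (congr(($(modPowπ_mapCompl (I := I) (pullback.fst p q) n)).app U m)).trans ?_
      exact (congrArg ((Formal.modPowπ I (n + 1) F).app U) hm₁).trans hx₁
    · refine (congr(($((hcmp n).2)).app U ((Formal.modPowπ I (n + 1) M).app U m))).trans ?_
      refine (congr(($(modPowπ_mapCompl (I := I) (pullback.snd p q) n)).app U m)).trans ?_
      refine (congrArg ((Formal.modPowπ I (n + 1) H).app U) hm₂).trans ?_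
      rw [map_add, ((isQuot_modPowπ I (n + 1) H).app_eq_zero_iff w hU).2 hw]
      exact (add_zero _).trans hx₂
  obtain ⟨c, hc⟩ := exists_uniform X (fun U c => ∀ n m, n + c ≤ m → ∀ s : Γ(M, (U : X.Opens)),
      (Formal.modPowπ I (m + 1) F).app U ((pullback.fst p q).app U s) = 0 →
      (Formal.modPowπ I (m + 1) H).app U ((pullback.snd p q).app U s) = 0 →
      (Formal.modPowπ I (n + 1) M).app U s = 0)
    (fun U i k hik h n m hnm => h n m (le_trans (Nat.add_le_add_left hik n) hnm)) fun U => by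
    have : IsNoetherianRing Γ(X, (U : X.Opens)) := IsLocallyNoetherian.component_noetherian U
    have := ((QCohMod.isCoh_iff _).1 hF).2 U U.2
    have := ((QCohMod.isCoh_iff _).1 hH).2 U U.2
    let f := (QCohMod.appₗ (pullback.fst p q) (U : X.Opens)).prod (QCohMod.appₗ (pullback.snd p q) (U : X.Opens))
    obtain ⟨c, hc⟩ := exists_artinRees (I.map (baseApp X (U : X.Opens))) f
    refine ⟨c, fun n m hnm s hs₁ hs₂ => ?_⟩
    have h1 := ((isQuot_modPowπ I (m + 1) F).app_eq_zero_iff _ U.2).1 hs₁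
    have h2 := ((isQuot_modPowπ I (m + 1) H).app_eq_zero_iff _ U.2).1 hs₂
    rw [Ideal.map_pow] at h1 h2
    have h3 : f s ∈ ((I.map (baseApp X (U : X.Opens))) ^ (m + 1) • ⊤ : Submodule Γ(X, (U : X.Opens))
        (Γ(F, (U : X.Opens)) × Γ(H, (U : X.Opens)))) := by
      have h1' := Submodule.mem_map_of_mem (f := LinearMap.inl Γ(X, (U : X.Opens)) Γ(F, (U : X.Opens)) Γ(H, (U : X.Opens))) h1
      have h2' := Submodule.mem_map_of_mem (f := LinearMap.inr Γ(X, (U : X.Opens)) Γ(F, (U : X.Opens)) Γ(H, (U : X.Opens))) h2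
      rw [Submodule.map_smul''] at h1' h2'
      have := add_mem (Submodule.smul_mono le_rfl le_top h1') (Submodule.smul_mono le_rfl le_top h2')
      simpa [f] using this
    obtain ⟨s', hs', hss'⟩ := hc (n := n + 1) (by omega) s h3
    rw [show s = s' from pullback_sec_ext p q U (congrArg Prod.fst hss').symm (congrArg Prod.snd hss').symm]
    exact ((isQuot_modPowπ I (n + 1) M).app_eq_zero_iff _ U.2).2 (by rwa [Ideal.map_pow])
  have hker : ∀ n, kernel.ι (cmp.app (op (n + c))) ≫
      sysMap (Formal.completion I M) (Nat.le_add_right n c) = 0 := fun n => by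
    have := hTq (n + c)
    have := hMq (n + c)
    refine hom_eq_zero_of_cover _ fun x => ?_
    obtain ⟨U, hx, hU⟩ := hc x
    refine ⟨U, U.2, hx, fun s => ?_⟩
    obtain ⟨m, hm⟩ := (isQuot_modPowπ I (n + c + 1) M).app_surjective U.2
      ((kernel.ι (cmp.app (op (n + c)))).app U s)
    have h0 : (cmp.app (op (n + c))).app U ((Formal.modPowπ I (n + c + 1) M).app U m) = 0 :=
      (congrArg ((cmp.app (op (n + c))).app U) hm).trans
        congr(($(kernel.condition (cmp.app (op (n + c))))).app (U : X.Opens) s)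
    change (sysMap (Formal.completion I M) (Nat.le_add_right n c)).app U
      ((kernel.ι (cmp.app (op (n + c)))).app U s) = 0
    rw [← hm]
    refine (congr(($(modPowπ_sysMap I M (Nat.le_add_right n c))).app (U : X.Opens) m)).trans
      (hU n (n + c) le_rfl m ?_ ?_)
    · refine (congr(($(modPowπ_mapCompl (I := I) (pullback.fst p q) (n + c))).app (U : X.Opens) m)).symm.trans ?_
      refine (congr(($((hcmp (n + c)).1)).app (U : X.Opens) _)).symm.trans ?_
      exact (congrArg (fun t => (pullback.fst ((mapCompl I p).app (op (n + c))) ((mapCompl I q).app (op (n + c)))).app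
        (U : X.Opens) t) h0).trans (map_zero _)
    · refine (congr(($(modPowπ_mapCompl (I := I) (pullback.snd p q) (n + c))).app (U : X.Opens) m)).symm.trans ?_
      refine (congr(($((hcmp (n + c)).2)).app (U : X.Opens) _)).symm.trans ?_
      exact (congrArg (fun t => (pullback.snd ((mapCompl I p).app (op (n + c))) ((mapCompl I q).app (op (n + c)))).app
        (U : X.Opens) t) h0).trans (map_zero _)
  have hue : ∀ n, Epi (u.app (op n)) := fun n => by
    have := hTq n
    have := hq n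
    refine epi_of_cover _ fun x => ?_
    obtain ⟨U, hU, hx⟩ := QCohMod.exists_affine_mem x
    refine ⟨U, hU, hx, fun z => ?_⟩
    let fst := pullback.fst ((mapCompl I p).app (op n)) ((mapCompl I q).app (op n))
    let snd := pullback.snd ((mapCompl I p).app (op n)) ((mapCompl I q).app (op n))
    have := ha n
    have := hβ n
    have := hFq n
    have := hcq n
    obtain ⟨g, hg⟩ := QCohMod.app_surjective_of_epi (a.app (op n)) hU (fst.app U z)
    have h0 : ((mapCompl I q).app (op n)).app U ((β.app (op n)).app U g - snd.app U z) = 0 := by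
      rw [map_sub, sub_eq_zero]
      refine (congr(($(congr($hab |>.app (op n)))).app U g)).symm.trans ?_
      refine (congrArg (((mapCompl I p).app (op n)).app U) hg).trans ?_
      exact congr(($(pullback.condition (f := (mapCompl I p).app (op n)) (g := (mapCompl I q).app (op n)))).app U z)
    obtain ⟨k, hk, hkz⟩ := hkerq n ⟨U, hU⟩ _ h0
    have h1 := app_mem_smul (N := (Formal.completion I H).obj (op n)) (Formal.modPowπ I (n + 1) H) U _ hk
    rw [← (LinearMap.range_eq_top (f := QCohMod.appₗ (β.app (op n)) U)).2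
      (QCohMod.app_surjective_of_epi (β.app (op n)) hU), LinearMap.range_eq_map, ← Submodule.map_smul''] at h1
    obtain ⟨k', hk', hkk'⟩ := h1
    refine ⟨g - k', pullback_sec_ext _ _ U ?_ ?_⟩
    · refine (congr(($((hu n).1)).app U (g - k'))).trans ?_
      rw [map_sub, hg]
      refine sub_eq_self.2 ((congrArg ((ε.inv.app (op n)).app U) ?_).trans (map_zero _))
      exact (modIπ_app_eq_zero_iff 𝒥 _ ⟨U, hU⟩ _).2 hk'
    · refine (congr(($((hu n).2)).app U (g - k'))).trans ?_
      rw [map_sub, show (β.app (op n)).app U k' = _ from hkk']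
      exact (congrArg _ hkz).trans (sub_sub_cancel _ _)
  obtain ⟨γ, hγ, -⟩ := existsUnique_proLift cmp hs (isSys_completion I M).killed c 0 hker
    (fun n => by
      have := hcmpe n
      rw [cokernel.π_of_epi, comp_zero]) u
  have hγe : ∀ n, Epi (γ.app (op n)) := fun n =>
    epi_proLift cmp c hker hγ n (hue (n + c)) (hcmpe (n + c)) (epi_sysMap_completion _ _)
  have hγm : ∀ n, Mono (γ.app (op n)) := fun n => by
    refine Preadditive.mono_of_kernel_zero ?_
    have := hq n
    have := hMq n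
    refine hom_eq_zero_of_cover _ fun x => ?_
    obtain ⟨U, hx, d, hd⟩ := hj x
    refine ⟨U, U.2, hx, fun s => ?_⟩
    set x₀ := (kernel.ι (γ.app (op n))).app (U : X.Opens) s
    change x₀ = 0
    obtain ⟨y, hy⟩ := hs.app_surjective hq U.2 (Nat.le_add_right n d) x₀
    have := hq (n + d)
    have := hMq (n + d)
    have h0 : (sysMap (Formal.completion I M) (Nat.le_add_right n d)).app U ((γ.app (op (n + d))).app U y) = 0 := by
      refine (congr(($(γ.naturality (homOfLE (Nat.le_add_right n d)).op)).app (U : X.Opens) y)).symm.trans ?_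
      refine (congrArg ((γ.app (op n)).app U) hy).trans ?_
      exact congr(($(kernel.condition (γ.app (op n)))).app (U : X.Opens) s)
    have h1 := (((isSys_completion I M).isQuot (Nat.le_add_right n d)).app_eq_zero_iff _ U.2).1 h0
    have := hγe (n + d)
    rw [← (LinearMap.range_eq_top (f := QCohMod.appₗ (γ.app (op (n + d))) (U : X.Opens))).2
      (QCohMod.app_surjective_of_epi (γ.app (op (n + d))) U.2), LinearMap.range_eq_map,
      ← Submodule.map_smul''] at h1
    obtain ⟨z, hz, hzy⟩ := h1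
    have h2 : (γ.app (op (n + d))).app U (y - z) = 0 := by
      rw [map_sub]; exact sub_eq_zero.2 hzy.symm
    have h3 : (u.app (op (n + d))).app U (y - z) = 0 :=
      (congr(($(congr($hγ |>.app (op (n + d))))).app (U : X.Opens) (y - z))).symm.trans
        ((congrArg (fun t => (cmp.app (op (n + d))).app (U : X.Opens) t) h2).trans (map_zero _))
    have h4 : (β.app (op (n + d))).app U (y - z) = 0 :=
      (congr(($((hu (n + d)).2)).app (U : X.Opens) (y - z))).symm.trans
        ((congrArg (fun t => (pullback.snd ((mapCompl I p).app (op (n + d))) ((mapCompl I q).app (op (n + d)))).app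
          (U : X.Opens) t) h3).trans (map_zero _))
    have h5 : (a.app (op (n + d))).app U (y - z) = 0 :=
      (congr(($((hu (n + d)).1)).app (U : X.Opens) (y - z))).symm.trans
        ((congrArg (fun t => (pullback.fst ((mapCompl I p).app (op (n + d))) ((mapCompl I q).app (op (n + d)))).app
          (U : X.Opens) t) h3).trans (map_zero _))
    have h6 : (modIπ 𝒥 (G.obj (op (n + d)))).app U (y - z) = 0 :=
      QCohMod.app_injective_of_mono (ε.inv.app (op (n + d))) U (h5.trans (map_zero _).symm)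
    have h7 := hd n (n + d) (Nat.le_add_right n d) le_rfl (y - z) h4
      ((modIπ_app_eq_zero_iff 𝒥 _ U _).1 h6)
    rw [map_sub, hy, ((hs.isQuot (Nat.le_add_right n d)).app_eq_zero_iff z U.2).2 hz, sub_zero] at h7
    exact h7
  have : ∀ n, IsIso (γ.app n) := fun ⟨n⟩ => by
    have := hγe n
    have := hγm n
    exact isIso_of_mono_of_epi _
  have : IsIso γ := NatIso.isIso_of_isIso_app γ
  exact ⟨M, hM, hP.pullback p q hF hH hHq hFP hHP, ⟨(asIso γ).symm⟩⟩

/-- **EGA III 5.3.5**: existence when the kernel and cokernel of a map to a completion are killed by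
a power of `𝒦`, given existence for modules killed by powers of `𝒦`. -/
theorem exists_algebraization_of_kerCoker_on [IsNoetherian X] {𝒦 : X.IdealSheafData}
    {P : X.Modules → Prop} (hP : SuppClass P)
    (h₁ : AlgebraizesKilledOn I 𝒦 P) {G : ℕᵒᵖ ⥤ X.Modules} (hG : Formal.IsCohFormal I G)
    (hG₀ : P (G.obj (op 0))) {H : X.Modules}
    (hH : Coh.IsCoh H) (hHP : P H) (α : G ⟶ Formal.completion I H) (hα : Formal2.KerCokerKilledByPow 𝒦 α) :
    ∃ M : X.Modules, Coh.IsCoh M ∧ P M ∧ Nonempty (Formal.completion I M ≅ G) := by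
  obtain ⟨t, ht⟩ := hα
  set e := t + 1
  have hs := isSys_of_isCohFormal hG
  have hq := fun n => (hG.1 n).1
  have hcq := fun n => isQCoh_completion_obj (I := I) hH n
  have := hH.1
  have hcok := isCohFormal_cokSys α hs (isSys_completion I H) hq fun n => isCoh_modPow' hH I (n + 1)
  have hcokP : P ((cokSys α).obj (op 0)) :=
    @SuppClass.of_epi _ _ hP _ _ (Formal.modPowπ I (0 + 1) H ≫ cokernel.π (α.app (op 0)))
      (@epi_comp _ _ _ _ _ _ (isQuot_modPowπ I (0 + 1) H).epi _ coequalizer.π_epi) hH (hcok.1 0) hHP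
  obtain ⟨C₀, hC₀, hC₀P, hC₀k, ⟨ε⟩⟩ := (h₁ e).2 (cokSys α) hcok hcokP fun n => (ht n).2
  have := hC₀.1
  have hc0 := fun n => isQCoh_completion_obj (I := I) hC₀ n
  set H₁ := modI (𝒦 ^ e) H
  have hH₁ : Coh.IsCoh H₁ := isCoh_modI (𝒦 ^ e) hH
  have := hH₁.1
  let κ : Formal.completion I H ⟶ Formal.completion I C₀ := cokSysπ α ≫ ε.inv
  choose χ hχ using fun n => have := hc0 n
    exists_modI_desc (Formal.modPowπ I (n + 1) H ≫ κ.app (op n)) (killed_completion hC₀ hC₀k n : ClSub.KilledByIdeal (𝒦 ^ e) _)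
  obtain ⟨τ, hτ⟩ := exists_compl_desc (isSys_completion I C₀).killed χ fun n => by
    refine (cancel_epi (modIπ (𝒦 ^ e) H)).1 ?_
    rw [hχ, ← Category.assoc, hχ]
    exact (Category.assoc _ _ _).trans ((congrArg (Formal.modPowπ I (n + 1 + 1) H ≫ ·)
      (κ.naturality (homOfLE (Nat.le_succ n)).op).symm).trans ((Category.assoc _ _ _).symm.trans
        (congrArg (· ≫ κ.app (op n)) (modPowπ_sysMap_succ I H n))))
  obtain ⟨φ, hφ, -⟩ := (h₁ e).1 H₁ C₀ hH₁ hC₀ hC₀P (killed_modI _ H) hC₀k τ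
  let g := modIπ (𝒦 ^ e) H ≫ φ
  have hg : mapCompl I g = κ := completion_hom_ext fun n => by
    refine (modPowπ_mapCompl g n).trans ?_
    refine (Category.assoc _ _ _).trans ((congrArg (modIπ (𝒦 ^ e) H ≫ ·) ((hφ n).symm.trans (hτ n))).trans ?_)
    exact hχ n
  have : Epi g := by
    refine Preadditive.epi_of_isZero_cokernel g ?_
    have hD : Coh.IsCoh (cokernel g) := QCohMod.isCoh_cokernel g hC₀
    have := hD.1
    have hDk : ClSub.KilledByIdeal (𝒦 ^ e) (cokernel g) := killed_of_epi (cokernel.π g) hC₀k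
    have hz : ∀ n, Formal.modPowπ I (n + 1) (cokernel g) = 0 := fun n => by
      have he : Epi (κ.app (op n)) :=
        @epi_comp _ _ _ _ _ (cokernel.π (α.app (op n))) coequalizer.π_epi (ε.inv.app (op n)) (epi_isoApp ε.symm n)
      have h0 : κ.app (op n) ≫ (mapCompl I (cokernel.π g)).app (op n) = 0 := by
        refine (isQuot_modPowπ I (n + 1) H).hom_ext ?_
        rw [← hg]
        refine (modPowπ_mapCompl_assoc g n _).trans ((Category.assoc _ _ _).trans
          ((congrArg (g ≫ ·) (modPowπ_mapCompl (cokernel.π g) n)).trans ?_))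
        exact ((Category.assoc _ _ _).symm.trans
          ((congrArg (· ≫ Formal.modPowπ I (n + 1) (cokernel g)) (cokernel.condition g)).trans zero_comp)).trans
          comp_zero.symm
      rw [← cancel_epi (cokernel.π g), comp_zero]
      refine (modPowπ_mapCompl (cokernel.π g) n).symm.trans ?_
      rw [(cancel_epi (κ.app (op n))).1 (h0.trans comp_zero.symm)]
      exact comp_zero
    obtain ⟨ψ, -, hu⟩ := (h₁ e).1 (cokernel g) (cokernel g) hD hD (hP.of_epi (cokernel.π g) hC₀ hD hC₀P) hDk hDk (𝟙 _)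
    rw [IsZero.iff_id_eq_zero]
    exact (hu (𝟙 _) fun n => (Category.comp_id _).trans (Category.id_comp _).symm).trans
      (hu 0 fun n => by
        refine (Category.comp_id _).trans ?_
        rw [zero_comp]
        exact hz n).symm
  have hακ : α ≫ mapCompl I g = 0 := by
    rw [hg]
    refine NatTrans.ext (funext fun ⟨n⟩ => ?_)
    exact (Category.assoc _ _ _).symm.trans
      ((congrArg (· ≫ ε.inv.app (op n)) (cokernel.condition (α.app (op n)))).trans zero_comp)
  obtain ⟨β, hβα, hβ⟩ := exists_lift_kernel hs hG.1 hH hC₀ g α hακ fun n U z hz => by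
    rw [hg] at hz
    have h0 : (cokernel.π (α.app (op n))).app U z = 0 :=
      QCohMod.app_injective_of_mono (ε.inv.app (op n)) U (hz.trans (map_zero _).symm)
    have := hq n
    have := hcq n
    exact QCohMod.exists_app_eq_of_exact
      (S := ShortComplex.mk (α.app (op n)) (cokernel.π _) (cokernel.condition _))
      (ShortComplex.exact_of_g_is_cokernel _ (cokernelIsCokernel _)) U.2 z h0
  refine exists_algebraization_of_epi hP h₁ hG hG₀ (QCohMod.isCoh_kernel g hH)
    (hP.of_mono (kernel.ι g) (QCohMod.isCoh_kernel g hH) hH hHP) β hβ e fun n => ?_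
  have hk : kernel.ι (β.app (op n)) ≫ α.app (op n) = 0 := by
    rw [← hβα, NatTrans.comp_app, kernel.condition_assoc, zero_comp]
  have : Mono (kernel.lift (α.app (op n)) (kernel.ι (β.app (op n))) hk) :=
    mono_of_mono_fac (kernel.lift_ι _ _ hk)
  exact killed_of_mono (kernel.lift (α.app (op n)) (kernel.ι (β.app (op n))) hk) (ht n).1

/-- The case of all coherent modules. -/
theorem exists_algebraization_of_kerCoker [IsNoetherian X] {𝒦 : X.IdealSheafData}
    (h₁ : AlgebraizesKilled I 𝒦) {G : ℕᵒᵖ ⥤ X.Modules} (hG : Formal.IsCohFormal I G) {H : X.Modules}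
    (hH : Coh.IsCoh H) (α : G ⟶ Formal.completion I H) (hα : Formal2.KerCokerKilledByPow 𝒦 α) :
    ∃ M : X.Modules, Coh.IsCoh M ∧ Nonempty (Formal.completion I M ≅ G) := by
  obtain ⟨M, hM, -, e⟩ := exists_algebraization_of_kerCoker_on (P := fun _ => True)
    ⟨fun _ _ _ _ _ => trivial, fun _ _ _ _ _ => trivial, fun _ _ _ _ _ _ _ => trivial⟩
    (fun e => ⟨fun M N hM hN _ hMk hNk => (h₁ e).1 M N hM hN hMk hNk, fun G' hG' _ hk => by
      obtain ⟨M, hM, hMk, e'⟩ := (h₁ e).2 G' hG' hk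
      exact ⟨M, hM, trivial, hMk, e'⟩⟩) hG trivial hH trivial α hα
  exact ⟨M, hM, e⟩

end Groth.CohC3
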