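import Groth.Agent.CohC3.PushFF
import Groth.Agent.CohC3.ProLift
import Groth.Agent.CohC3.Tricky2
import Groth.Agent.QCohMod.QCQS

/-! The map of a formal module into the completion of the pushforward of an algebraization of its
pullback. -/

universe u

open CategoryTheory CategoryTheory.Limits AlgebraicGeometry Opposite TopologicalSpace

namespace Groth.CohC3

variable {A : Type u} [CommRing A] {J : Ideal A} {X Y : Scheme.{u}} [X.Over (Spec (CommRingCat.of A))]
  [Y.Over (Spec (CommRingCat.of A))] (f : X ⟶ Y) [IsProper f]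

/-- The direct images of `F/J^(n+1)F`. -/
noncomputable abbrev pushSys (J : Ideal A) (F : X.Modules) : ℕᵒᵖ ⥤ Y.Modules :=
  Formal.completion J F ⋙ Scheme.Modules.pushforward f

variable {f} (hf : f ≫ (Y ↘ Spec (CommRingCat.of A)) = X ↘ Spec (CommRingCat.of A))

include hf in
/-- Direct images of coherent modules under proper morphisms are coherent. -/
theorem isCoh_pushforward [IsLocallyNoetherian Y] {F : X.Modules} (hF : Coh.IsCoh F) :
    Coh.IsCoh ((Scheme.Modules.pushforward f).obj F) := by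
  have := hF.1
  exact (QCohMod.isCoh_iff _).2 ⟨QCohMod.isQCoh_pushforward (M := F) f,
    fun U hU => (exists_push_bounds (J := (⊥ : Ideal A)) f hf hF hU).1⟩

include hf in
lemma killed_pushSys (F : X.Modules) (n : ℕ) :
    Formal.KilledBy (J ^ (n + 1)) ((pushSys f J F).obj (op n)) := fun a ha => by
  change Formal.smulMod A ((Scheme.Modules.pushforward f).obj ((Formal.completion J F).obj (op n))) a = 0
  rw [← pushforward_map_smulMod hf, (isSys_completion J F).killed n a ha, Functor.map_zero]

include hf in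
/-- The comparison `f_*F/J^(n+1) → f_*(F/J^(n+1))`. -/
theorem exists_pushCmp (F : X.Modules) :
    ∃ cmp : Formal.completion J ((Scheme.Modules.pushforward f).obj F) ⟶ pushSys f J F,
      ∀ n, Formal.modPowπ J (n + 1) _ ≫ cmp.app (op n) =
        (Scheme.Modules.pushforward f).map (Formal.modPowπ J (n + 1) F) :=
  exists_compl_desc (killed_pushSys hf F) _ fun n =>
    ((Scheme.Modules.pushforward f).map_comp _ _).symm.trans
      (congrArg (Scheme.Modules.pushforward f).map (modPowπ_sysMap_succ J F n))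

lemma pushSys_sysMap (F : X.Modules) {i j : ℕ} (h : i ≤ j) :
    sysMap (pushSys f J F) h = (Scheme.Modules.pushforward f).map (sysMap (Formal.completion J F) h) := rfl

include hf in
/-- The map of formal modules with its defining property. -/
theorem exists_pushMap [IsNoetherian Y] {G : ℕᵒᵖ ⥤ Y.Modules} (hG : Formal.IsCohFormal J G)
    {F : X.Modules} (hF : Coh.IsCoh F) (β : (G ⋙ Scheme.Modules.pullback f) ≅ Formal.completion J F) :
    ∃ (α : G ⟶ Formal.completion J ((Scheme.Modules.pushforward f).obj F))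
      (cmp : Formal.completion J ((Scheme.Modules.pushforward f).obj F) ⟶ pushSys f J F),
      (∀ n, Formal.modPowπ J (n + 1) _ ≫ cmp.app (op n) =
        (Scheme.Modules.pushforward f).map (Formal.modPowπ J (n + 1) F)) ∧
      ∀ n, α.app (op n) ≫ cmp.app (op n) =
        (Scheme.Modules.pullbackPushforwardAdjunction f).unit.app (G.obj (op n)) ≫
          (Scheme.Modules.pushforward f).map (β.hom.app (op n)) := by
  have := hF.1
  set H := (Scheme.Modules.pushforward f).obj F
  have hH : Coh.IsCoh H := isCoh_pushforward hf hF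
  have := hH.1
  obtain ⟨cmp, hcmp⟩ := exists_pushCmp (J := J) hf F
  have hTq : ∀ n, ((pushSys f J F).obj (op n)).IsQuasicoherent := fun n => by
    have := isQCoh_completion_obj (I := J) hF n
    exact QCohMod.isQCoh_pushforward (M := (Formal.completion J F).obj (op n)) f
  have hHq := fun n => isQCoh_completion_obj (I := J) hH n
  obtain ⟨c, hc⟩ := exists_uniform Y (fun U c => (∀ n (s : Γ(H, (U : Y.Opens))),
        (Formal.modPowπ J (n + c) F).app (f ⁻¹ᵁ (U : Y.Opens)) s = 0 →
          s ∈ ((J.map (baseApp Y (U : Y.Opens))) ^ n • ⊤ : Submodule Γ(Y, (U : Y.Opens)) Γ(H, (U : Y.Opens)))) ∧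
      ∀ n (z : Γ(Formal.modPow J (n + c) F, f ⁻¹ᵁ (U : Y.Opens))), ∃ s : Γ(F, f ⁻¹ᵁ (U : Y.Opens)),
        (Formal.modPowπ J n F).app (f ⁻¹ᵁ (U : Y.Opens)) s =
          (qTr F (Ideal.pow_le_pow_right (Nat.le_add_right n c) : J ^ (n + c) ≤ J ^ n)).app (f ⁻¹ᵁ (U : Y.Opens)) z)
    (fun U i j hij ⟨h1, h2⟩ => ⟨fun n s hs => h1 n s (by
      rw [← modPowπ_qTr F (Ideal.pow_le_pow_right (Nat.add_le_add_left hij n) : J ^ (n + j) ≤ J ^ (n + i)),
        ← app_comp_apply, hs, map_zero]), fun n z => by
      obtain ⟨s, hs⟩ := h2 n ((qTr F (Ideal.pow_le_pow_right (Nat.add_le_add_left hij n) :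
        J ^ (n + j) ≤ J ^ (n + i))).app (f ⁻¹ᵁ (U : Y.Opens)) z)
      exact ⟨s, hs.trans ((app_comp_apply _ _ _ _).trans (by rw [qTr_comp]))⟩⟩)
    fun U => by
      obtain ⟨-, c, h⟩ := exists_push_bounds (J := J) f hf hF U.2
      exact ⟨c, h⟩
  have hker : ∀ n, kernel.ι (cmp.app (op (n + c))) ≫ sysMap (Formal.completion J H) (Nat.le_add_right n c) = 0 := fun n => by
    have := hTq (n + c)
    have := hHq (n + c)
    refine hom_eq_zero_of_cover _ fun x => ?_
    obtain ⟨U, hx, hU, -⟩ := hc x
    refine ⟨U, U.2, hx, fun s => ?_⟩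
    obtain ⟨q, hq⟩ := (isQuot_modPowπ J (n + c + 1) H).app_surjective U.2
      ((kernel.ι (cmp.app (op (n + c)))).app U s)
    have h0 : (Formal.modPowπ J (n + c + 1) F).app (f ⁻¹ᵁ (U : Y.Opens)) q = 0 := by
      refine (congr(($(hcmp (n + c))).app (U : Y.Opens) q)).symm.trans ?_
      refine (congrArg (fun t => (cmp.app (op (n + c))).app (U : Y.Opens) t) hq).trans ?_
      exact congr(($(kernel.condition (cmp.app (op (n + c))))).app (U : Y.Opens) s)
    have h1 := hU (n + 1) q (by
      rw [← modPowπ_qTr F (Ideal.pow_le_pow_right (show n + 1 + c ≤ n + c + 1 by omega) :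
        J ^ (n + c + 1) ≤ J ^ (n + 1 + c)), ← app_comp_apply, h0, map_zero])
    change (sysMap (Formal.completion J H) (Nat.le_add_right n c)).app U
      ((kernel.ι (cmp.app (op (n + c)))).app U s) = 0
    rw [← hq]
    refine (congr(($(modPowπ_sysMap J H (Nat.le_add_right n c))).app (U : Y.Opens) q)).trans ?_
    refine ((isQuot_modPowπ J (n + 1) H).app_eq_zero_iff q U.2).2 ?_
    rwa [Ideal.map_pow]
  have hcok : ∀ n, sysMap (pushSys f J F) (Nat.le_add_right n c) ≫ cokernel.π (cmp.app (op n)) = 0 := fun n => by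
    have := hTq (n + c)
    refine hom_eq_zero_of_cover _ fun x => ?_
    obtain ⟨U, hx, -, hU⟩ := hc x
    refine ⟨U, U.2, hx, fun z => ?_⟩
    obtain ⟨s, hs⟩ := hU (n + 1) ((qTr F (Ideal.pow_le_pow_right (show n + 1 + c ≤ n + c + 1 by omega) :
      J ^ (n + c + 1) ≤ J ^ (n + 1 + c))).app (f ⁻¹ᵁ (U : Y.Opens)) z)
    have e : sysMap (Formal.completion J F) (Nat.le_add_right n c) =
        qTr F (Ideal.pow_le_pow_right (show n + 1 + c ≤ n + c + 1 by omega) : J ^ (n + c + 1) ≤ J ^ (n + 1 + c)) ≫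
          qTr F (Ideal.pow_le_pow_right (Nat.le_add_right (n + 1) c) : J ^ (n + 1 + c) ≤ J ^ (n + 1)) := by
      refine (isQuot_modPowπ J (n + c + 1) F).hom_ext ((modPowπ_sysMap J F _).trans (Eq.symm ?_))
      exact (congrArg (Formal.modPowπ J (n + c + 1) F ≫ ·) (qTr_comp F _ _)).trans (modPowπ_qTr F _)
    have h2 : (sysMap (pushSys f J F) (Nat.le_add_right n c)).app (U : Y.Opens) z =
        (cmp.app (op n)).app (U : Y.Opens) ((Formal.modPowπ J (n + 1) H).app (U : Y.Opens) s) := by
      refine Eq.trans ?_ (congr(($(hcmp n)).app (U : Y.Opens) s)).symm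
      refine (congr(($e).app (f ⁻¹ᵁ (U : Y.Opens)) z)).trans ?_
      exact ((app_comp_apply _ _ _ _).symm.trans hs.symm)
    change (cokernel.π (cmp.app (op n))).app (U : Y.Opens) ((sysMap (pushSys f J F) (Nat.le_add_right n c)).app (U : Y.Opens) z) = 0
    rw [h2]
    exact congr(($(cokernel.condition (cmp.app (op n)))).app (U : Y.Opens) ((Formal.modPowπ J (n + 1) H).app (U : Y.Opens) s))
  obtain ⟨α, hα, -⟩ := existsUnique_proLift cmp (isSys_of_isCohFormal hG) (isSys_completion J H).killed c c hker hcok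
    (Functor.whiskerLeft G (Scheme.Modules.pullbackPushforwardAdjunction f).unit ≫
      Functor.whiskerRight β.hom (Scheme.Modules.pushforward f))
  exact ⟨α, cmp, hcmp, fun n => congr($hα |>.app (op n))⟩

end Groth.CohC3
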