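import Groth.Agent.CohC3.Affines

/-! Completions as systems; approximate inverses of morphisms with small kernel and cokernel. -/

universe u

open CategoryTheory CategoryTheory.Limits AlgebraicGeometry Opposite TopologicalSpace

namespace Groth.CohC3

variable {A : Type u} [CommRing A] {X : Scheme.{u}} [X.Over (Spec (CommRingCat.of A))]

/-- If `p` and `p ≫ q` are quotients, so is `q`. -/
lemma IsQuot.of_comp {J J' : Ideal A} {M G G' : X.Modules} {p : M ⟶ G} {q : G ⟶ G'}
    (hp : IsQuot J' p) (h : IsQuot J (p ≫ q)) : IsQuot J q where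
  le_ann := fun a ha => by
    have := hp.epi
    rw [mem_annHom, ← cancel_epi p, comp_zero, ← Category.assoc, smulMod_naturality, Category.assoc]
    exact (mem_annHom _ _).1 (h.le_ann ha)
  epi := have := h.epi; epi_of_epi p q
  desc φ hφ := by
    obtain ⟨ψ, hψ⟩ := h.desc (p ≫ φ) (hφ.trans (annHom_le_precomp p φ))
    exact ⟨ψ, hp.hom_ext (by rw [← Category.assoc, hψ])⟩

@[reassoc]
lemma modPowπ_sysMap_succ (I : Ideal A) (M : X.Modules) (n : ℕ) :
    Formal.modPowπ I (n + 1 + 1) M ≫ sysMap (Formal.completion I M) (Nat.le_succ n) =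
      Formal.modPowπ I (n + 1) M := by
  rw [show sysMap (Formal.completion I M) (Nat.le_succ n) = Formal.modPowTrans I (n + 1) M from
    completion_map_succ I M n]
  exact Formal.modPowπ_trans I (n + 1) M

lemma isSys_completion (I : Ideal A) (M : X.Modules) : IsSys I (Formal.completion I M) where
  killed n := (isQuot_modPowπ I (n + 1) M).killedBy
  isQuot_succ n := (isQuot_modPowπ I (n + 1 + 1) M).of_comp (J := I ^ (n + 1)) (by
    rw [modPowπ_sysMap_succ]; exact isQuot_modPowπ I (n + 1) M)

/-- The canonical map from a module to its completion. -/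
noncomputable def toCompletion (I : Ideal A) (M : X.Modules) :
    (Functor.const ℕᵒᵖ).obj M ⟶ Formal.completion I M :=
  NatTrans.ofOpSequence (fun n => Formal.modPowπ I (n + 1) M) fun n => by
    exact (Category.id_comp _).trans (modPowπ_sysMap_succ I M n).symm

lemma modPowπ_sysMap (I : Ideal A) (M : X.Modules) {i j : ℕ} (h : i ≤ j) :
    Formal.modPowπ I (j + 1) M ≫ sysMap (Formal.completion I M) h = Formal.modPowπ I (i + 1) M := by
  have := (toCompletion I M).naturality (homOfLE h).op
  simp only [Functor.const_obj_map, Category.id_comp] at this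
  exact this.symm

/-- Compatible quotient maps from `M` give an isomorphism with the completion under which they are
the projections. -/
lemma exists_completion_iso (I : Ideal A) (M : X.Modules) (G : ℕᵒᵖ ⥤ X.Modules)
    (p : ∀ n, M ⟶ G.obj (op n)) (hp : ∀ n, IsQuot (I ^ (n + 1)) (p n))
    (hc : ∀ n, p (n + 1) ≫ sysMap G (Nat.le_succ n) = p n) :
    ∃ e : Formal.completion I M ≅ G, ∀ n, Formal.modPowπ I (n + 1) M ≫ e.hom.app (op n) = p n := by
  let app : ∀ n, (Formal.completion I M).obj (op n) ⟶ G.obj (op n) := fun n =>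
    modPowDesc I (n + 1) (p n) (hp n).le_ann
  let τ : Formal.completion I M ⟶ G := NatTrans.ofOpSequence app (fun n => by
    refine (isQuot_modPowπ I (n + 1 + 1) M).hom_ext ?_
    change Formal.modPowπ I (n + 1 + 1) M ≫ sysMap (Formal.completion I M) (Nat.le_succ n) ≫
        modPowDesc I (n + 1) (p n) _ =
      Formal.modPowπ I (n + 1 + 1) M ≫ modPowDesc I (n + 1 + 1) (p (n + 1)) _ ≫ sysMap G (Nat.le_succ n)
    erw [modPowπ_sysMap_succ_assoc, modPowπ_desc, modPowπ_desc_assoc]
    exact (hc n).symm)
  have : ∀ n : ℕᵒᵖ, IsIso (τ.app n) := fun ⟨n⟩ => by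
    obtain ⟨w, hw⟩ := (hp n).isIso_desc
    exact hw
  have : IsIso τ := NatIso.isIso_of_isIso_app τ
  exact ⟨asIso τ, fun n => modPowπ_desc I (n + 1) (p n) (hp n).le_ann⟩

section AInv

variable {M N : X.Modules} (f : M ⟶ N) {b c : A}

lemma epi_pullback_snd_smul (hc : c ∈ annHom (cokernel.π f)) :
    Epi (pullback.snd f (Formal.smulMod A N c)) := by
  let l : N ⟶ Abelian.image f := kernel.lift _ (Formal.smulMod A N c) ((mem_annHom _ _).1 hc)
  let k : pullback (Abelian.factorThruImage f) l ⟶ pullback f (Formal.smulMod A N c) :=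
    pullback.lift (pullback.fst _ _) (pullback.snd _ _) (by
      have h := congrArg (· ≫ Abelian.image.ι f) (pullback.condition (f := Abelian.factorThruImage f) (g := l))
      simpa [l] using h)
  exact epi_of_epi_fac (pullback.lift_snd _ _ _ : k ≫ _ = _)

lemma smul_comp_eq_zero_of_mem (hb : b ∈ annHom (kernel.ι f)) {K : X.Modules} (k : K ⟶ M)
    (hk : k ≫ f = 0) : k ≫ Formal.smulMod A M b = 0 := by
  rw [← kernel.lift_ι f k hk, Category.assoc, smulMod_naturality, (mem_annHom _ _).1 hb, comp_zero]

/-- If `b` kills the kernel and `c` kills the cokernel of `f`, a map `g` with `g f = bc` and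
`f g = bc`. -/
noncomputable def aInv (hb : b ∈ annHom (kernel.ι f)) (hc : c ∈ annHom (cokernel.π f)) : N ⟶ M :=
  haveI := epi_pullback_snd_smul f hc
  Abelian.epiDesc (pullback.snd f (Formal.smulMod A N c)) (pullback.fst _ _ ≫ Formal.smulMod A M b) (by
    rw [← Category.assoc]
    exact smul_comp_eq_zero_of_mem f hb _ (by
      rw [Category.assoc, pullback.condition, ← Category.assoc, kernel.condition, zero_comp]))

@[reassoc]
lemma pullback_snd_aInv (hb : b ∈ annHom (kernel.ι f)) (hc : c ∈ annHom (cokernel.π f)) :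
    pullback.snd f (Formal.smulMod A N c) ≫ aInv f hb hc = pullback.fst _ _ ≫ Formal.smulMod A M b :=
  haveI := epi_pullback_snd_smul f hc
  Abelian.comp_epiDesc _ _ _

lemma comp_aInv (hb : b ∈ annHom (kernel.ι f)) (hc : c ∈ annHom (cokernel.π f)) :
    f ≫ aInv f hb hc = Formal.smulMod A M (b * c) := by
  have h : pullback.lift (Formal.smulMod A M c) f (smulMod_naturality f c).symm ≫
      pullback.snd f (Formal.smulMod A N c) = f := pullback.lift_snd _ _ _
  calc f ≫ aInv f hb hc
      = (pullback.lift (Formal.smulMod A M c) f (smulMod_naturality f c).symm ≫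
          pullback.snd f (Formal.smulMod A N c)) ≫ aInv f hb hc := by rw [h]
    _ = _ := by rw [Category.assoc, pullback_snd_aInv, pullback.lift_fst_assoc, smulMod_mul]

lemma aInv_comp (hb : b ∈ annHom (kernel.ι f)) (hc : c ∈ annHom (cokernel.π f)) :
    aInv f hb hc ≫ f = Formal.smulMod A N (b * c) := by
  have := epi_pullback_snd_smul f hc
  rw [← cancel_epi (pullback.snd f (Formal.smulMod A N c)), pullback_snd_aInv_assoc,
    ← smulMod_naturality, ← Category.assoc, pullback.condition, Category.assoc, smulMod_mul,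
    ← smulMod_naturality]

lemma aInv_naturality {M' N' : X.Modules} (f' : M' ⟶ N') (u : M ⟶ M') (v : N ⟶ N')
    (w : f ≫ v = u ≫ f') (hb : b ∈ annHom (kernel.ι f)) (hc : c ∈ annHom (cokernel.π f))
    (hb' : b ∈ annHom (kernel.ι f')) (hc' : c ∈ annHom (cokernel.π f')) :
    aInv f hb hc ≫ u = v ≫ aInv f' hb' hc' := by
  have := epi_pullback_snd_smul f hc
  rw [← cancel_epi (pullback.snd f (Formal.smulMod A N c)), pullback_snd_aInv_assoc,
    ← smulMod_naturality]
  let k : pullback f (Formal.smulMod A N c) ⟶ pullback f' (Formal.smulMod A N' c) :=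
    pullback.lift (pullback.fst _ _ ≫ u) (pullback.snd _ _ ≫ v) (by
      rw [Category.assoc, ← w, ← Category.assoc, pullback.condition, Category.assoc, Category.assoc,
        smulMod_naturality])
  have hk : pullback.snd f (Formal.smulMod A N c) ≫ v = k ≫ pullback.snd _ _ := (pullback.lift_snd _ _ _).symm
  rw [← Category.assoc (pullback.snd f (Formal.smulMod A N c)) v, hk, Category.assoc,
    pullback_snd_aInv, pullback.lift_fst_assoc, Category.assoc]

end AInv

end Groth.CohC3
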