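import Groth.Agent.CohC3.Smul
import Groth.Agent.QCohMod.Category

/-! Sections over affine opens of `M / J M` for quasi-coherent `M`. -/

universe u

open CategoryTheory CategoryTheory.Limits AlgebraicGeometry Opposite TopologicalSpace

namespace Groth.CohC3

variable {A : Type u} [CommRing A] {X Y : Scheme.{u}} [X.Over (Spec (CommRingCat.of A))]
  [Y.Over (Spec (CommRingCat.of A))]

lemma toGlobal_comp {f : Y ⟶ X} (hf : f ≫ (X ↘ Spec (CommRingCat.of A)) = Y ↘ Spec (CommRingCat.of A))
    (a : A) : f.appTop (Coh.toGlobal (X ↘ Spec (CommRingCat.of A)) a) =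
      Coh.toGlobal (Y ↘ Spec (CommRingCat.of A)) a := by
  unfold Coh.toGlobal
  rw [← hf, Scheme.Hom.comp_appTop]
  rfl

lemma baseApp_preimage {f : Y ⟶ X} (hf : f ≫ (X ↘ Spec (CommRingCat.of A)) = Y ↘ Spec (CommRingCat.of A))
    (U : X.Opens) (a : A) : f.app U (baseApp X U a) = baseApp Y (f ⁻¹ᵁ U) a := by
  change f.app U (X.presheaf.map (homOfLE le_top).op _) = Y.presheaf.map (homOfLE le_top).op _
  rw [← toGlobal_comp hf a]
  exact congr($(f.naturality (homOfLE le_top).op) (Coh.toGlobal (X ↘ Spec (CommRingCat.of A)) a))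

lemma pushforward_map_smulMod {f : Y ⟶ X}
    (hf : f ≫ (X ↘ Spec (CommRingCat.of A)) = Y ↘ Spec (CommRingCat.of A)) (N : Y.Modules) (a : A) :
    (Scheme.Modules.pushforward f).map (Formal.smulMod A N a) =
      Formal.smulMod A ((Scheme.Modules.pushforward f).obj N) a := by
  refine Scheme.Modules.hom_ext _ _ fun U => ?_
  ext s
  have e := congrArg (fun r => (r • (show Γ(N, f ⁻¹ᵁ U) from s))) (baseApp_preimage hf U a)
  exact e.symm

variable {F : X.Modules ⥤ Y.Modules} {f : Y ⟶ X}

lemma map_smulMod_of_adj (adj : F ⊣ Scheme.Modules.pushforward f)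
    (hf : f ≫ (X ↘ Spec (CommRingCat.of A)) = Y ↘ Spec (CommRingCat.of A)) (M : X.Modules) (a : A) :
    F.map (Formal.smulMod A M a) = Formal.smulMod A (F.obj M) a := by
  refine (adj.homEquiv _ _).injective ?_
  rw [Adjunction.homEquiv_unit, Adjunction.homEquiv_unit, pushforward_map_smulMod hf]
  exact (adj.unit.naturality _).symm.trans (smulMod_naturality _ a).symm

lemma IsQuot.map_adj (adj : F ⊣ Scheme.Modules.pushforward f)
    (hf : f ≫ (X ↘ Spec (CommRingCat.of A)) = Y ↘ Spec (CommRingCat.of A)) {J : Ideal A}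
    {M G : X.Modules} {p : M ⟶ G} (h : IsQuot J p) : IsQuot J (F.map p) where
  le_ann := fun a ha => by
    have hz : F.PreservesZeroMorphisms := by
      have : F.IsLeftAdjoint := adj.isLeftAdjoint
      infer_instance
    rw [mem_annHom, ← map_smulMod_of_adj adj hf, ← F.map_comp, (mem_annHom _ _).1 (h.le_ann ha),
      F.map_zero]
  epi := by
    have : F.IsLeftAdjoint := adj.isLeftAdjoint
    have := h.epi
    infer_instance
  desc φ hφ := by
    obtain ⟨ψ, hψ⟩ := h.desc (adj.homEquiv _ _ φ) fun a ha => by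
      rw [mem_annHom, ← Adjunction.homEquiv_naturality_left, map_smulMod_of_adj adj hf,
        (mem_annHom _ _).1 (hφ ha)]
      rw [Adjunction.homEquiv_unit, Functor.map_zero, comp_zero]
    refine ⟨(adj.homEquiv _ _).symm ψ, ?_⟩
    rw [← Adjunction.homEquiv_naturality_left_symm, hψ, Equiv.symm_apply_apply]

lemma isQCoh_of_isQuot {J : Ideal A} {M G : X.Modules} [M.IsQuasicoherent] {p : M ⟶ G}
    (h : IsQuot J p) : G.IsQuasicoherent := by
  obtain ⟨w, hw⟩ := h.isIso_desc
  exact (QCohMod.isQCoh_iff_of_iso (asIso (cokernel.desc _ p w))).mp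
    (QCohMod.isQCoh_cokernel (Formal.smulFamily J M))

/-- Maps out of a quasi-coherent module on `Spec R` are determined by global sections. -/
lemma hom_ext_top {R : CommRingCat.{u}} {M N : (Spec R).Modules} [M.IsQuasicoherent] {φ ψ : M ⟶ N}
    (h : ∀ x, φ.app ⊤ x = ψ.app ⊤ x) : φ = ψ := by
  have hM : IsIso M.fromTildeΓ := inferInstance
  have e : (moduleSpecΓFunctor (R := R)).map φ = (moduleSpecΓFunctor (R := R)).map ψ := by
    ext x; exact h x
  have n₁ := (tilde.adjunction (R := R)).counit.naturality φ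
  have n₂ := (tilde.adjunction (R := R)).counit.naturality ψ
  rw [← cancel_epi M.fromTildeΓ]
  exact n₁.symm.trans ((congrArg (fun t => (tilde.functor R).map t ≫ _) e).trans n₂)

/-- Abstract adjunction fact: every submodule of `G M` is the kernel of a map out of `M`. -/
lemma exists_map_ker_eq {C : Type*} [Category C] {S : Type u} [CommRing S]
    {L : ModuleCat.{u} S ⥤ C} {G : C ⥤ ModuleCat.{u} S} (adj : L ⊣ G)
    (hunit : ∀ N, IsIso (adj.unit.app N)) (M : C) [IsIso (adj.counit.app M)]
    (P : Submodule S (G.obj M)) :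
    ∃ (N : C) (q : M ⟶ N), ∀ y, (G.map q).hom y = 0 ↔ y ∈ P := by
  let mk : G.obj M ⟶ ModuleCat.of S (G.obj M ⧸ P) := ModuleCat.ofHom P.mkQ
  refine ⟨_, inv (adj.counit.app M) ≫ L.map mk, fun y => ?_⟩
  have hn := adj.unit.naturality mk
  dsimp only [Functor.comp_map, Functor.id_map] at hn
  have hq' : G.map (inv (adj.counit.app M) ≫ L.map mk) = mk ≫ adj.unit.app _ := by
    calc G.map (inv (adj.counit.app M) ≫ L.map mk)
        = (adj.unit.app (G.obj M) ≫ G.map (adj.counit.app M)) ≫
            G.map (inv (adj.counit.app M) ≫ L.map mk) := by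
          exact ((congrArg (· ≫ _) (adj.right_triangle_components M)).trans (Category.id_comp _)).symm
      _ = adj.unit.app (G.obj M) ≫ G.map (L.map mk) := by
          rw [Category.assoc, ← Functor.map_comp, IsIso.hom_inv_id_assoc]
      _ = mk ≫ adj.unit.app _ := hn.symm
  have := hunit (ModuleCat.of S (G.obj M ⧸ P))
  have hinj : Function.Injective (adj.unit.app (ModuleCat.of S (G.obj M ⧸ P))).hom :=
    (ConcreteCategory.bijective_of_isIso (adj.unit.app (ModuleCat.of S (G.obj M ⧸ P)))).1
  rw [hq', ModuleCat.hom_comp, LinearMap.comp_apply, map_eq_zero_iff _ hinj]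
  exact Submodule.Quotient.mk_eq_zero P

section Spec

variable {R : CommRingCat.{u}} [(Spec R).Over (Spec (CommRingCat.of A))]

/-- The ring map `A → R` of the structure morphism `Spec R ⟶ Spec A`. -/
noncomputable def baseSpec : A →+* R :=
  (Scheme.ΓSpecIso R).hom.hom.comp (baseApp (Spec R) ⊤)

lemma baseApp_top_smul (M : (Spec R).Modules) (a : A) (x : Γ(M, ⊤)) :
    baseApp (Spec R) ⊤ a • x = (baseSpec a : R) • x := by
  rw [Scheme.Modules.smul_Spec_def]
  congr 1
  change _ = (Spec R).presheaf.map _ ((Scheme.ΓSpecIso R).inv ((Scheme.ΓSpecIso R).hom _))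
  rw [Iso.hom_inv_id_apply]
  exact (congr($((Spec R).presheaf.map_id _) (baseApp (Spec R) ⊤ a))).symm

lemma ker_top_le {J : Ideal A} {M G : (Spec R).Modules} [M.IsQuasicoherent] {p : M ⟶ G}
    (h : IsQuot J p) (x : Γ(M, ⊤)) (hx : p.app ⊤ x = 0) :
    x ∈ (J.map (baseSpec (A := A) (R := R))) • (⊤ : Submodule R Γ(M, ⊤)) := by
  set P := (J.map (baseSpec (A := A) (R := R))) • (⊤ : Submodule R Γ(M, ⊤))
  have hM : IsIso ((tilde.adjunction (R := R)).counit.app M) := (inferInstance : IsIso M.fromTildeΓ)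
  let _ : Module R ((moduleSpecΓFunctor (R := R)).obj M) := ((moduleSpecΓFunctor (R := R)).obj M).isModule
  obtain ⟨N, q, hq⟩ := exists_map_ker_eq (tilde.adjunction (R := R)) (fun _ => inferInstance) M P
  have hkill : J ≤ annHom q := fun a ha => by
    rw [mem_annHom]
    refine hom_ext_top fun y => ?_
    refine Eq.trans (congrArg (fun z => q.app ⊤ z) (baseApp_top_smul M a y)) ?_
    have hy : (baseSpec a : R) • y ∈ P := Submodule.smul_mem_smul (Ideal.mem_map_of_mem _ ha) trivial
    exact (hq _).2 hy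
  obtain ⟨ψ, hψ⟩ := h.desc q hkill
  refine (hq x).1 ?_
  change q.app ⊤ x = 0
  rw [← hψ, Scheme.Modules.Hom.comp_app, ConcreteCategory.comp_apply, hx, map_zero]

end Spec

section Affine

variable {U : X.Opens} (hU : IsAffineOpen U)

lemma baseApp_res {U V : X.Opens} (h : V ≤ U) (a : A) :
    QCohMod.resFun X h (baseApp X U a) = baseApp X V a :=
  Coh.resTop_comp (op U) (op V) (homOfLE h).op _

/-- The kernel over an affine open of `M ⟶ M / J M` is `J M(U)`. -/
theorem IsQuot.app_eq_zero_iff {J : Ideal A} {M G : X.Modules} [M.IsQuasicoherent] {p : M ⟶ G}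
    (h : IsQuot J p) (x : Γ(M, U)) (hU : IsAffineOpen U) :
    p.app U x = 0 ↔ x ∈ (J.map (baseApp X U)) • (⊤ : Submodule Γ(X, U) Γ(M, U)) := by
  constructor
  · intro hx
    let _ : (Spec Γ(X, U)).Over (Spec (CommRingCat.of A)) :=
      ⟨hU.fromSpec ≫ (X ↘ Spec (CommRingCat.of A))⟩
    have hf : hU.fromSpec ≫ (X ↘ Spec (CommRingCat.of A)) =
        Spec Γ(X, U) ↘ Spec (CommRingCat.of A) := rfl
    have hb : (baseSpec (A := A) (R := Γ(X, U))) = baseApp X U := by
      refine RingHom.ext fun a => ?_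
      unfold baseSpec
      change (Scheme.ΓSpecIso Γ(X, U)).hom (baseApp (Spec Γ(X, U)) ⊤ a) = _
      rw [← baseApp_res (le_refl U) a]
      have e : baseApp (Spec Γ(X, U)) (hU.fromSpec ⁻¹ᵁ U) a = hU.fromSpec.app U (baseApp X U a) :=
        (baseApp_preimage hf U a).symm
      have h2 : baseApp (Spec Γ(X, U)) ⊤ a =
          (Spec Γ(X, U)).presheaf.map (eqToHom hU.fromSpec_preimage_self.symm).op
            (baseApp (Spec Γ(X, U)) (hU.fromSpec ⁻¹ᵁ U) a) :=
        (baseApp_res (X := Spec Γ(X, U)) hU.fromSpec_preimage_self.ge a).symm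
      rw [h2, e, hU.fromSpec_app_self, QCohMod.resFun_self, ConcreteCategory.comp_apply]
      have : ∀ z, (Spec Γ(X, U)).presheaf.map (eqToHom hU.fromSpec_preimage_self.symm).op
          ((Spec Γ(X, U)).presheaf.map (eqToHom hU.fromSpec_preimage_self).op z) = z := fun z => by
        rw [← ConcreteCategory.comp_apply, ← Functor.map_comp]; simp
      rw [this, Iso.inv_hom_id_apply]
    have hq := h.map_adj (Scheme.Modules.restrictAdjunction hU.fromSpec) hf
    have : ((Scheme.Modules.restrictFunctor hU.fromSpec).obj M).IsQuasicoherent :=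
      Scheme.Modules.isQuasicoherent_restrictFunctor hU.fromSpec M
    have hx' : ((Scheme.Modules.restrictFunctor hU.fromSpec).map p).app ⊤
        ((QCohMod.topEquiv hU M).symm x) = 0 := by
      apply (QCohMod.topEquiv hU G).injective
      rw [map_zero, ← QCohMod.topEquiv_app, AddEquiv.apply_symm_apply, hx]
    have hmem := ker_top_le hq _ hx'
    rw [hb] at hmem
    have key : ∀ y ∈ (J.map (baseApp X U)) • (⊤ : Submodule Γ(X, U) Γ(M.restrict hU.fromSpec, ⊤)),
        QCohMod.topEquiv hU M y ∈ (J.map (baseApp X U)) • (⊤ : Submodule Γ(X, U) Γ(M, U)) := by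
      intro y hy
      refine Submodule.smul_induction_on hy (fun r hr m _ => ?_) (fun a b ha hb => ?_)
      · rw [QCohMod.topEquiv, QCohMod.secEquiv_smul hU M ⊤ _ le_rfl, QCohMod.resFun_self]
        exact Submodule.smul_mem_smul hr trivial
      · rw [map_add]; exact add_mem ha hb
    simpa using key _ hmem
  · intro hx
    refine Submodule.smul_induction_on hx (fun r hr m _ => ?_) (fun a b ha hb => ?_)
    · rw [p.app_smul]
      induction hr using Submodule.span_induction with
      | mem z hz =>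
        obtain ⟨a, ha, rfl⟩ := hz
        rw [← p.app_smul]
        exact congr(($((mem_annHom p a).1 (h.le_ann ha))).app U m)
      | zero => rw [zero_smul]
      | add a b _ _ ha hb => rw [add_smul, ha, hb, add_zero]
      | smul c a _ ha => rw [smul_eq_mul, mul_smul, ha, smul_zero]
    · rw [map_add, ha, hb, add_zero]

theorem IsQuot.app_surjective {J : Ideal A} {M G : X.Modules} [M.IsQuasicoherent] {p : M ⟶ G}
    (h : IsQuot J p) (hU : IsAffineOpen U) : Function.Surjective (p.app U) :=
  have := isQCoh_of_isQuot h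
  have := h.epi
  QCohMod.app_surjective_of_epi p hU

end Affine

end Groth.CohC3
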