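import Groth.Agent.CohC3.Affines
import Groth.Agent.CohC3.Completion
import Groth.Agent.CohC3.QuotSections
import Groth.Agent.QCohMod.Killed
import Groth.Agent.QCohMod.Coherent
import Groth.Prelude.Def_Formal2

/-! The quotient `M/𝒦M` by an ideal sheaf; functoriality of completion; cokernel systems. -/

universe u

open CategoryTheory CategoryTheory.Limits AlgebraicGeometry Opposite TopologicalSpace

namespace Groth.CohC3

variable {X : Scheme.{u}}

section Ideal

variable (𝒦 : X.IdealSheafData)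

/-- `M ⧸ 𝒦M`. -/
noncomputable def modI (M : X.Modules) : X.Modules :=
  (Scheme.Modules.pushforward 𝒦.subschemeι).obj ((Scheme.Modules.pullback 𝒦.subschemeι).obj M)

/-- The projection onto `M ⧸ 𝒦M`. -/
noncomputable def modIπ (M : X.Modules) : M ⟶ modI 𝒦 M :=
  (Scheme.Modules.pullbackPushforwardAdjunction 𝒦.subschemeι).unit.app M

instance isQuasicoherent_modI (M : X.Modules) [M.IsQuasicoherent] : (modI 𝒦 M).IsQuasicoherent := by
  unfold modI; infer_instance

lemma modIπ_app_surjective (M : X.Modules) [M.IsQuasicoherent] {U : X.Opens} (hU : IsAffineOpen U) :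
    Function.Surjective ((modIπ 𝒦 M).app U) :=
  (QCohMod.unit_closedImmersion_app 𝒦.subschemeι M hU).1

lemma modIπ_app_eq_zero_iff (M : X.Modules) [M.IsQuasicoherent] (U : X.affineOpens) (s : Γ(M, (U : X.Opens))) :
    (modIπ 𝒦 M).app U s = 0 ↔ s ∈ 𝒦.ideal U • (⊤ : Submodule Γ(X, (U : X.Opens)) Γ(M, (U : X.Opens))) := by
  have h := (QCohMod.unit_closedImmersion_app 𝒦.subschemeι M U.2).2 s
  rwa [Scheme.IdealSheafData.ker_subschemeι] at h

instance epi_modIπ (M : X.Modules) [M.IsQuasicoherent] : Epi (modIπ 𝒦 M) :=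
  epi_of_cover _ fun x => by
    obtain ⟨U, hU, hx⟩ := QCohMod.exists_affine_mem x
    exact ⟨U, hU, hx, modIπ_app_surjective 𝒦 M hU⟩

lemma killed_modI (M : X.Modules) : ClSub.KilledByIdeal 𝒦 (modI 𝒦 M) := fun U a ha s =>
  QCohMod.killed_pushforward 𝒦.subschemeι _ U a (by rwa [Scheme.IdealSheafData.ker_subschemeι]) s

lemma isCoh_modI {M : X.Modules} (hM : Coh.IsCoh M) : Coh.IsCoh (modI 𝒦 M) :=
  have := hM.1
  ⟨isQuasicoherent_modI 𝒦 M, QCohMod.isFT_of_epi (modIπ 𝒦 M) hM.2⟩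

variable {𝒦}

lemma exists_modI_desc {M N : X.Modules} [M.IsQuasicoherent] [N.IsQuasicoherent] (φ : M ⟶ N)
    (hN : ClSub.KilledByIdeal 𝒦 N) : ∃ ψ : modI 𝒦 M ⟶ N, modIπ 𝒦 M ≫ ψ = φ := by
  refine ⟨Abelian.epiDesc (modIπ 𝒦 M) φ ?_, Abelian.comp_epiDesc _ _ _⟩
  refine hom_eq_zero_of_cover _ fun x => ?_
  obtain ⟨U, hU, hx⟩ := QCohMod.exists_affine_mem x
  refine ⟨U, hU, hx, fun s => ?_⟩
  have h0 : (modIπ 𝒦 M).app U ((kernel.ι (modIπ 𝒦 M)).app U s) = 0 :=
    congr(($(kernel.condition (modIπ 𝒦 M))).app U s)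
  change φ.app U ((kernel.ι (modIπ 𝒦 M)).app U s) = 0
  refine Submodule.smul_induction_on ((modIπ_app_eq_zero_iff 𝒦 M ⟨U, hU⟩ _).1 h0) (fun r hr m _ => ?_)
    (fun a b ha hb => by rw [map_add, ha, hb, add_zero])
  rw [φ.app_smul]
  exact hN ⟨U, hU⟩ r hr _

lemma killed_of_mono {M N : X.Modules} (i : M ⟶ N) [Mono i] (h : ClSub.KilledByIdeal 𝒦 N) :
    ClSub.KilledByIdeal 𝒦 M := fun U a ha (s : Γ(M, (U : X.Opens))) => by
  apply QCohMod.app_injective_of_mono i U
  refine (i.app_smul a s).trans ((h U a ha _).trans (map_zero _).symm)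

lemma killed_of_epi {M N : X.Modules} [M.IsQuasicoherent] [N.IsQuasicoherent] (p : M ⟶ N) [Epi p]
    (h : ClSub.KilledByIdeal 𝒦 M) : ClSub.KilledByIdeal 𝒦 N :=
  QCohMod.killed_of_epi p h

lemma killed_of_le {𝒥 : X.IdealSheafData} (hle : 𝒥 ≤ 𝒦) {M : X.Modules}
    (h : ClSub.KilledByIdeal 𝒦 M) : ClSub.KilledByIdeal 𝒥 M :=
  fun U a ha s => h U a (hle U ha) s

end Ideal

variable {A : Type u} [CommRing A] [X.Over (Spec (CommRingCat.of A))] {I : Ideal A}

lemma isCoh_modPow' {M : X.Modules} (hM : Coh.IsCoh M) (I : Ideal A) (n : ℕ) :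
    Coh.IsCoh (Formal.modPow I n M) :=
  have := hM.1
  ⟨isQCoh_of_isQuot (isQuot_modPowπ I n M), QCohMod.isFT_of_epi (Formal.modPowπ I n M) hM.2⟩

/-- The completion of a morphism. -/
noncomputable def mapCompl (I : Ideal A) {M N : X.Modules} (φ : M ⟶ N) :
    Formal.completion I M ⟶ Formal.completion I N :=
  NatTrans.ofOpSequence
    (fun n => modPowDesc I (n + 1) (φ ≫ Formal.modPowπ I (n + 1) N)
      ((isQuot_modPowπ I (n + 1) N).le_ann.trans (annHom_le_precomp _ _)))
    fun n => by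
      refine (isQuot_modPowπ I (n + 1 + 1) M).hom_ext ?_
      change Formal.modPowπ I (n + 1 + 1) M ≫ sysMap (Formal.completion I M) (Nat.le_succ n) ≫ _ =
        Formal.modPowπ I (n + 1 + 1) M ≫ _ ≫ sysMap (Formal.completion I N) (Nat.le_succ n)
      erw [modPowπ_sysMap_succ_assoc, modPowπ_desc, modPowπ_desc_assoc]
      rw [Category.assoc]
      exact congrArg (φ ≫ ·) (modPowπ_sysMap_succ I N n).symm

@[reassoc]
lemma modPowπ_mapCompl {M N : X.Modules} (φ : M ⟶ N) (n : ℕ) :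
    Formal.modPowπ I (n + 1) M ≫ (mapCompl I φ).app (op n) = φ ≫ Formal.modPowπ I (n + 1) N :=
  modPowπ_desc I (n + 1) _ ((isQuot_modPowπ I (n + 1) N).le_ann.trans (annHom_le_precomp _ _))

lemma completion_hom_ext {M : X.Modules} {G : ℕᵒᵖ ⥤ X.Modules} {α β : Formal.completion I M ⟶ G}
    (h : ∀ n, Formal.modPowπ I (n + 1) M ≫ α.app (op n) = Formal.modPowπ I (n + 1) M ≫ β.app (op n)) :
    α = β :=
  NatTrans.ext (funext fun ⟨n⟩ => (isQuot_modPowπ I (n + 1) M).hom_ext (h n))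

lemma epi_mapCompl {M N : X.Modules} (φ : M ⟶ N) [Epi φ] (n : ℕ) : Epi ((mapCompl I φ).app (op n)) := by
  have := (isQuot_modPowπ I (n + 1) N).epi
  have : Epi (Formal.modPowπ I (n + 1) M ≫ (mapCompl I φ).app (op n)) := by
    rw [modPowπ_mapCompl]; exact @epi_comp _ _ _ _ _ φ inferInstance _ (isQuot_modPowπ I (n + 1) N).epi
  exact epi_of_epi (Formal.modPowπ I (n + 1) M) _

section Coker

variable {G H : ℕᵒᵖ ⥤ X.Modules} (α : G ⟶ H)

/-- The levelwise cokernel of a morphism of systems. -/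
noncomputable def cokSys : ℕᵒᵖ ⥤ X.Modules :=
  Functor.ofOpSequence (X := fun n => cokernel (α.app (op n))) fun n =>
    cokernel.map _ _ (sysMap G (Nat.le_succ n)) (sysMap H (Nat.le_succ n))
      (α.naturality (homOfLE (Nat.le_succ n)).op).symm

lemma cokSys_map_succ (n : ℕ) : sysMap (cokSys α) (Nat.le_succ n) =
    cokernel.map _ _ (sysMap G (Nat.le_succ n)) (sysMap H (Nat.le_succ n))
      (α.naturality (homOfLE (Nat.le_succ n)).op).symm := Functor.ofOpSequence_map_homOfLE_succ _ n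

/-- The projection onto the cokernel system. -/
noncomputable def cokSysπ : H ⟶ cokSys α :=
  NatTrans.ofOpSequence (fun n => cokernel.π (α.app (op n))) fun n => by
    change sysMap H (Nat.le_succ n) ≫ _ = _ ≫ sysMap (cokSys α) (Nat.le_succ n)
    rw [cokSys_map_succ]
    exact (cokernel.π_desc _ _ _).symm

lemma isCohFormal_cokSys (hG : IsSys I G) (hH : IsSys I H) (hGq : ∀ n, (G.obj (op n)).IsQuasicoherent)
    (hHc : ∀ n, Coh.IsCoh (H.obj (op n))) : Formal.IsCohFormal I (cokSys α) := by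
  refine ⟨fun n => have := hGq n; QCohMod.isCoh_cokernel _ (hHc n), fun n => ?_, fun n => ?_⟩
  · exact @killedBy_of_epi A _ X _ (I ^ (n + 1)) (H.obj (op n)) (cokernel (α.app (op n)))
      (cokernel.π (α.app (op n))) coequalizer.π_epi
      (fun a ha => by rw [mem_annHom, hH.killed n a ha, zero_comp])
  · have hk : Formal.KilledBy (I ^ (n + 1)) (cokernel (α.app (op n))) :=
      @killedBy_of_epi A _ X _ (I ^ (n + 1)) (H.obj (op n)) (cokernel (α.app (op n)))
        (cokernel.π (α.app (op n))) coequalizer.π_epi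
        (fun a ha => by rw [mem_annHom, hH.killed n a ha, zero_comp])
    have hw : α.app (op (n + 1)) ≫ sysMap H (Nat.le_succ n) = sysMap G (Nat.le_succ n) ≫ α.app (op n) :=
      (α.naturality (homOfLE (Nat.le_succ n)).op).symm
    suffices h : IsQuot (I ^ (n + 1)) (cokernel.map (α.app (op (n + 1))) (α.app (op n)) _ _ hw) by
      have h' := h.isIso_desc
      rw [← cokSys_map_succ] at h'
      exact h'
    refine ⟨le_annHom_of_killedBy hk _, ?_, fun {W} φ hφ => ?_⟩
    · have := (hH.isQuot_succ n).epi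
      have : Epi (sysMap H (Nat.le_succ n) ≫ cokernel.π (α.app (op n))) :=
        @epi_comp _ _ _ _ _ _ inferInstance _ coequalizer.π_epi
      exact epi_of_epi_fac (cokernel.π_desc _ (sysMap H (Nat.le_succ n) ≫ cokernel.π (α.app (op n))) _)
    · have := (hG.isQuot_succ n).epi
      obtain ⟨ψ, hψ⟩ := (hH.isQuot_succ n).desc (cokernel.π (α.app (op (n + 1))) ≫ φ)
        (hφ.trans (annHom_le_precomp _ _))
      have h0 : α.app (op n) ≫ ψ = 0 := by
        rw [← cancel_epi (sysMap G (Nat.le_succ n)), comp_zero, ← Category.assoc, ← hw, Category.assoc, hψ,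
          cokernel.condition_assoc, zero_comp]
      refine ⟨cokernel.desc _ ψ h0, ?_⟩
      apply coequalizer.hom_ext
      exact (cokernel.π_desc_assoc _ _ _ _).trans ((Category.assoc _ _ _).trans
        ((congrArg (sysMap H (Nat.le_succ n) ≫ ·) (cokernel.π_desc _ _ _)).trans hψ))

end Coker

end Groth.CohC3
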