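import Groth.Agent.CohC3.AdicSeq
import Groth.Agent.CohC3.ProperHelpers
import Groth.Agent.CohC3.FullyFaithful
import Groth.Agent.CohC3.QuotSections
import Groth.Agent.CohC3.ModIdeal

/-! Formal functions for sections over the inverse image of an affine open under a proper morphism. -/

universe u

open CategoryTheory CategoryTheory.Limits AlgebraicGeometry Opposite TopologicalSpace

namespace Groth.CohC3

section ChangeBase

variable {A R : Type u} [CommRing A] [CommRing R] {W : Scheme.{u}} [W.Over (Spec (CommRingCat.of A))]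
  [W.Over (Spec (CommRingCat.of R))] {ψ : A →+* R}

lemma mem_annHom_changeBase
    (h : ∀ a, Coh.toGlobal (W ↘ Spec (CommRingCat.of R)) (ψ a) = Coh.toGlobal (W ↘ Spec (CommRingCat.of A)) a)
    {M N : W.Modules} (p : M ⟶ N) (a : A) : ψ a ∈ annHom (A := R) p ↔ a ∈ annHom (A := A) p := by
  rw [mem_annHom, mem_annHom, Formal.smulMod, Formal.smulMod, h]

/-- `M → M/JM` is also the quotient by the extended ideal. -/
lemma IsQuot.changeBase
    (h : ∀ a, Coh.toGlobal (W ↘ Spec (CommRingCat.of R)) (ψ a) = Coh.toGlobal (W ↘ Spec (CommRingCat.of A)) a)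
    {J : Ideal A} {M G : W.Modules} {p : M ⟶ G} (hp : IsQuot J p) : IsQuot (A := R) (J.map ψ) p where
  le_ann := Ideal.map_le_iff_le_comap.2 fun a ha => (mem_annHom_changeBase h p a).2 (hp.le_ann ha)
  epi := hp.epi
  desc φ hφ := hp.desc φ fun a ha => (mem_annHom_changeBase h φ a).1 (hφ (Ideal.mem_map_of_mem ψ ha))

end ChangeBase

section Sections

variable {X Y : Scheme.{u}} (f : X ⟶ Y) (U : Y.Opens)

/-- Sections of a restriction. -/
noncomputable def secW (M : X.Modules) (W : X.Opens) :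
    Γ(M.restrict W.ι, (⊤ : W.toScheme.Opens)) ≃+ Γ(M, W) :=
  ((M.restrictAppIso W.ι ⊤) ≪≫ M.presheaf.mapIso (eqToIso W.ι_image_top.symm).op).addCommGroupIsoToAddEquiv

lemma secW_apply (M : X.Modules) (W : X.Opens) (x : Γ(M.restrict W.ι, (⊤ : W.toScheme.Opens))) :
    secW M W x = QCohMod.res M W.ι_image_top.ge (show Γ(M, W.ι ''ᵁ ⊤) from x) := rfl

lemma secW_map {M N : X.Modules} (φ : M ⟶ N) (W : X.Opens)
    (x : Γ(M.restrict W.ι, (⊤ : W.toScheme.Opens))) :
    secW N W (((Scheme.Modules.restrictFunctor W.ι).map φ).app ⊤ x) = φ.app W (secW M W x) := by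
  rw [secW_apply, secW_apply]
  exact (CohTwo.app_res φ W.ι_image_top.ge (show Γ(M, W.ι ''ᵁ ⊤) from x)).symm

lemma secW_smul (M : X.Modules) (W : X.Opens) (r : Γ(X, W))
    (x : Γ(M.restrict W.ι, (⊤ : W.toScheme.Opens))) :
    secW M W (W.topIso.inv r • x) = r • secW M W x := by
  rw [secW_apply, secW_apply]
  refine (QCohMod.res_smul M W.ι_image_top.ge _ _).trans ?_
  congr 1
  change X.presheaf.map _ ((W.ι.appIso ⊤).inv (W.topIso.inv r)) = r
  rw [← CommRingCat.comp_apply, ← CommRingCat.comp_apply]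
  have : W.topIso.inv ≫ (W.ι.appIso ⊤).inv ≫ X.presheaf.map (homOfLE W.ι_image_top.ge).op = 𝟙 _ := by
    simp only [Scheme.Opens.topIso_inv, Scheme.Opens.ι_appIso, Iso.refl_inv]
    erw [Category.id_comp, ← Functor.map_comp]
    exact X.presheaf.map_id _
  exact congr($this r)

variable {U} (hU : IsAffineOpen U)

/-- The structure map of `f ⁻¹ U` over the ring of `U`. -/
noncomputable abbrev overMap : (f ⁻¹ᵁ U).toScheme ⟶ Spec (CommRingCat.of Γ(Y, U)) :=
  (f ∣_ U) ≫ hU.isoSpec.hom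

lemma toGlobal_overMap (r : Γ(Y, U)) :
    Coh.toGlobal (overMap f hU) r = (f ⁻¹ᵁ U).topIso.inv (f.app U r) := by
  have key : (Scheme.ΓSpecIso Γ(Y, U)).inv ≫ (overMap f hU).appTop = f.app U ≫ (f ⁻¹ᵁ U).topIso.inv := by
    rw [Scheme.Hom.comp_appTop, IsAffineOpen.isoSpec_hom_appTop]
    simp only [Category.assoc, Iso.inv_hom_id_assoc]
    change U.topIso.inv ≫ (f ∣_ U).app ⊤ = _
    rw [morphismRestrict_app, Scheme.Opens.topIso_inv, Scheme.Opens.topIso_inv]
    erw [← Category.assoc, f.naturality, Category.assoc, ← Functor.map_comp]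
    rfl
  exact congr($key r)

end Sections

section Bounds

variable {A : Type u} [CommRing A] {J : Ideal A} {X Y : Scheme.{u}} [X.Over (Spec (CommRingCat.of A))]
  [Y.Over (Spec (CommRingCat.of A))] (f : X ⟶ Y) [IsProper f]

/-- Finiteness and formal functions over an affine open of the target. -/
theorem exists_push_bounds (hf : f ≫ (Y ↘ Spec (CommRingCat.of A)) = X ↘ Spec (CommRingCat.of A))
    [IsLocallyNoetherian Y] {F : X.Modules} (hF : Coh.IsCoh F) {U : Y.Opens} (hU : IsAffineOpen U) :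
    Module.Finite Γ(Y, U) Γ((Scheme.Modules.pushforward f).obj F, U) ∧
    ∃ c, (∀ n (s : Γ((Scheme.Modules.pushforward f).obj F, U)),
        (Formal.modPowπ J (n + c) F).app (f ⁻¹ᵁ U) s = 0 →
          s ∈ ((J.map (baseApp Y U)) ^ n • ⊤ : Submodule Γ(Y, U) Γ((Scheme.Modules.pushforward f).obj F, U))) ∧
      ∀ n (z : Γ(Formal.modPow J (n + c) F, f ⁻¹ᵁ U)), ∃ s : Γ(F, f ⁻¹ᵁ U),
        (Formal.modPowπ J n F).app (f ⁻¹ᵁ U) s =
          (qTr F (Ideal.pow_le_pow_right (Nat.le_add_right n c) : J ^ (n + c) ≤ J ^ n)).app (f ⁻¹ᵁ U) z := by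
  let W : X.Opens := f ⁻¹ᵁ U
  letI iA : W.toScheme.Over (Spec (CommRingCat.of A)) := ⟨W.ι ≫ (X ↘ Spec (CommRingCat.of A))⟩
  letI iR : W.toScheme.Over (Spec (CommRingCat.of Γ(Y, U))) := ⟨overMap f hU⟩
  have : IsNoetherianRing Γ(Y, U) := IsLocallyNoetherian.component_noetherian ⟨U, hU⟩
  have hp : IsProper (f ∣_ U) := IsZariskiLocalAtTarget.restrict (P := @IsProper) (inferInstance : IsProper f) U
  have : IsProper (W.toScheme ↘ Spec (CommRingCat.of Γ(Y, U))) :=
    MorphismProperty.comp_mem _ _ _ hp inferInstance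
  have : AlgebraicGeometry.IsNoetherian W.toScheme := isNoetherian_of_proper Γ(Y, U) W.toScheme
  -- restricted modules
  let Fn := Scheme.Modules.restrictFunctor W.ι
  have hqcoh : ∀ {M : X.Modules}, Coh.IsCoh M → Coh.IsCoh (Fn.obj M) := fun {M} hM => by
    have := hM.1
    exact ⟨(QCohMod.isQCoh_iff_of_iso ((Scheme.Modules.restrictFunctorIsoPullback W.ι).app M)).2
        (QCohMod.isQCoh_pullback_obj W.ι M),
      @QCohMod.isFT_of_epi _ _ _ (((Scheme.Modules.restrictFunctorIsoPullback W.ι).app M).inv)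
        inferInstance (QCohMod.isFT_pullback W.ι M hM.2)⟩
  have hF' := hqcoh hF
  -- scalars
  have hscal : ∀ (M : X.Modules) (r : Γ(Y, U)) (x : Coh.HH W.toScheme (Fn.obj M) 0),
      secW M W (secEquiv₀ (Fn.obj M) (r • x)) = f.app U r • secW M W (secEquiv₀ (Fn.obj M) x) := by
    intro M r x
    rw [← hmap_smulMod, secEquiv₀_hmap, smulMod_app]
    refine Eq.trans (congrArg (secW M W) ?_) (secW_smul M W _ _)
    congr 1
    refine Eq.trans ?_ (toGlobal_overMap f hU r)
    exact congr($(W.toScheme.presheaf.map_id _) _)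
  have hψ : ∀ a, Coh.toGlobal (W.toScheme ↘ Spec (CommRingCat.of Γ(Y, U))) (baseApp Y U a) =
      Coh.toGlobal (W.toScheme ↘ Spec (CommRingCat.of A)) a := fun a => by
    refine (toGlobal_overMap f hU _).trans ?_
    rw [baseApp_preimage hf, ← toGlobal_comp (f := W.ι) rfl a]
    change W.topIso.inv (X.presheaf.map _ _) = W.ι.app ⊤ _
    rw [← CommRingCat.comp_apply, Scheme.Opens.topIso_inv, Scheme.Opens.ι_app]
    exact congr($((X.presheaf.map_comp _ _).symm) _)
  -- quotients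
  have hquot : ∀ n, IsQuot (A := Γ(Y, U)) ((J.map (baseApp Y U)) ^ n) (Fn.map (Formal.modPowπ J n F)) :=
    fun n => by
      rw [← Ideal.map_pow]
      exact ((isQuot_modPowπ J n F).map_adj (Scheme.Modules.restrictAdjunction W.ι) rfl).changeBase hψ
  have hP := finClass_isCoh (A := Γ(Y, U)) (X := W.toScheme) fun G hG q => finite_HH_of_proper Γ(Y, U) W.toScheme hG q
  have hPM := fun n => isCoh_powSub (I := J.map (baseApp Y U)) hF' n
  obtain ⟨c₁, hc₁⟩ := exists_ker_modPowπ_le hP hPM hF' 0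
  obtain ⟨c₂, hc₂⟩ := exists_range_qTr_le hP hPM hF' 0
  let e := fun M : X.Modules => (secEquiv₀ (Fn.obj M)).trans (secW M W)
  have he : ∀ {M N : X.Modules} (φ : M ⟶ N) x, e N (hmap Γ(Y, U) (Fn.map φ) 0 x) = φ.app W (e M x) :=
    fun {M N} φ x => by
      change secW N W (secEquiv₀ _ (hmap Γ(Y, U) (Fn.map φ) 0 x)) = _
      rw [secEquiv₀_hmap]
      exact secW_map φ W _
  constructor
  · have := finite_HH_of_proper Γ(Y, U) W.toScheme hF' 0
    let L : Coh.HH W.toScheme (Fn.obj F) 0 →ₗ[Γ(Y, U)] Γ((Scheme.Modules.pushforward f).obj F, U) :=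
      { toFun := fun x => e F x
        map_add' := fun x y => map_add (e F) x y
        map_smul' := fun r x => hscal F r x }
    exact Module.Finite.of_surjective L (e F).surjective
  refine ⟨max c₁ c₂, fun n s hs => ?_, fun n z => ?_⟩
  · obtain ⟨x, rfl⟩ := (e F).surjective s
    obtain ⟨δ, hδ⟩ := (hquot (n + max c₁ c₂)).desc (Formal.modPowπ (J.map (baseApp Y U)) (n + max c₁ c₂) (Fn.obj F))
      (isQuot_modPowπ _ _ _).le_ann
    have h0 : hmap Γ(Y, U) (Formal.modPowπ (J.map (baseApp Y U)) (n + max c₁ c₂) (Fn.obj F)) 0 x = 0 := by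
      rw [← hδ, ← hmap_comp, show hmap Γ(Y, U) (Fn.map (Formal.modPowπ J (n + max c₁ c₂) F)) 0 x = 0 from
        (e _).injective ((he _ x).trans (hs.trans (map_zero (e _)).symm)), map_zero]
    have h1 := hc₁ _ h0
    refine Submodule.smul_mono_left (Ideal.pow_le_pow_right (by omega : n ≤ n + max c₁ c₂ - c₁)) ?_
    refine Submodule.smul_induction_on h1 (fun r hr y _ => ?_) (fun a b ha hb => by rw [map_add]; exact add_mem ha hb)
    rw [show e F (r • y) = f.app U r • e F y from hscal F r y]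
    exact Submodule.smul_mem_smul (N := (⊤ : Submodule Γ(Y, U) Γ((Scheme.Modules.pushforward f).obj F, U))) hr
      (n := e F y) trivial
  · let m := n + max c₁ c₂
    obtain ⟨δ, hδ⟩ := (isQuot_modPowπ (J.map (baseApp Y U)) m (Fn.obj F)).desc (Fn.map (Formal.modPowπ J m F))
      (hquot m).le_ann
    obtain ⟨γ, hγ⟩ := (hquot m).desc (Formal.modPowπ (J.map (baseApp Y U)) m (Fn.obj F)) (isQuot_modPowπ _ _ _).le_ann
    obtain ⟨δn, hδn⟩ := (isQuot_modPowπ (J.map (baseApp Y U)) n (Fn.obj F)).desc (Fn.map (Formal.modPowπ J n F))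
      (hquot n).le_ann
    obtain ⟨y, hy⟩ := (e (Formal.modPow J m F)).surjective z
    obtain ⟨x, hx⟩ := hc₂ n m (Nat.le_add_right _ _) (by omega) (hmap Γ(Y, U) γ 0 y)
    refine ⟨e F x, ?_⟩
    refine (he (Formal.modPowπ J n F) x).symm.trans (Eq.trans ?_
      ((he (qTr F (Ideal.pow_le_pow_right (Nat.le_add_right n (max c₁ c₂)) : J ^ m ≤ J ^ n)) y).trans
        (congrArg _ hy)))
    congr 1
    rw [← hδn, ← hmap_comp, hx, hmap_comp, hmap_comp]
    refine congrArg (fun φ => hmap Γ(Y, U) φ 0 y) ?_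
    have hm : γ ≫ qTr (Fn.obj F) (Ideal.pow_le_pow_right (Nat.le_add_right n (max c₁ c₂))) ≫ δn =
        Fn.map (qTr F (Ideal.pow_le_pow_right (Nat.le_add_right n (max c₁ c₂)) : J ^ m ≤ J ^ n)) := by
      refine (hquot m).hom_ext ?_
      rw [← Category.assoc, hγ, ← Category.assoc, modPowπ_qTr, hδn, ← Functor.map_comp, modPowπ_qTr]
    rw [← hm]

end Bounds

end Groth.CohC3
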