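import Mathlib
import Groth.Prelude.Def_Formal2

/-! Towers of abelian groups: compatible sequences, vanishing of the first derived limit. -/

universe u

open CategoryTheory Opposite

namespace Groth.CohC3.Tower

variable (G : ℕ → Type u) [∀ n, AddCommGroup (G n)] (t : ∀ n, G (n + 1) →+ G n)

/-- The tower as a functor. -/
noncomputable abbrev fn : ℕᵒᵖ ⥤ AddCommGrpCat.{u} :=
  Functor.ofOpSequence (X := fun n => AddCommGrpCat.of (G n)) (fun n => AddCommGrpCat.ofHom (t n))

/-- Composite transition map. -/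
noncomputable def c (i j : ℕ) (h : i ≤ j) : G j →+ G i := ((fn G t).map (homOfLE h).op).hom

@[simp] theorem c_self (i : ℕ) (x : G i) : c G t i i le_rfl x = x := by
  change ((fn G t).map (𝟙 (op i))).hom x = x
  rw [CategoryTheory.Functor.map_id]; rfl

@[simp] theorem c_succ (i : ℕ) (x : G (i + 1)) : c G t i (i + 1) (Nat.le_succ i) x = t i x := by
  unfold c fn
  rw [Functor.ofOpSequence_map_homOfLE_succ]; rfl

theorem c_comp (i j k : ℕ) (h : i ≤ j) (h' : j ≤ k) (x : G k) :
    c G t i j h (c G t j k h' x) = c G t i k (h.trans h') x := by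
  change (((fn G t).map (homOfLE h').op) ≫ ((fn G t).map (homOfLE h).op)).hom x = _
  rw [← Functor.map_comp]; rfl

theorem t_c (i k : ℕ) (h : i + 1 ≤ k) (x : G k) :
    t i (c G t (i + 1) k h x) = c G t i k ((Nat.le_succ i).trans h) x := by
  rw [← c_succ G t i, c_comp]

theorem towerDiff_surjective_of_subgroups (S : ∀ n, AddSubgroup (G n))
    (hS : ∀ n, ∀ s ∈ S n, ∃ s' ∈ S (n + 1), t n s' = s)
    (hst : ∀ n, ∀ s ∈ S (n + 1), t n s ∈ S n)
    (hj : ∀ i, ∃ j, ∃ h : i ≤ j, ∀ z, c G t i j h z ∈ S i) :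
    Function.Surjective (Formal2.towerDiff G t) := by
  classical
  intro y
  choose j hle hmem using hj
  have hmem' : ∀ i k (h : j i ≤ k) (z : G k), c G t i k ((hle i).trans h) z ∈ S i := fun i k h z => by
    rw [← c_comp G t i (j i) k (hle i) h]; exact hmem i _
  let P : ℕ → ∀ i, G i := fun N i => ∑ k ∈ Finset.range N,
    if h : i ≤ k then c G t i k h (y k) else 0
  have hP : ∀ N i, j i ≤ N → P N i - P (j i) i ∈ S i := by
    intro N i hN
    simp only [P, Finset.sum_range_sub_sum_range hN]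
    refine AddSubgroup.sum_mem _ fun k hk => ?_
    obtain ⟨-, hk'⟩ := Finset.mem_filter.1 hk
    rw [dif_pos ((hle i).trans hk')]
    exact hmem' i k hk' _
  have hrec : ∀ N i, i < N → P N i - t i (P N (i + 1)) = y i := by
    intro N i hN
    simp only [P, map_sum, ← Finset.sum_sub_distrib]
    rw [Finset.sum_eq_single i]
    · rw [dif_pos le_rfl, dif_neg (by omega)]; simp
    · intro k _ hk
      by_cases h : i + 1 ≤ k
      · rw [dif_pos ((Nat.le_succ i).trans h), dif_pos h, t_c, sub_self]
      · rw [dif_neg (by omega), dif_neg h]; simp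
    · intro h; exact absurd (Finset.mem_range.2 hN) h
  let x₀ : ∀ i, G i := fun i => P (j i) i
  let r : ∀ i, G i := fun i => x₀ i - t i (x₀ (i + 1)) - y i
  have hr : ∀ i, r i ∈ S i := by
    intro i
    set N := max (j i) (max (j (i + 1)) (i + 1))
    have e : r i = t i (P N (i + 1) - x₀ (i + 1)) - (P N i - x₀ i) := by
      simp only [r]
      rw [map_sub, ← hrec N i (by omega)]
      abel
    rw [e]
    exact sub_mem (hst _ _ (hP _ _ (by omega))) (hP _ _ (by omega))
  choose g hg hgt using hS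
  let z : ∀ n, {s : G n // s ∈ S n} := fun n => Nat.rec (motive := fun n => {s : G n // s ∈ S n})
    ⟨0, zero_mem _⟩
    (fun n zn => ⟨g n (zn.1 + r n) (add_mem zn.2 (hr n)), hg n _ _⟩) n
  refine ⟨fun n => x₀ n + (z n).1, funext fun n => ?_⟩
  have hz : t n (z (n + 1)).1 = (z n).1 + r n := hgt n _ _
  change x₀ n + (z n).1 - t n (x₀ (n + 1) + (z (n + 1)).1) = y n
  rw [map_add, hz]
  simp only [r]
  abel

theorem eq_c_of_compatible (x : ∀ n, G n) (i j : ℕ) (h : i ≤ j)
    (hx : ∀ n, i ≤ n → n < j → x n = t n (x (n + 1))) : x i = c G t i j h (x j) := by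
  induction j, h using Nat.le_induction with
  | base => simp
  | succ k hk ih =>
      rw [ih fun n h1 h2 => hx n h1 (by omega), hx k hk (by omega), ← c_succ G t k, c_comp]

theorem exists_compatible (i j : ℕ) (h : i ≤ j) (z : G j) :
    ∃ x : ∀ n, G n, (∀ n, i ≤ n → n < j → x n = t n (x (n + 1))) ∧ x i = c G t i j h z := by
  classical
  refine ⟨fun n => if hn : n ≤ j then c G t n j hn z else 0, fun n _ h2 => ?_, dif_pos h⟩
  simp only [dif_pos h2.le, dif_pos (Nat.succ_le_of_lt h2), t_c]

end Groth.CohC3.Tower
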