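import Groth.Agent.CohC3.FormalFunctions
import Groth.Agent.CohC3.Completion
import Groth.Agent.CohC3.Tower
import Groth.Agent.AdicLinTop.Adic

/-! The theorem on formal functions, deduced from the pro-isomorphism. -/

universe u

open CategoryTheory CategoryTheory.Limits AlgebraicGeometry Opposite TopologicalSpace

namespace Groth.CohC3

variable {A : Type u} [CommRing A] {X : Scheme.{u}} [X.Over (Spec (CommRingCat.of A))]
  (I : Ideal A) (F : X.Modules) (p : ℕ)

lemma HHmodPowTrans_eq (n : ℕ) (y : Formal.HHmodPow I F p (n + 1)) :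
    Formal.HHmodPowTrans I F p n y =
      hmap A (qTr F (Ideal.pow_le_pow_right (Nat.le_succ (n + 1)) : I ^ (n + 1 + 1) ≤ I ^ (n + 1))) p y := by
  rw [show qTr F (Ideal.pow_le_pow_right (Nat.le_succ (n + 1)) : I ^ (n + 1 + 1) ≤ I ^ (n + 1)) =
    Formal.modPowTrans I (n + 1) F from (isQuot_modPowπ I (n + 1 + 1) F).hom_ext
      ((modPowπ_qTr F _).trans (Formal.modPowπ_trans I (n + 1) F).symm)]
  rfl

lemma hmap_qTr_of_mem_HHlim (y : Formal.HHlim I F p) {i j : ℕ} (h : i ≤ j) :
    hmap A (qTr F (Ideal.pow_le_pow_right (Nat.succ_le_succ h) : I ^ (j + 1) ≤ I ^ (i + 1))) p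
      ((y : ∀ n, Formal.HHmodPow I F p n) j) = (y : ∀ n, Formal.HHmodPow I F p n) i := by
  induction j, h using Nat.le_induction with
  | base =>
    rw [show qTr F (le_refl (I ^ (i + 1))) = 𝟙 _ from (isQuot_modPowπ I (i + 1) F).hom_ext
      ((modPowπ_qTr F _).trans (Category.comp_id _).symm), hmap_id]
  | succ k hk ih =>
    rw [← ih, ← y.2 k, HHmodPowTrans_eq, hmap_comp, qTr_comp]

lemma toHHmodPow_eq (n : ℕ) (x : Coh.HH X F p) :
    Formal.toHHmodPow I F p n x = hmap A (Formal.modPowπ I (n + 1) F) p x := rfl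

lemma eq_of_sub_mem (n : ℕ) {x x' : Coh.HH X F p} (h : x - x' ∈ I ^ (n + 1) • (⊤ : Submodule A (Coh.HH X F p))) :
    Formal.toHHmodPow I F p n x = Formal.toHHmodPow I F p n x' := by
  rw [toHHmodPow_eq, toHHmodPow_eq, ← sub_eq_zero, ← map_sub]
  exact hmap_modPowπ_eq_zero I (n + 1) F h

/-- The map `H^p(X, F)^ → lim H^p(X, F/I^n F)`. -/
noncomputable def completionToLim : AdicCompletion I (Coh.HH X F p) →+ Formal.HHlim I F p where
  toFun x := ⟨fun n => Formal.toHHmodPow I F p n (Submodule.Quotient.mk_surjective _ (x.val (n + 1))).choose,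
    fun n => by
      dsimp only
      rw [HHmodPowTrans_eq, toHHmodPow_eq, hmap_comp, modPowπ_qTr, ← toHHmodPow_eq]
      refine eq_of_sub_mem I F p n ((Submodule.Quotient.eq _).1 ?_)
      rw [(Submodule.Quotient.mk_surjective _ (x.val (n + 1))).choose_spec]
      exact (congrArg (AdicCompletion.transitionMap I _ (Nat.le_succ (n + 1)))
        (Submodule.Quotient.mk_surjective _ (x.val (n + 1 + 1))).choose_spec).trans (x.2 _)⟩
  map_zero' := by
    refine Subtype.ext (funext fun n => ?_)
    refine (eq_of_sub_mem I F p n (x' := 0) ((Submodule.Quotient.eq _).1 ?_)).trans (map_zero _)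
    rw [(Submodule.Quotient.mk_surjective _ ((0 : AdicCompletion I (Coh.HH X F p)).val (n + 1))).choose_spec,
      Submodule.Quotient.mk_zero]
    rfl
  map_add' x y := by
    refine Subtype.ext (funext fun n => ?_)
    change Formal.toHHmodPow I F p n _ = Formal.toHHmodPow I F p n _ + Formal.toHHmodPow I F p n _
    rw [← map_add]
    refine eq_of_sub_mem I F p n ((Submodule.Quotient.eq _).1 ?_)
    rw [(Submodule.Quotient.mk_surjective _ ((x + y).val (n + 1))).choose_spec, Submodule.Quotient.mk_add,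
      (Submodule.Quotient.mk_surjective _ (x.val (n + 1))).choose_spec,
      (Submodule.Quotient.mk_surjective _ (y.val (n + 1))).choose_spec]
    rfl

lemma completionToLim_eval (x : AdicCompletion I (Coh.HH X F p)) (n : ℕ) (h : Coh.HH X F p)
    (hx : AdicCompletion.eval I (Coh.HH X F p) (n + 1) x = Submodule.Quotient.mk h) :
    (completionToLim I F p x : ∀ n, Formal.HHmodPow I F p n) n = Formal.toHHmodPow I F p n h := by
  refine eq_of_sub_mem I F p n ((Submodule.Quotient.eq _).1 ?_)
  rw [(Submodule.Quotient.mk_surjective _ (x.val (n + 1))).choose_spec, ← hx]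
  rfl

lemma completionToLim_of (x : Coh.HH X F p) :
    completionToLim I F p (AdicCompletion.of I _ x) = Formal.toHHlim I F p x :=
  Subtype.ext (funext fun n => completionToLim_eval I F p _ n x rfl)

variable {I F p}

theorem ProBij.completionToLim_bijective (h : ProBij I F p) :
    Function.Bijective (completionToLim I F p) := by
  refine ⟨(injective_iff_map_eq_zero _).2 fun x hx => AdicCompletion.ext fun n => ?_, fun y => ?_⟩
  · obtain ⟨m, hm, hker⟩ := h.ker n
    obtain ⟨z, hz⟩ := Submodule.Quotient.mk_surjective _ (x.val (m + 1))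
    have h0 : hmap A (Formal.modPowπ I (m + 1) F) p z = 0 :=
      (completionToLim_eval I F p x m z hz.symm).symm.trans
        (congrArg (fun w : Formal.HHlim I F p => (w : ∀ n, Formal.HHmodPow I F p n) m) hx)
    have h1 : z ∈ I ^ n • (⊤ : Submodule A (Coh.HH X F p)) := hker z (by
      rw [← modPowπ_qTr F (Ideal.pow_le_pow_right (Nat.le_succ m) : I ^ (m + 1) ≤ I ^ m), ← hmap_comp, h0,
        map_zero])
    rw [← x.2 (show n ≤ m + 1 by omega), ← hz]
    exact (Submodule.Quotient.mk_eq_zero _).2 h1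
  · choose k hk hker using h.ker
    let K : ℕ → ℕ := fun i => Nat.rec (motive := fun _ => ℕ) (k 0) (fun i r => max r (k (i + 1))) i
    have hK : ∀ i, k i ≤ K i := fun i => by
      cases i with
      | zero => exact le_rfl
      | succ i => exact le_max_right _ _
    have hKm : ∀ i, K i ≤ K (i + 1) := fun i => le_max_left _ _
    choose m hm hcok using h.coker
    choose z hz using fun i => hcok (K i) (hmap A (qTr F (Ideal.pow_le_pow_right (Nat.le_succ (m (K i))) :
      I ^ (m (K i) + 1) ≤ I ^ m (K i))) p ((y : ∀ n, Formal.HHmodPow I F p n) (m (K i))))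
    have hz' : ∀ i j (hij : j ≤ K i), hmap A (Formal.modPowπ I j F) p (z i) =
        hmap A (qTr F (Ideal.pow_le_pow_right (hij.trans ((hm (K i)).trans (Nat.le_succ _))) :
          I ^ (m (K i) + 1) ≤ I ^ j)) p ((y : ∀ n, Formal.HHmodPow I F p n) (m (K i))) := fun i j hij => by
      rw [← modPowπ_qTr F (Ideal.pow_le_pow_right hij : I ^ K i ≤ I ^ j), ← hmap_comp, hz, hmap_comp, hmap_comp,
        qTr_comp, qTr_comp]
    have key : ∀ i, z i ≡ z (i + 1) [SMOD (I ^ i • ⊤ : Submodule A (Coh.HH X F p))] := fun i => by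
      rw [SModEq.sub_mem]
      refine hker i _ ?_
      rw [map_sub, sub_eq_zero, hz' i (k i) (hK i), hz' (i + 1) (k i) ((hK i).trans (hKm i))]
      set M := max (m (K i)) (m (K (i + 1)))
      rw [← hmap_qTr_of_mem_HHlim I F p y (le_max_left (m (K i)) (m (K (i + 1)))),
        ← hmap_qTr_of_mem_HHlim I F p y (le_max_right (m (K i)) (m (K (i + 1)))), hmap_comp, hmap_comp,
        qTr_comp, qTr_comp]
    refine ⟨AdicCompletion.mk I _ (AdicCompletion.AdicCauchySequence.mk I _ z key),
      Subtype.ext (funext fun n => ?_)⟩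
    rw [completionToLim_eval I F p _ n (z (n + 1)) rfl, toHHmodPow_eq, hz' (n + 1) (n + 1) ((hk _).trans (hK _))]
    exact hmap_qTr_of_mem_HHlim I F p y (i := n) (j := m (K (n + 1))) (by
      have := hk (n + 1); have := hK (n + 1); have := hm (K (n + 1)); omega)

theorem ProBij.toHHlim_bijective [IsNoetherianRing A] [IsAdicComplete I A] (hfin : Module.Finite A (Coh.HH X F p))
    (h : ProBij I F p) : Function.Bijective (Formal.toHHlim I F p) := by
  have : IsAdicComplete I (Coh.HH X F p) := Groth.AdicLinTop.Adic.isAdicComplete_of_finite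
  have e : ⇑(Formal.toHHlim I F p) = completionToLim I F p ∘ AdicCompletion.of I _ :=
    funext fun x => (completionToLim_of I F p x).symm
  rw [e]
  exact h.completionToLim_bijective.comp (AdicCompletion.of_bijective_iff.2 this)

theorem ProBij.subsingleton_limOne (h : ProBij I F p) :
    Subsingleton (Formal2.limOne (fun n => Formal.HHmodPow I F p n) (fun n => Formal.HHmodPowTrans I F p n)) := by
  rw [QuotientAddGroup.subsingleton_iff, AddMonoidHom.range_eq_top]
  have hc : ∀ i j (hij : i ≤ j) (z : Formal.HHmodPow I F p j),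
      Tower.c (fun n => Formal.HHmodPow I F p n) (fun n => Formal.HHmodPowTrans I F p n) i j hij z =
        hmap A (qTr F (Ideal.pow_le_pow_right (Nat.succ_le_succ hij) : I ^ (j + 1) ≤ I ^ (i + 1))) p z := by
    intro i j hij
    induction j, hij using Nat.le_induction with
    | base =>
      intro z
      rw [Tower.c_self, show qTr F (le_refl (I ^ (i + 1))) = 𝟙 _ from (isQuot_modPowπ I (i + 1) F).hom_ext
        ((modPowπ_qTr F _).trans (Category.comp_id _).symm), hmap_id]
    | succ k hk ih =>
      intro z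
      rw [← Tower.c_comp _ _ i k (k + 1) hk (Nat.le_succ k), Tower.c_succ, ih, HHmodPowTrans_eq, hmap_comp, qTr_comp]
  refine Tower.towerDiff_surjective_of_subgroups _ _
    (fun n => (Formal.toHHmodPow I F p n).range) (fun n s hs => ?_) (fun n s hs => ?_) fun i => ?_
  · obtain ⟨x, rfl⟩ := hs
    exact ⟨_, ⟨x, rfl⟩, ((Formal.toHHlim I F p x).2 n)⟩
  · obtain ⟨x, rfl⟩ := hs
    exact ⟨x, ((Formal.toHHlim I F p x).2 n).symm⟩
  · obtain ⟨m, hm, hcok⟩ := h.coker (i + 1)
    refine ⟨m, by omega, fun z => ?_⟩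
    obtain ⟨x, hx⟩ := hcok (hmap A (qTr F (Ideal.pow_le_pow_right (Nat.le_succ m) : I ^ (m + 1) ≤ I ^ m)) p z)
    refine ⟨x, ?_⟩
    rw [toHHmodPow_eq, hx, hc, hmap_comp, qTr_comp]

end Groth.CohC3
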