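import Groth.Agent.CohC3.ExtendZero
import Groth.Agent.Variety2.ProjBasics
import Groth.Agent.S0789

/-! The existence theorem for formal modules with support proper over the base. -/

universe u

open CategoryTheory CategoryTheory.Limits AlgebraicGeometry Opposite TopologicalSpace

namespace Groth.CohC3

variable (A : Type u) [CommRing A] (I : Ideal A)

/-- Existence for formal modules with proper support. -/
def AlgebraizesSupp (X : Scheme.{u}) [X.Over (Spec (CommRingCat.of A))] : Prop :=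
  ∀ G : ℕᵒᵖ ⥤ X.Modules, Formal.IsCohFormal I G → PSupp (X ↘ Spec (CommRingCat.of A)) (G.obj (op 0)) →
    ∃ M : X.Modules, Coh.IsCoh M ∧ PSupp (X ↘ Spec (CommRingCat.of A)) M ∧
      Nonempty (Formal.completion I M ≅ G)

variable {A} {I}

/-- Formal modules with proper support killed by the ideal of a closed subscheme come from it. -/
theorem exists_algebraizationSupp_of_closed {W Z : Scheme.{u}} [W.Over (Spec (CommRingCat.of A))]
    [Z.Over (Spec (CommRingCat.of A))] [IsLocallyNoetherian Z]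
    [LocallyOfFiniteType (Z ↘ Spec (CommRingCat.of A))] (j : W ⟶ Z) [IsClosedImmersion j]
    (hj : j ≫ (Z ↘ Spec (CommRingCat.of A)) = W ↘ Spec (CommRingCat.of A)) (hW : AlgebraizesSupp A I W)
    {G : ℕᵒᵖ ⥤ Z.Modules} (hG : Formal.IsCohFormal I G)
    (hG₀ : PSupp (Z ↘ Spec (CommRingCat.of A)) (G.obj (op 0)))
    (hk : ∀ n, ClSub.KilledByIdeal j.ker (G.obj (op n))) :
    ∃ M : Z.Modules, Coh.IsCoh M ∧ PSupp (Z ↘ Spec (CommRingCat.of A)) M ∧ ClSub.KilledByIdeal j.ker M ∧
      Nonempty (Formal.completion I M ≅ G) := by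
  haveI : LocallyOfFiniteType (W ↘ Spec (CommRingCat.of A)) := by rw [← hj]; infer_instance
  have hG0' : PSupp (W ↘ Spec (CommRingCat.of A)) ((G ⋙ Scheme.Modules.pullback j).obj (op 0)) := by
    obtain ⟨T, hT, hle⟩ := hG₀
    have := (hG.1 0).1
    exact ⟨j ⁻¹' T, Groth.Agent.S0790.result _ _ j hj T hT,
      (QCohMod.support_pullback j (G.obj (op 0)) (hG.1 0).2).le.trans (Set.preimage_mono hle)⟩
  obtain ⟨N, hN, hNs, ⟨e⟩⟩ := hW _ (isCohFormal_pullback j hj hG) hG0'
  have := hN.1
  obtain ⟨c⟩ := nonempty_completion_pushforward (J := I) j hj (M := N)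
  let η := Functor.whiskerLeft G (Scheme.Modules.pullbackPushforwardAdjunction j).unit
  have : ∀ n, IsIso (η.app n) := fun ⟨n⟩ => by
    have := (hG.1 n).1
    exact (QCohMod.isIso_unit_closedImmersion_iff j (G.obj (op n))).2 (hk n)
  have : IsIso η := NatIso.isIso_of_isIso_app η
  refine ⟨_, isCoh_pushforward hj hN, ?_, QCohMod.killed_pushforward j N,
    ⟨c ≪≫ Functor.isoWhiskerRight e (Scheme.Modules.pushforward j) ≪≫ (asIso η).symm⟩⟩
  obtain ⟨T, hT, hle⟩ := hNs
  exact ⟨j '' T, Groth.Agent.S0789.result _ _ j hj T hT,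
    support_pushforward_subset j N hle (j.isClosedMap _ hT.1)⟩

variable [IsNoetherianRing A] [IsAdicComplete I A]

/-- Full faithfulness with the target supported properly. -/
theorem existsUnique_hom_supp (X : Scheme.{u}) [X.Over (Spec (CommRingCat.of A))]
    [LocallyOfFiniteType (X ↘ Spec (CommRingCat.of A))] [QuasiCompact (X ↘ Spec (CommRingCat.of A))]
    {M N : X.Modules} (hM : Coh.IsCoh M) (hN : Coh.IsCoh N) (hs : PSupp (X ↘ Spec (CommRingCat.of A)) N)
    (ψ : Formal.completion I M ⟶ Formal.completion I N) :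
    ∃! φ : M ⟶ N, ∀ n : ℕ, Formal.modPowπ I (n + 1) M ≫ ψ.app (op n) = φ ≫ Formal.modPowπ I (n + 1) N :=
  haveI := isNoetherian_of_finiteType A X
  existsUnique_hom I hM hN (fun q => hFin_of_properSupport CohFin.projFinite _ (hs.isProperOver hN)
    (RefRank.isCoh_homSh hM hN)
    ((support_homSh_subset (isClosed_support_of_isCoh M hM) (isClosed_support_of_isCoh N hN)).trans
      Set.inter_subset_right) q) ψ

/-- The inductive step. -/
theorem algebraizesSupp_step (Z : Scheme.{u}) [Z.Over (Spec (CommRingCat.of A))]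
    [IsSeparated (Z ↘ Spec (CommRingCat.of A))] [LocallyOfFiniteType (Z ↘ Spec (CommRingCat.of A))]
    [QuasiCompact (Z ↘ Spec (CommRingCat.of A))]
    (ih : ∀ (W : Scheme.{u}) [W.Over (Spec (CommRingCat.of A))] (j : W ⟶ Z) [IsClosedImmersion j],
      j ≫ (Z ↘ Spec (CommRingCat.of A)) = W ↘ Spec (CommRingCat.of A) → Set.range j ≠ Set.univ →
        AlgebraizesSupp A I W) :
    AlgebraizesSupp A I Z := by
  intro G hG hG₀
  have := isNoetherian_of_finiteType A Z
  by_cases hne : Nonempty Z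
  swap
  · rw [not_nonempty_iff] at hne
    have hz : ∀ M : Z.Modules, M.IsQuasicoherent → Coh.IsCoh M → IsZero M := fun M _ _ =>
      (QCohMod.isZero_iff_support_eq_empty M).2 (Set.eq_empty_of_isEmpty _)
    have h0 := (hG.1 0)
    exact ⟨_, h0, hG₀, ⟨NatIso.ofComponents (fun n => (hz _ (isCoh_modPow' h0 I (n.unop + 1)).1
      (isCoh_modPow' h0 I (n.unop + 1))).iso (hz _ (hG.1 n.unop).1 (hG.1 n.unop)))
      fun {i j} f => (hz _ (hG.1 j.unop).1 (hG.1 j.unop)).eq_of_tgt _ _⟩⟩
  obtain ⟨N, X', π, jX, hjX, hjb, hπ, -, ⟨U, hU, -, hiso⟩, -, -⟩ :=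
    Groth.Chow.exists_chow (Z ↘ Spec (CommRingCat.of A))
      TopologicalSpace.NoetherianSpace.finite_irreducibleComponents
  letI : X'.Over (Spec (CommRingCat.of A)) := ⟨π ≫ (Z ↘ Spec (CommRingCat.of A))⟩
  haveI : LocallyOfFiniteType (X' ↘ Spec (CommRingCat.of A)) :=
    inferInstanceAs (LocallyOfFiniteType (π ≫ (Z ↘ Spec (CommRingCat.of A))))
  haveI : QuasiCompact (X' ↘ Spec (CommRingCat.of A)) :=
    inferInstanceAs (QuasiCompact (π ≫ (Z ↘ Spec (CommRingCat.of A))))
  haveI : IsProper (CohB1.ProjSpaceOver.toBase N (Spec (CommRingCat.of A))) :=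
    Groth.Variety2.isProper_projSpaceOver_toBase _ _
  haveI : QuasiCompact jX := by
    haveI : QuasiCompact (jX ≫ CohB1.ProjSpaceOver.toBase N (Spec (CommRingCat.of A))) := by
      rw [hjb]; infer_instance
    exact QuasiCompact.of_comp jX (CohB1.ProjSpaceOver.toBase N (Spec (CommRingCat.of A)))
  letI : jX.image.Over (Spec (CommRingCat.of A)) :=
    ⟨jX.imageι ≫ CohB1.ProjSpaceOver.toBase N (Spec (CommRingCat.of A))⟩
  haveI : IsProper (jX.image ↘ Spec (CommRingCat.of A)) :=
    inferInstanceAs (IsProper (jX.imageι ≫ CohB1.ProjSpaceOver.toBase N (Spec (CommRingCat.of A))))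
  have hk : jX.toImage ≫ (jX.image ↘ Spec (CommRingCat.of A)) = X' ↘ Spec (CommRingCat.of A) := by
    change jX.toImage ≫ jX.imageι ≫ _ = π ≫ _
    rw [Scheme.Hom.toImage_imageι_assoc, hjb]
  have hL : CohB1.IsAmple
      ((Scheme.Modules.pullback jX.imageι).obj (Twist.twistOver N (Spec (CommRingCat.of A)) 1)) :=
    Groth.Chow.isAmple_of_immersion (jX.image ↘ Spec (CommRingCat.of A)) _ N jX.imageι (Iso.refl _)
  have hG0' : PSupp (X' ↘ Spec (CommRingCat.of A)) ((G ⋙ Scheme.Modules.pullback π).obj (op 0)) := by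
    obtain ⟨T, hT, hle⟩ := hG₀
    have := (hG.1 0).1
    exact ⟨π ⁻¹' T, Groth.Agent.S0790.result _ _ π rfl T hT,
      (QCohMod.support_pullback π (G.obj (op 0)) (hG.1 0).2).le.trans (Set.preimage_mono hle)⟩
  obtain ⟨F, hF, hFs, ⟨β⟩⟩ := exists_algebraization_of_open jX.toImage hk
    (fun H hH => exists_algebraization_of_isAmple hL H hH) (isCohFormal_pullback π rfl hG) hG0'
  obtain ⟨α, cmp, hcmp, hαc⟩ := exists_pushMap (J := I) (f := π) rfl hG hF β.symm
  have hHs : PSupp (Z ↘ Spec (CommRingCat.of A)) ((Scheme.Modules.pushforward π).obj F) := by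
    obtain ⟨T, hT, hle⟩ := hFs
    exact ⟨π '' T, Groth.Agent.S0789.result _ _ π rfl T hT,
      support_pushforward_subset π F hle (π.isClosedMap _ hT.1)⟩
  let K : Z.IdealSheafData := Scheme.IdealSheafData.vanishingIdeal U.compl
  have hKc : (K.support : Set Z) = (U : Set Z)ᶜ := by
    simp [K]
  have hKU : K.support.compl = U := Opens.ext (by rw [Closeds.coe_compl, hKc, compl_compl])
  have hK : Formal2.KerCokerKilledByPow K α :=
    (PPData.mk G hG F hF β.symm α cmp hcmp hαc : PPData I π).kerCokerKilledByPow rfl K (hKU.symm ▸ hiso)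
  refine exists_algebraization_of_kerCoker_on (suppClass_pSupp (Z ↘ Spec (CommRingCat.of A)))
    (fun e => ⟨fun M N' hM hN hNs _ _ ψ => existsUnique_hom_supp Z hM hN hNs ψ,
    fun G' hG' hG'₀ hk => ?_⟩) hG hG₀ (isCoh_pushforward (A := A) (f := π) rfl hF) hHs α hK
  set j := (K ^ e).subschemeι
  letI : (K ^ e).subscheme.Over (Spec (CommRingCat.of A)) := ⟨j ≫ (Z ↘ Spec (CommRingCat.of A))⟩
  have hrange : Set.range j ≠ Set.univ := by
    rw [Scheme.IdealSheafData.range_subschemeι]
    obtain ⟨x, hxU⟩ := hU.nonempty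
    intro h
    have hx : x ∈ ((K ^ e).support : Set Z) := h ▸ Set.mem_univ x
    rcases Nat.eq_zero_or_pos e with rfl | he
    · rw [pow_zero, Scheme.IdealSheafData.one_eq_top, Scheme.IdealSheafData.support_top] at hx
      exact hx
    · rw [Scheme.IdealSheafData.support_pow _ e (by omega), hKc] at hx
      exact hx hxU
  have hker : j.ker = K ^ e := Scheme.IdealSheafData.ker_subschemeι _
  rw [← hker] at hk ⊢
  exact exists_algebraizationSupp_of_closed j rfl (ih _ j rfl hrange) hG' hG'₀ hk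

/-- **Grothendieck's existence theorem** with proper supports. -/
theorem algebraizesSupp_finiteType (X : Scheme.{u}) [X.Over (Spec (CommRingCat.of A))]
    [IsSeparated (X ↘ Spec (CommRingCat.of A))] [LocallyOfFiniteType (X ↘ Spec (CommRingCat.of A))]
    [QuasiCompact (X ↘ Spec (CommRingCat.of A))] : AlgebraizesSupp A I X := by
  haveI := isNoetherian_of_finiteType A X
  suffices h : ∀ (T : Closeds X) (Z : Scheme.{u}) [Z.Over (Spec (CommRingCat.of A))] (i : Z ⟶ X)
      [IsClosedImmersion i], i ≫ (X ↘ Spec (CommRingCat.of A)) = Z ↘ Spec (CommRingCat.of A) →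
      Set.range i ⊆ T → AlgebraizesSupp A I Z from
    h ⊤ X (𝟙 X) (Category.id_comp _) (by simp)
  intro T
  induction T using WellFoundedLT.induction with
  | ind T IH =>
    intro Z _ i _ hi hT
    haveI : IsSeparated (Z ↘ Spec (CommRingCat.of A)) := by rw [← hi]; infer_instance
    haveI : LocallyOfFiniteType (Z ↘ Spec (CommRingCat.of A)) := by rw [← hi]; infer_instance
    haveI : QuasiCompact (Z ↘ Spec (CommRingCat.of A)) := by rw [← hi]; infer_instance
    refine algebraizesSupp_step Z fun W _ j _ hj hne => ?_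
    let T' : Closeds X := ⟨Set.range (j ≫ i), (j ≫ i).isClosedEmbedding.isClosed_range⟩
    refine IH T' ?_ W (j ≫ i) (by rw [Category.assoc, hi, hj]) subset_rfl
    refine lt_of_le_of_ne ?_ ?_
    · rintro _ ⟨w, rfl⟩
      exact hT ⟨j w, rfl⟩
    · intro h
      refine hne (Set.eq_univ_of_forall fun z => ?_)
      have : i z ∈ T := hT ⟨z, rfl⟩
      rw [← h] at this
      obtain ⟨w, hw⟩ := this
      exact ⟨w, i.isClosedEmbedding.injective hw⟩

end Groth.CohC3
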