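import Groth.Agent.CohC3.QuotSections
import Groth.Agent.QCohMod.Stalk
import Groth.Agent.QCohMod.Coherent
import Groth.Agent.CohTwo.Glue

/-! Sections of limits of formal systems of quasi-coherent modules. -/

universe u

open CategoryTheory CategoryTheory.Limits AlgebraicGeometry Opposite TopologicalSpace

namespace Groth.CohC3

variable {A : Type u} [CommRing A] {X : Scheme.{u}} [X.Over (Spec (CommRingCat.of A))]

lemma app_comp_apply {M N P : X.Modules} (φ : M ⟶ N) (ψ : N ⟶ P) (U : X.Opens) (x : Γ(M, U)) :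
    ψ.app U (φ.app U x) = (φ ≫ ψ).app U x := rfl

omit [X.Over (Spec (CommRingCat.of A))] in
lemma sysMap_app_comp (G : ℕᵒᵖ ⥤ X.Modules) {i j k : ℕ} (h : i ≤ j) (h' : j ≤ k) (U : X.Opens)
    (x : Γ(G.obj (op k), U)) :
    (sysMap G h).app U ((sysMap G h').app U x) = (sysMap G (h.trans h')).app U x := by
  rw [app_comp_apply, sysMap_comp]

/-- Two sections of a limit with the same components are equal. -/
lemma limit_sec_ext {J : Type} [SmallCategory J] (K : J ⥤ X.Modules) (U : X.Opens)
    {x y : Γ(limit K, U)} (h : ∀ j, (limit.π K j).app U x = (limit.π K j).app U y) : x = y := by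
  have : PreservesLimit K (QCohMod.sec U ⋙ forget AddCommGrpCat.{u}) := by
    have : PreservesLimitsOfSize.{0, 0} (QCohMod.sec U) := preservesLimitsOfSize_shrink _
    infer_instance
  refine (Types.isLimitEquivSections
    (isLimitOfPreserves (QCohMod.sec U ⋙ forget AddCommGrpCat.{u}) (limit.isLimit K))).injective ?_
  exact Subtype.ext (funext h)

/-- Compatible sections define a section of the limit. -/
lemma exists_limit_sec (G : ℕᵒᵖ ⥤ X.Modules) (U : X.Opens) (x : ∀ n, Γ(G.obj (op n), U))
    (h : ∀ n, (sysMap G (Nat.le_succ n)).app U (x (n + 1)) = x n) :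
    ∃ y : Γ(limit G, U), ∀ n, (limit.π G (op n)).app U y = x n := by
  have hx : ∀ {i j : ℕ} (hij : i ≤ j), (sysMap G hij).app U (x j) = x i := by
    intro i j hij
    induction j, hij using Nat.le_induction with
    | base => rw [sysMap_refl]; rfl
    | succ k hk ih => rw [← sysMap_app_comp G hk (Nat.le_succ k), h, ih]
  have : PreservesLimitsOfSize.{0, 0} (QCohMod.sec U) := preservesLimitsOfSize_shrink _
  let F := QCohMod.sec U ⋙ forget AddCommGrpCat.{u}
  have hl := isLimitOfPreserves F (limit.isLimit G)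
  let s : (G ⋙ F).sections := ⟨fun j => x j.unop, fun {j j'} φ => by
    obtain ⟨φ', rfl⟩ : ∃ φ', φ = (homOfLE φ').op := ⟨leOfHom φ.unop, Quiver.Hom.unop_inj (Subsingleton.elim _ _)⟩
    exact hx φ'⟩
  exact ⟨(Types.isLimitEquivSections hl).symm s, fun n =>
    congrFun (congrArg Subtype.val ((Types.isLimitEquivSections hl).apply_symm_apply s)) (op n)⟩

lemma limit_π_sysMap (G : ℕᵒᵖ ⥤ X.Modules) {i j : ℕ} (h : i ≤ j) (U : X.Opens) (x : Γ(limit G, U)) :
    (sysMap G h).app U ((limit.π G (op j)).app U x) = (limit.π G (op i)).app U x := by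
  rw [app_comp_apply, limit.w]

/-- For a system surjective on sections over `U`, the limit surjects to every term. -/
lemma limit_π_app_surjective (G : ℕᵒᵖ ⥤ X.Modules) (U : X.Opens) (n : ℕ)
    (hs : ∀ m, n ≤ m → Function.Surjective ((sysMap G (Nat.le_succ m)).app U)) :
    Function.Surjective ((limit.π G (op n)).app U) := by
  intro z
  choose g hg using hs
  let up : ∀ k, Γ(G.obj (op (n + k)), U) := fun k => Nat.rec (motive := fun k => Γ(G.obj (op (n + k)), U))
    z (fun k zk => g (n + k) (Nat.le_add_right n k) zk) k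
  obtain ⟨y, hy⟩ := exists_limit_sec G U (fun i => (sysMap G (Nat.le_add_left i n)).app U (up i))
    (fun i => by
      change (sysMap G _).app U ((sysMap G _).app U (g (n + i) _ (up i))) = _
      rw [sysMap_app_comp, ← sysMap_app_comp G (Nat.le_add_left i n) (Nat.le_succ (n + i))]
      exact congrArg _ (hg (n + i) _ (up i)))
  refine ⟨y, (hy n).trans ?_⟩
  have key : ∀ k, (sysMap G (Nat.le_add_right n k)).app U (up k) = z := by
    intro k
    induction k with
    | zero => rw [show sysMap G (Nat.le_add_right n 0) = 𝟙 _ from sysMap_refl G n]; rfl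
    | succ k ih =>
      rw [← sysMap_app_comp G (Nat.le_add_right n k) (Nat.le_succ (n + k))]
      exact (congrArg _ (hg (n + k) _ (up k))).trans ih
  exact key n

/-- A criterion for `p` to be a quotient `M ⟶ M / J M`, on sections over affine opens. -/
theorem isQuot_of_affine {J : Ideal A} {M G : X.Modules} (p : M ⟶ G) (hann : J ≤ annHom p)
    (hsurj : ∀ U : X.Opens, IsAffineOpen U → Function.Surjective (p.app U))
    (hker : ∀ U : X.Opens, IsAffineOpen U → ∀ x : Γ(M, U), p.app U x = 0 →
      x ∈ (J.map (baseApp X U)) • (⊤ : Submodule Γ(X, U) Γ(M, U))) : IsQuot J p where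
  le_ann := hann
  epi := QCohMod.epi_of_affine_surjective p hsurj
  desc {N} φ hφ := by
    have := QCohMod.epi_of_affine_surjective p hsurj
    have h0 : kernel.ι p ≫ φ = 0 := by
      refine CohTwo.hom_ext_app fun W s => CohTwo.eq_of_local N _ _ fun x hx => ?_
      obtain ⟨_, ⟨V, hV, rfl⟩, hxV, hVW⟩ := X.isBasis_affineOpens.exists_subset_of_mem_open hx W.2
      refine ⟨V, hVW, hxV, ?_⟩
      rw [← CohTwo.app_res, ← CohTwo.app_res, ← app_comp_apply]
      set t := (kernel.ι p).app V (CohTwo.res (kernel p) hVW s)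
      have ht : p.app V t = 0 := by
        simp only [t]; rw [app_comp_apply, kernel.condition]; rfl
      change φ.app V t = 0
      refine Submodule.smul_induction_on (hker V hV t ht) (fun r hr m _ => ?_)
        (fun a b ha hb => by rw [map_add, ha, hb, add_zero])
      rw [φ.app_smul]
      induction hr using Submodule.span_induction with
      | mem z hz =>
        obtain ⟨a, ha, rfl⟩ := hz
        rw [← φ.app_smul]
        exact congr(($((mem_annHom φ a).1 (hφ ha))).app V m)
      | zero => rw [zero_smul]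
      | add a b _ _ ha hb => rw [add_smul, ha, hb, add_zero]
      | smul c a _ ha => rw [smul_eq_mul, mul_smul, ha, smul_zero]
    exact ⟨Abelian.epiDesc p φ h0, Abelian.comp_epiDesc p φ h0⟩

variable {I : Ideal A} {G : ℕᵒᵖ ⥤ X.Modules}

lemma IsSys.app_surjective (h : IsSys I G) (hq : ∀ n, (G.obj (op n)).IsQuasicoherent) {U : X.Opens}
    (hU : IsAffineOpen U) {i j : ℕ} (hij : i ≤ j) : Function.Surjective ((sysMap G hij).app U) :=
  have := hq j
  (h.isQuot hij).app_surjective hU

lemma IsSys.smul_eq_zero (h : IsSys I G) (n : ℕ) (U : X.Opens) {r : Γ(X, U)}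
    (hr : r ∈ (I ^ (n + 1)).map (baseApp X U)) (x : Γ(G.obj (op n), U)) : r • x = 0 := by
  induction hr using Submodule.span_induction with
  | mem z hz =>
    obtain ⟨a, ha, rfl⟩ := hz
    exact congr(($(h.killed n a ha)).app U x)
  | zero => rw [zero_smul]
  | add a b _ _ ha hb => rw [add_smul, ha, hb, add_zero]
  | smul c a _ ha => rw [smul_eq_mul, mul_smul, ha, smul_zero]

/-- The kernel of `lim G ⟶ G_n` on an affine open is `I^(n+1) lim G` for finitely generated `I`. -/
theorem IsSys.mem_of_π_eq_zero' (h : IsSys I G) {U : X.Opens} {n : ℕ}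
    (hI : ((I ^ (n + 1)).map (baseApp X U)).FG) (hq : ∀ n, (G.obj (op n)).IsQuasicoherent)
    (hU : IsAffineOpen U) (x : Γ(limit G, U))
    (hx : (limit.π G (op n)).app U x = 0) :
    x ∈ ((I ^ (n + 1)).map (baseApp X U)) • (⊤ : Submodule Γ(X, U) Γ(limit G, U)) := by
  classical
  obtain ⟨s, hs⟩ := hI
  set K := (I ^ (n + 1)).map (baseApp X U) with hKdef
  have hker : ∀ i j (hij : i ≤ j) (z : Γ(G.obj (op j), U)), (sysMap G hij).app U z = 0 →
      z ∈ ((I ^ (i + 1)).map (baseApp X U)) • (⊤ : Submodule Γ(X, U) Γ(G.obj (op j), U)) := fun i j hij z hz =>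
    have := hq j
    ((h.isQuot hij).app_eq_zero_iff z hU).1 hz
  let comb : ∀ j, (s → Γ(G.obj (op j), U)) → Γ(G.obj (op j), U) := fun j y => ∑ a : s, (a : Γ(X, U)) • y a
  have hcomb_mem : ∀ j (P : Submodule Γ(X, U) Γ(G.obj (op j), U)) z, z ∈ K • P →
      ∃ y : s → Γ(G.obj (op j), U), (∀ a, y a ∈ P) ∧ comb j y = z := by
    intro j P z hz
    refine Submodule.smul_induction_on hz (fun r hr m hm => ?_) ?_
    · rw [← hs] at hr
      obtain ⟨c, -, hc⟩ := Submodule.mem_span_finset.1 hr
      refine ⟨fun a => c a • m, fun a => P.smul_mem _ hm, ?_⟩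
      rw [← hc, Finset.sum_smul, ← Finset.sum_coe_sort]
      exact Finset.sum_congr rfl fun a _ => by rw [smul_eq_mul, mul_comm, mul_smul]
    · rintro z w ⟨y, hy, rfl⟩ ⟨y', hy', rfl⟩
      exact ⟨y + y', fun a => P.add_mem (hy a) (hy' a), by simp [comb, smul_add, Finset.sum_add_distrib]⟩
  have happ : ∀ {i j} (hij : i ≤ j) (y : s → Γ(G.obj (op j), U)),
      (sysMap G hij).app U (comb j y) = comb i (fun a => (sysMap G hij).app U (y a)) := fun hij y => by
    simp only [comb, map_sum, Scheme.Modules.Hom.app_smul]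
  have step : ∀ k (y : s → Γ(G.obj (op (n + k)), U)), comb (n + k) y = (limit.π G (op (n + k))).app U x →
      ∃ y' : s → Γ(G.obj (op (n + (k + 1))), U), comb (n + (k + 1)) y' = (limit.π G (op (n + (k + 1)))).app U x ∧
        ∀ (i : ℕ) (hi : i + 1 ≤ k) a,
          (sysMap G (show i ≤ n + (k + 1) by omega)).app U (y' a) = (sysMap G (show i ≤ n + k by omega)).app U (y a) := by
    intro k y hy
    choose l hl using fun a => h.app_surjective hq hU (Nat.le_succ (n + k)) (y a)
    have hd := hker (n + k) (n + (k + 1)) (Nat.le_succ (n + k))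
      ((limit.π G (op (n + (k + 1)))).app U x - comb (n + (k + 1)) l) (by
      rw [map_sub, limit_π_sysMap, happ]
      simp only [hl]
      rw [hy, sub_self])
    have hsplit : (I ^ (n + k + 1)).map (baseApp X U) = K * (I ^ k).map (baseApp X U) := by
      rw [hKdef, ← Ideal.map_mul, ← pow_add]
      congr 2; omega
    rw [hsplit, Submodule.mul_smul] at hd
    obtain ⟨d, hdP, hdz⟩ := hcomb_mem _ _ _ hd
    refine ⟨fun a => l a + d a, ?_, fun i hi a => ?_⟩
    · have : comb (n + (k + 1)) (fun a => l a + d a) = comb (n + (k + 1)) l + comb (n + (k + 1)) d := by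
        simp [comb, smul_add, Finset.sum_add_distrib]
      rw [this, hdz, add_sub_cancel]
    · rw [map_add, ← hl a, sysMap_app_comp]
      refine add_eq_left.2 ?_
      refine Submodule.smul_induction_on (hdP a) (fun r hr m _ => ?_) (fun u v hu hv => by rw [map_add, hu, hv, add_zero])
      rw [Scheme.Modules.Hom.app_smul]
      exact h.smul_eq_zero i U (Ideal.map_mono (Ideal.pow_le_pow_right hi) hr) _
  have base : comb n 0 = (limit.π G (op n)).app U x := by simp [comb, hx]
  choose y' hy' hcompat using step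
  let Y : ∀ k, {y : s → Γ(G.obj (op (n + k)), U) // comb (n + k) y = (limit.π G (op (n + k))).app U x} :=
    fun k => Nat.rec (motive := fun k => {y : s → Γ(G.obj (op (n + k)), U) // comb (n + k) y = (limit.π G (op (n + k))).app U x})
      ⟨0, base⟩ (fun k yk => ⟨y' k yk.1 yk.2, hy' k yk.1 yk.2⟩) k
  choose z hz using fun a : s => exists_limit_sec G U
    (fun i => (sysMap G (show i ≤ n + (i + 1) by omega)).app U ((Y (i + 1)).1 a))
    (fun i => by
      rw [sysMap_app_comp]
      exact hcompat (i + 1) (Y (i + 1)).1 (Y (i + 1)).2 i le_rfl a)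
  have hxz : x = ∑ a : s, (a : Γ(X, U)) • z a := by
    refine limit_sec_ext G U fun ⟨i⟩ => ?_
    rw [map_sum]
    simp only [Scheme.Modules.Hom.app_smul, hz]
    exact (limit_π_sysMap G (show i ≤ n + (i + 1) by omega) U x).symm.trans
      ((congrArg _ (Y (i + 1)).2.symm).trans (happ _ _))
  rw [hxz]
  refine Submodule.sum_mem _ fun a _ => Submodule.smul_mem_smul ?_ trivial
  rw [← hs]
  exact Submodule.subset_span a.2

/-- The finitely generated case of `IsSys.mem_of_π_eq_zero'`. -/
theorem IsSys.mem_of_π_eq_zero (h : IsSys I G) (hI : I.FG) (hq : ∀ n, (G.obj (op n)).IsQuasicoherent)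
    {U : X.Opens} (hU : IsAffineOpen U) (n : ℕ) (x : Γ(limit G, U))
    (hx : (limit.π G (op n)).app U x = 0) :
    x ∈ ((I ^ (n + 1)).map (baseApp X U)) • (⊤ : Submodule Γ(X, U) Γ(limit G, U)) :=
  h.mem_of_π_eq_zero' ((hI.pow (n := n + 1)).map (baseApp X U)) hq hU x hx

/-- `lim G / I^(n+1) lim G = G_n`. -/
theorem IsSys.isQuot_limit_π (h : IsSys I G) (hI : I.FG) (hq : ∀ n, (G.obj (op n)).IsQuasicoherent)
    (n : ℕ) : IsQuot (I ^ (n + 1)) (limit.π G (op n)) :=
  isQuot_of_affine _ (le_annHom_of_killedBy (h.killed n) _)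
    (fun U hU => limit_π_app_surjective G U n fun m _ => h.app_surjective hq hU (Nat.le_succ m))
    (fun U hU x hx => h.mem_of_π_eq_zero hI hq hU n x hx)

/-- The support of a coherent module is closed. -/
theorem isClosed_support_of_isCoh (M : X.Modules) (hM : Coh.IsCoh M) : IsClosed (CohB1.support M) := by
  have := hM.1
  rw [← isOpen_compl_iff, isOpen_iff_forall_mem_open]
  intro x hx
  obtain ⟨U, hU, hxU⟩ := QCohMod.exists_affine_mem x
  have := ((QCohMod.isCoh_iff M).1 hM).2 U hU
  rw [Set.mem_compl_iff, QCohMod.mem_support_iff M hU x hxU, Module.mem_support_iff_of_finite,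
    SetLike.not_le_iff_exists] at hx
  obtain ⟨r, hr, hrp⟩ := hx
  refine ⟨X.basicOpen r, fun y hy => ?_, (X.basicOpen r).2,
    (QCohMod.mem_basicOpen_iff_notMem_primeIdealOf hU r x hxU).2 hrp⟩
  have hyU := X.basicOpen_le r hy
  rw [Set.mem_compl_iff, QCohMod.mem_support_iff M hU y hyU, Module.mem_support_iff_of_finite,
    SetLike.not_le_iff_exists]
  exact ⟨r, hr, (QCohMod.mem_basicOpen_iff_notMem_primeIdealOf hU r y hyU).1 hy⟩

end Groth.CohC3
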