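import Mathlib
import Groth.Prelude.Def_Formal2

/-! Multiplication by elements of the base ring on O_X-modules; quotients by `J`. -/

universe u

open CategoryTheory CategoryTheory.Limits AlgebraicGeometry Opposite TopologicalSpace

namespace Groth.CohC3

variable {A : Type u} [CommRing A] {X : Scheme.{u}} [X.Over (Spec (CommRingCat.of A))]

/-- The ring map `A → Γ(X, U)`. -/
noncomputable def baseApp (X : Scheme.{u}) [X.Over (Spec (CommRingCat.of A))] (U : X.Opens) :
    A →+* Γ(X, U) :=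
  (Coh.resTop X (op U)).comp (Coh.toGlobal (X ↘ Spec (CommRingCat.of A)))

lemma smulMod_app (M : X.Modules) (a : A) (U : X.Opens) (s : Γ(M, U)) :
    (Formal.smulMod A M a).app U s = baseApp X U a • s := rfl

lemma smulMod_naturality {M N : X.Modules} (φ : M ⟶ N) (a : A) :
    φ ≫ Formal.smulMod A N a = Formal.smulMod A M a ≫ φ := by
  refine Scheme.Modules.hom_ext _ _ fun U => ?_
  ext s
  change baseApp X U a • φ.app U s = φ.app U (baseApp X U a • s)
  rw [Scheme.Modules.Hom.app_smul]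

lemma smulMod_one (M : X.Modules) : Formal.smulMod A M 1 = 𝟙 M := by
  refine Scheme.Modules.hom_ext _ _ fun U => ?_
  ext s
  change baseApp (A := A) X U 1 • s = s
  rw [map_one, one_smul]

lemma smulMod_mul (M : X.Modules) (a b : A) :
    Formal.smulMod A M (a * b) = Formal.smulMod A M b ≫ Formal.smulMod A M a := by
  refine Scheme.Modules.hom_ext _ _ fun U => ?_
  ext s
  change baseApp X U (a * b) • s = baseApp X U a • (baseApp X U b • s)
  rw [map_mul, mul_smul]

lemma smulMod_add (M : X.Modules) (a b : A) :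
    Formal.smulMod A M (a + b) = Formal.smulMod A M a + Formal.smulMod A M b := by
  refine Scheme.Modules.hom_ext _ _ fun U => ?_
  ext s
  change baseApp X U (a + b) • s = baseApp X U a • s + baseApp X U b • s
  rw [map_add, add_smul]

lemma smulMod_zero (M : X.Modules) : Formal.smulMod A M (0 : A) = 0 := by
  refine Scheme.Modules.hom_ext _ _ fun U => ?_
  ext s
  change baseApp (A := A) X U 0 • s = 0
  rw [map_zero, zero_smul]

/-- The elements whose multiplication dies after composing with `p`. -/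
noncomputable def annHom {M N : X.Modules} (p : M ⟶ N) : Ideal A where
  carrier := {a | Formal.smulMod A M a ≫ p = 0}
  zero_mem' := by simp [smulMod_zero]
  add_mem' {a b} ha hb := by
    simp only [Set.mem_ofPred_eq] at *
    rw [smulMod_add, Preadditive.add_comp, ha, hb, add_zero]
  smul_mem' r a ha := by
    simp only [Set.mem_ofPred_eq, smul_eq_mul] at *
    rw [mul_comm, smulMod_mul, Category.assoc, ha, comp_zero]

lemma mem_annHom {M N : X.Modules} (p : M ⟶ N) (a : A) :
    a ∈ annHom p ↔ Formal.smulMod A M a ≫ p = 0 := Iff.rfl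

lemma killedBy_iff_le (J : Ideal A) (M : X.Modules) :
    Formal.KilledBy J M ↔ J ≤ annHom (𝟙 M) := by
  simp [Formal.KilledBy, SetLike.le_def, mem_annHom]

lemma le_annHom_of_killedBy {J : Ideal A} {M N : X.Modules} (h : Formal.KilledBy J N) (p : M ⟶ N) :
    J ≤ annHom p := fun a ha => by
  rw [mem_annHom, ← smulMod_naturality, h a ha, comp_zero]

lemma annHom_le_comp {M N P : X.Modules} (p : M ⟶ N) (q : N ⟶ P) :
    (annHom p : Ideal A) ≤ annHom (p ≫ q) := fun a ha => by
  rw [mem_annHom] at ha ⊢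
  rw [← Category.assoc, ha, zero_comp]

lemma annHom_le_precomp {L M N : X.Modules} (k : L ⟶ M) (p : M ⟶ N) :
    (annHom p : Ideal A) ≤ annHom (k ≫ p) := fun a ha => by
  rw [mem_annHom] at ha ⊢
  rw [← Category.assoc, ← smulMod_naturality, Category.assoc, ha, comp_zero]

lemma killedBy_of_epi {J : Ideal A} {M N : X.Modules} (p : M ⟶ N) [Epi p] (h : J ≤ annHom p) :
    Formal.KilledBy J N := fun a ha => by
  rw [← cancel_epi p, smulMod_naturality, h ha, comp_zero]

lemma killedBy_of_mono {J : Ideal A} {M N : X.Modules} (i : M ⟶ N) [Mono i]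
    (h : Formal.KilledBy J N) : Formal.KilledBy J M := fun a ha => by
  rw [← cancel_mono i, ← smulMod_naturality, h a ha, comp_zero, zero_comp]

lemma smulFamily_comp_eq_zero_iff (J : Ideal A) {M N : X.Modules} (p : M ⟶ N) :
    Formal.smulFamily J M ≫ p = 0 ↔ J ≤ annHom p := by
  refine ⟨fun h a ha => ?_, fun h => Sigma.hom_ext _ _ fun a => ?_⟩
  · have := congrArg (Sigma.ι (fun _ : J => M) ⟨a, ha⟩ ≫ ·) h
    simpa [Formal.smulFamily, mem_annHom] using this
  · simpa [Formal.smulFamily] using (mem_annHom p _).1 (h a.2)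

/-- `p : M ⟶ G` exhibits `G` as the quotient `M / J M`. -/
structure IsQuot (J : Ideal A) {M G : X.Modules} (p : M ⟶ G) : Prop where
  le_ann : J ≤ annHom p
  epi : Epi p
  desc : ∀ {N : X.Modules} (φ : M ⟶ N), J ≤ annHom φ → ∃ ψ : G ⟶ N, p ≫ ψ = φ

lemma IsQuot.killedBy {J : Ideal A} {M G : X.Modules} {p : M ⟶ G} (h : IsQuot J p) :
    Formal.KilledBy J G :=
  have := h.epi
  killedBy_of_epi p h.le_ann

lemma isQuot_cokernel (J : Ideal A) (M : X.Modules) :
    IsQuot J (cokernel.π (Formal.smulFamily J M)) where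
  le_ann := (smulFamily_comp_eq_zero_iff J _).1 (cokernel.condition _)
  epi := inferInstance
  desc φ h := ⟨cokernel.desc _ φ ((smulFamily_comp_eq_zero_iff J _).2 h), cokernel.π_desc _ _ _⟩

lemma isQuot_modPowπ (I : Ideal A) (n : ℕ) (M : X.Modules) :
    IsQuot (I ^ n) (Formal.modPowπ I n M) :=
  isQuot_cokernel _ _

instance (I : Ideal A) (n : ℕ) (M : X.Modules) : Epi (Formal.modPowπ I n M) :=
  inferInstanceAs (Epi (cokernel.π _))

lemma IsQuot.comp_iso {J : Ideal A} {M G G' : X.Modules} {p : M ⟶ G} (h : IsQuot J p) (e : G ⟶ G')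
    [IsIso e] : IsQuot J (p ≫ e) where
  le_ann := h.le_ann.trans (annHom_le_comp p e)
  epi := have := h.epi; inferInstance
  desc φ hφ := by
    obtain ⟨ψ, hψ⟩ := h.desc φ hφ
    exact ⟨inv e ≫ ψ, by simp [hψ]⟩

lemma IsQuot.iso_comp {J : Ideal A} {M M' G : X.Modules} {p : M ⟶ G} (h : IsQuot J p) (e : M' ⟶ M)
    [IsIso e] : IsQuot J (e ≫ p) where
  le_ann := h.le_ann.trans (annHom_le_precomp e p)
  epi := have := h.epi; inferInstance
  desc φ hφ := by
    obtain ⟨ψ, hψ⟩ := h.desc (inv e ≫ φ) (hφ.trans (annHom_le_precomp (inv e) φ))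
    exact ⟨ψ, by simp [hψ]⟩

lemma IsQuot.comp {J J' : Ideal A} (hJ : J' ≤ J) {M G G' : X.Modules} {p : M ⟶ G} {q : G ⟶ G'}
    (h : IsQuot J' p) (h' : IsQuot J q) : IsQuot J (p ≫ q) where
  le_ann := h'.le_ann.trans (annHom_le_precomp p q)
  epi := have := h.epi; have := h'.epi; inferInstance
  desc φ hφ := by
    obtain ⟨ψ, rfl⟩ := h.desc φ (hJ.trans hφ)
    have := h.epi
    have hle : J ≤ annHom ψ := fun a ha => by
      have := hφ ha
      rw [mem_annHom, ← Category.assoc, ← smulMod_naturality, Category.assoc] at this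
      rw [mem_annHom, ← cancel_epi p, comp_zero]
      exact this
    obtain ⟨χ, rfl⟩ := h'.desc ψ hle
    exact ⟨χ, Category.assoc _ _ _⟩

lemma IsQuot.isIso_of_killedBy {J : Ideal A} {M G : X.Modules} {p : M ⟶ G} (h : IsQuot J p)
    (hM : Formal.KilledBy J M) : IsIso p := by
  have := h.epi
  obtain ⟨ψ, hψ⟩ := h.desc (𝟙 M) ((killedBy_iff_le J M).1 hM)
  exact ⟨ψ, hψ, by rw [← cancel_epi p, ← Category.assoc, hψ, Category.id_comp, Category.comp_id]⟩

lemma IsQuot.hom_ext {J : Ideal A} {M G N : X.Modules} {p : M ⟶ G} (h : IsQuot J p) {f g : G ⟶ N}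
    (e : p ≫ f = p ≫ g) : f = g :=
  have := h.epi
  (cancel_epi p).1 e

lemma isQuot_id {J : Ideal A} {M : X.Modules} (h : Formal.KilledBy J M) : IsQuot J (𝟙 M) where
  le_ann := (killedBy_iff_le J M).1 h
  epi := inferInstance
  desc φ _ := ⟨φ, Category.id_comp φ⟩

lemma IsQuot.isIso_desc {J : Ideal A} {M G : X.Modules} {p : M ⟶ G} (h : IsQuot J p) :
    ∃ w : Formal.smulFamily J M ≫ p = 0, IsIso (cokernel.desc _ p w) := by
  refine ⟨(smulFamily_comp_eq_zero_iff J p).2 h.le_ann, ?_⟩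
  obtain ⟨ψ, hψ⟩ := h.desc _ (isQuot_cokernel J M).le_ann
  have := h.epi
  exact ⟨ψ, by rw [← cancel_epi (cokernel.π _), cokernel.π_desc_assoc, hψ, Category.comp_id],
    by rw [← cancel_epi p, ← Category.assoc, hψ, cokernel.π_desc, Category.comp_id]⟩

lemma isQuot_of_isIso_desc {J : Ideal A} {M G : X.Modules} (p : M ⟶ G)
    (w : Formal.smulFamily J M ≫ p = 0) [IsIso (cokernel.desc _ p w)] : IsQuot J p := by
  simpa using (isQuot_cokernel J M).comp_iso (cokernel.desc _ p w)

/-- The transition morphism of a system. -/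
abbrev sysMap (G : ℕᵒᵖ ⥤ X.Modules) {i j : ℕ} (h : i ≤ j) : G.obj (op j) ⟶ G.obj (op i) :=
  G.map (homOfLE h).op

lemma sysMap_refl (G : ℕᵒᵖ ⥤ X.Modules) (i : ℕ) : sysMap G (le_refl i) = 𝟙 _ :=
  G.map_id _

lemma sysMap_comp (G : ℕᵒᵖ ⥤ X.Modules) {i j k : ℕ} (h : i ≤ j) (h' : j ≤ k) :
    sysMap G h' ≫ sysMap G h = sysMap G (h.trans h') :=
  (G.map_comp _ _).symm

/-- The axioms shared by `IsCohFormal` and `IsQCohFormal`. -/
structure IsSys (I : Ideal A) (G : ℕᵒᵖ ⥤ X.Modules) : Prop where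
  killed : ∀ n, Formal.KilledBy (I ^ (n + 1)) (G.obj (op n))
  isQuot_succ : ∀ n, IsQuot (I ^ (n + 1)) (sysMap G (Nat.le_succ n))

lemma isSys_of_isCohFormal {I : Ideal A} {G : ℕᵒᵖ ⥤ X.Modules} (h : Formal.IsCohFormal I G) :
    IsSys I G :=
  ⟨h.2.1, fun n => by obtain ⟨w, hw⟩ := h.2.2 n; exact isQuot_of_isIso_desc _ w⟩

lemma isSys_of_isQCohFormal {I : Ideal A} {G : ℕᵒᵖ ⥤ X.Modules} (h : Formal2.IsQCohFormal I G) :
    IsSys I G :=
  ⟨h.2.1, fun n => by obtain ⟨w, hw⟩ := h.2.2 n; exact isQuot_of_isIso_desc _ w⟩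

lemma IsSys.isQuot {I : Ideal A} {G : ℕᵒᵖ ⥤ X.Modules} (h : IsSys I G) {i j : ℕ} (hij : i ≤ j) :
    IsQuot (I ^ (i + 1)) (sysMap G hij) := by
  induction j, hij using Nat.le_induction with
  | base => rw [sysMap_refl]; exact isQuot_id (h.killed i)
  | succ k hk ih =>
    rw [← sysMap_comp G hk (Nat.le_succ k)]
    exact (h.isQuot_succ k).comp (Ideal.pow_le_pow_right (by omega)) ih

/-- The morphism `M/I^(n+1)M ⟶ G` induced by a compatible map. -/
noncomputable def modPowDesc (I : Ideal A) (n : ℕ) {M G : X.Modules} (φ : M ⟶ G)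
    (h : I ^ n ≤ annHom φ) : Formal.modPow I n M ⟶ G :=
  cokernel.desc _ φ ((smulFamily_comp_eq_zero_iff _ _).2 h)

@[reassoc (attr := simp)]
lemma modPowπ_desc (I : Ideal A) (n : ℕ) {M G : X.Modules} (φ : M ⟶ G) (h : I ^ n ≤ annHom φ) :
    Formal.modPowπ I n M ≫ modPowDesc I n φ h = φ :=
  cokernel.π_desc _ _ _

lemma completion_map_succ (I : Ideal A) (M : X.Modules) (n : ℕ) :
    (Formal.completion I M).map (homOfLE (Nat.le_succ n)).op = Formal.modPowTrans I (n + 1) M :=
  Functor.ofOpSequence_map_homOfLE_succ _ n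

/-- Compatible quotient maps from `M` identify a system with the completion of `M`. -/
lemma nonempty_completion_iso (I : Ideal A) (M : X.Modules) (G : ℕᵒᵖ ⥤ X.Modules)
    (p : ∀ n, M ⟶ G.obj (op n)) (hp : ∀ n, IsQuot (I ^ (n + 1)) (p n))
    (hc : ∀ n, p (n + 1) ≫ sysMap G (Nat.le_succ n) = p n) :
    Nonempty (Formal.completion I M ≅ G) := by
  let app : ∀ n, (Formal.completion I M).obj (op n) ⟶ G.obj (op n) := fun n =>
    modPowDesc I (n + 1) (p n) (hp n).le_ann
  let τ : Formal.completion I M ⟶ G := NatTrans.ofOpSequence app (fun n => by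
    refine (isQuot_modPowπ I (n + 1 + 1) M).hom_ext ?_
    rw [completion_map_succ]
    change Formal.modPowπ I (n + 1 + 1) M ≫ Formal.modPowTrans I (n + 1) M ≫
        modPowDesc I (n + 1) (p n) _ =
      Formal.modPowπ I (n + 1 + 1) M ≫ modPowDesc I (n + 1 + 1) (p (n + 1)) _ ≫ sysMap G (Nat.le_succ n)
    rw [← Category.assoc, Formal.modPowπ_trans, modPowπ_desc, modPowπ_desc_assoc, hc])
  have : ∀ n : ℕᵒᵖ, IsIso (τ.app n) := fun ⟨n⟩ => by
    obtain ⟨w, hw⟩ := (hp n).isIso_desc
    exact hw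
  have : IsIso τ := NatIso.isIso_of_isIso_app τ
  exact ⟨asIso τ⟩

/-- A system killed by a fixed power is the completion of one of its terms. -/
lemma IsSys.algebraize_of_killed {I : Ideal A} {G : ℕᵒᵖ ⥤ X.Modules} (h : IsSys I G) (c : ℕ)
    (hc : ∀ n, Formal.KilledBy (I ^ c) (G.obj (op n))) :
    Nonempty (Formal.completion I (G.obj (op c)) ≅ G) := by
  have hiso : ∀ j (hj : c ≤ j), IsIso (sysMap G hj) := fun j hj =>
    (h.isQuot hj).isIso_of_killedBy fun a ha => hc j a (Ideal.pow_le_pow_right (by omega) ha)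
  let p : ∀ n, G.obj (op c) ⟶ G.obj (op n) := fun n =>
    have := hiso (max c n) (le_max_left _ _)
    inv (sysMap G (le_max_left c n)) ≫ sysMap G (le_max_right c n)
  have key : ∀ n j (hc' : c ≤ j) (hn : n ≤ j), sysMap G hc' ≫ p n = sysMap G hn := fun n j hc' hn => by
    have := hiso (max c n) (le_max_left _ _)
    rw [← sysMap_comp G (le_max_left c n) (max_le hc' hn)]
    simp only [p, Category.assoc, IsIso.hom_inv_id_assoc]
    rw [sysMap_comp]
  refine nonempty_completion_iso I _ G p (fun n => ?_) fun n => ?_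
  · have := hiso (max c n) (le_max_left _ _)
    exact (h.isQuot (le_max_right c n)).iso_comp _
  · have := hiso (max c (n + 1)) (le_max_left _ _)
    rw [← cancel_epi (sysMap G (le_max_left c (n + 1))), ← Category.assoc,
      key (n + 1) _ (le_max_left _ _) (le_max_right _ _),
      key n _ (le_max_left _ _) (by omega), sysMap_comp]

end Groth.CohC3
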