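import Groth.Agent.CohBase.Modules
import Groth.Agent.CohC3.Smul

/-! Cohomology as a functor to modules over the base ring, with its long exact sequence. -/

universe u

open CategoryTheory CategoryTheory.Limits AlgebraicGeometry Opposite TopologicalSpace
open CategoryTheory.Abelian (Ext)

namespace Groth.CohC3

variable {A : Type u} [CommRing A] {X : Scheme.{u}} [X.Over (Spec (CommRingCat.of A))]

lemma toAb_map_smulMod (M : X.Modules) (a : A) :
    (CohBase.toAbF X).map (Formal.smulMod A M a) =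
      Coh.smulAb M (Coh.toGlobal (X ↘ Spec (CommRingCat.of A)) a) := rfl

lemma toAb_map_smulAb {M N : X.Modules} (φ : M ⟶ N) (a : A) :
    (CohBase.toAbF X).map φ ≫ Coh.smulAb N (Coh.toGlobal (X ↘ Spec (CommRingCat.of A)) a) =
      Coh.smulAb M (Coh.toGlobal (X ↘ Spec (CommRingCat.of A)) a) ≫ (CohBase.toAbF X).map φ := by
  rw [← toAb_map_smulMod, ← toAb_map_smulMod, ← Functor.map_comp, ← Functor.map_comp, smulMod_naturality]

variable (A) in
/-- The map induced on cohomology, linear over the base ring. -/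
noncomputable def hmap {M N : X.Modules} (φ : M ⟶ N) (p : ℕ) :
    Coh.HH X M p →ₗ[A] Coh.HH X N p where
  toFun := Sheaf.H.map ((CohBase.toAbF X).map φ) p
  map_add' := map_add _
  map_smul' a x := by
    change Sheaf.H.map _ p (Sheaf.H.map (Coh.smulAb M _) p x) =
      Sheaf.H.map (Coh.smulAb N _) p (Sheaf.H.map _ p x)
    rw [← Sheaf.H.map_comp_apply, ← Sheaf.H.map_comp_apply]
    exact congrArg (fun g => Sheaf.H.map g p x) (toAb_map_smulAb φ a).symm

lemma hmap_smulMod (M : X.Modules) (a : A) (p : ℕ) (x : Coh.HH X M p) :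
    hmap A (Formal.smulMod A M a) p x = a • x := rfl

lemma hmap_comp {M N P : X.Modules} (φ : M ⟶ N) (ψ : N ⟶ P) (p : ℕ) (x : Coh.HH X M p) :
    hmap A ψ p (hmap A φ p x) = hmap A (φ ≫ ψ) p x := by
  change Sheaf.H.map _ p (Sheaf.H.map _ p x) = Sheaf.H.map _ p x
  rw [← Sheaf.H.map_comp_apply, ← Functor.map_comp]

lemma hmap_id (M : X.Modules) (p : ℕ) (x : Coh.HH X M p) : hmap A (𝟙 M) p x = x := by
  change Sheaf.H.map _ p x = x
  rw [(CohBase.toAbF X).map_id]
  exact Sheaf.H.map_id_apply x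

lemma hmap_zero (M N : X.Modules) (p : ℕ) (x : Coh.HH X M p) : hmap A (0 : M ⟶ N) p x = 0 := by
  change ((Sheaf.functorH _ p).map ((CohBase.toAbF X).map (0 : M ⟶ N))).hom x = 0
  rw [Functor.map_zero, Functor.map_zero]
  rfl

lemma hmap_bijective_of_isIso {M N : X.Modules} (φ : M ⟶ N) [IsIso φ] (p : ℕ) :
    Function.Bijective (hmap A φ p) :=
  Function.bijective_iff_has_inverse.2 ⟨hmap A (inv φ) p,
    fun x => by rw [hmap_comp, IsIso.hom_inv_id, hmap_id],
    fun x => by rw [hmap_comp, IsIso.inv_hom_id, hmap_id]⟩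

section LES

variable {S : ShortComplex X.Modules} (hS : S.ShortExact)

/-- The connecting map. -/
noncomputable def hdelta (p : ℕ) : Coh.HH X S.X₃ p →+ Coh.HH X S.X₁ (p + 1) :=
  (CohBase.shortExact_toAb hS).extClass.postcomp _ rfl

/-- The short complex of abelian sheaves. -/
noncomputable abbrev abS (S : ShortComplex X.Modules) : ShortComplex (CohBase.AbSheaf X.toTopCat) :=
  S.map (CohBase.toAbF X)

/-- The source of the Ext groups computing cohomology. -/
noncomputable abbrev constZ (X : Scheme.{u}) : CohBase.AbSheaf X.toTopCat :=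
  (constantSheaf (Opens.grothendieckTopology X) AddCommGrpCat.{u}).obj (AddCommGrpCat.of (ULift.{u} ℤ))

include hS in
lemma exists_of_hmap_g_eq_zero {p : ℕ} (x : Coh.HH X S.X₂ p) (hx : hmap A S.g p x = 0) :
    ∃ y, hmap A S.f p y = x := by
  have h := @Ext.covariant_sequence_exact₂ _ _ _ _ (constZ X) (abS S) (CohBase.shortExact_toAb hS) p x hx
  exact h

include hS in
lemma exists_of_hdelta_eq_zero {p : ℕ} (x : Coh.HH X S.X₃ p) (hx : hdelta hS p x = 0) :
    ∃ y, hmap A S.g p y = x := by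
  have h := @Ext.covariant_sequence_exact₃ _ _ _ _ (constZ X) (abS S) (CohBase.shortExact_toAb hS) p x (p + 1) rfl hx
  exact h

lemma exists_hdelta_eq {p : ℕ} (x : Coh.HH X S.X₁ (p + 1)) (hx : hmap A S.f (p + 1) x = 0) :
    ∃ y, hdelta hS p y = x := by
  have h := @Ext.covariant_sequence_exact₁ _ _ _ _ (constZ X) (abS S) (CohBase.shortExact_toAb hS) (p + 1) x hx p rfl
  exact h

lemma hmap_f_hdelta {p : ℕ} (x : Coh.HH X S.X₃ p) : hmap A S.f (p + 1) (hdelta hS p x) = 0 := by
  change (Ext.comp (x : Ext (constZ X) (abS S).X₃ p) (CohBase.shortExact_toAb hS).extClass (rfl : p + 1 = p + 1)).comp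
    (Ext.mk₀ (abS S).f) (add_zero (p + 1)) = 0
  refine (Ext.comp_assoc_of_third_deg_zero _ _ _ _).trans ?_
  refine (congrArg (fun e => Ext.comp (x : Ext (constZ X) (abS S).X₃ p) e (rfl : p + 1 = p + 1))
    (CohBase.shortExact_toAb hS).extClass_comp).trans ?_
  exact Ext.comp_zero (x : Ext (constZ X) (abS S).X₃ p) (abS S).X₂ 1 (p + 1) rfl

lemma hdelta_naturality {S' : ShortComplex X.Modules} (hS' : S'.ShortExact) (φ : S ⟶ S') {p : ℕ}
    (x : Coh.HH X S.X₃ p) :
    hmap A φ.τ₁ (p + 1) (hdelta hS p x) = hdelta hS' p (hmap A φ.τ₃ p x) := by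
  have h := (CohBase.shortExact_toAb hS).extClass_naturality (CohBase.shortExact_toAb hS')
    ((CohBase.toAbF X).mapShortComplex.map φ)
  change (Ext.comp (x : Ext (constZ X) (abS S).X₃ p) (CohBase.shortExact_toAb hS).extClass (rfl : p + 1 = p + 1)).comp
      (Ext.mk₀ ((CohBase.toAbF X).mapShortComplex.map φ).τ₁) (add_zero (p + 1)) =
    (Ext.comp (x : Ext (constZ X) (abS S).X₃ p) (Ext.mk₀ ((CohBase.toAbF X).mapShortComplex.map φ).τ₃) (add_zero p)).comp
      (CohBase.shortExact_toAb hS').extClass (rfl : p + 1 = p + 1)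
  rw [Ext.comp_assoc_of_third_deg_zero, Ext.comp_assoc_of_second_deg_zero]
  exact congrArg (fun e => Ext.comp (x : Ext (constZ X) (abS S).X₃ p) e (rfl : p + 1 = p + 1)) h

end LES

end Groth.CohC3
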