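import Groth.Agent.CohC3.Completion

/-! Artin–Rees for morphisms of coherent modules; finite powers; the part killed by an ideal. -/

universe u

open CategoryTheory CategoryTheory.Limits AlgebraicGeometry Opposite TopologicalSpace

namespace Groth.CohC3

variable {A : Type u} [CommRing A] {X : Scheme.{u}} [X.Over (Spec (CommRingCat.of A))]

/-- Artin–Rees for a morphism of coherent modules, uniformly on an affine cover: a section whose
image lies in `I^(n+1+c)` is congruent modulo `I^(n+1)` to a section of the kernel. -/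
theorem exists_pro_kernel [IsNoetherian X] (I : Ideal A) {Q P : X.Modules} (hQ : Coh.IsCoh Q)
    (hP : Coh.IsCoh P) (f : Q ⟶ P) :
    ∃ c, ∀ x : X, ∃ U : X.affineOpens, x ∈ (U : X.Opens) ∧ ∀ n m, n + c ≤ m →
      ∀ q : Γ(Q, (U : X.Opens)), (Formal.modPowπ I (m + 1) P).app U (f.app U q) = 0 →
        ∃ k : Γ(kernel f, (U : X.Opens)),
          (Formal.modPowπ I (n + 1) Q).app U ((kernel.ι f).app U k) = (Formal.modPowπ I (n + 1) Q).app U q := by
  refine exists_uniform X (fun U c => ∀ n m, n + c ≤ m →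
      ∀ q : Γ(Q, (U : X.Opens)), (Formal.modPowπ I (m + 1) P).app U (f.app U q) = 0 →
        ∃ k : Γ(kernel f, (U : X.Opens)),
          (Formal.modPowπ I (n + 1) Q).app U ((kernel.ι f).app U k) = (Formal.modPowπ I (n + 1) Q).app U q)
    (fun U i j hij h n m hnm => h n m (le_trans (Nat.add_le_add_left hij n) hnm)) fun U => ?_
  have := hP.1
  have := hQ.1
  have : IsNoetherianRing Γ(X, (U : X.Opens)) := IsLocallyNoetherian.component_noetherian U
  have := ((QCohMod.isCoh_iff _).1 hP).2 U U.2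
  obtain ⟨c, hc⟩ := exists_artinRees (I.map (baseApp X (U : X.Opens))) (QCohMod.appₗ f U)
  refine ⟨c, fun n m hnm q hq => ?_⟩
  have h1 := ((isQuot_modPowπ I (m + 1) P).app_eq_zero_iff _ U.2).1 hq
  rw [Ideal.map_pow] at h1
  obtain ⟨q', hq', hqq'⟩ := hc (n := n + 1) (by omega) q h1
  have hqq'' : f.app U q' = f.app U q := hqq'
  obtain ⟨k, hk⟩ := QCohMod.exists_app_eq_of_mono_exact
    (S := ShortComplex.mk (kernel.ι f) f (kernel.condition _))
    (ShortComplex.exact_of_f_is_kernel _ (kernelIsKernel _)) U (q - q')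
    (by rw [map_sub]; exact sub_eq_zero.2 hqq''.symm)
  refine ⟨k, ?_⟩
  rw [show (kernel.ι f).app U k = q - q' from hk, map_sub, sub_eq_self]
  exact ((isQuot_modPowπ I (n + 1) Q).app_eq_zero_iff _ U.2).2 (by rwa [Ideal.map_pow])

/-- For a monomorphism: what lies in `I^(n+1+c)` downstairs lies in `I^(n+1)` upstairs. -/
theorem exists_pro_mono [IsNoetherian X] (I : Ideal A) {Q P : X.Modules} (hQ : Coh.IsCoh Q)
    (hP : Coh.IsCoh P) (f : Q ⟶ P) [Mono f] :
    ∃ c, ∀ x : X, ∃ U : X.affineOpens, x ∈ (U : X.Opens) ∧ ∀ n m, n + c ≤ m →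
      ∀ q : Γ(Q, (U : X.Opens)), (Formal.modPowπ I (m + 1) P).app U (f.app U q) = 0 →
        (Formal.modPowπ I (n + 1) Q).app U q = 0 := by
  obtain ⟨c, hc⟩ := exists_pro_kernel I hQ hP f
  refine ⟨c, fun x => ?_⟩
  obtain ⟨U, hx, hU⟩ := hc x
  refine ⟨U, hx, fun n m hnm q hq => ?_⟩
  obtain ⟨k, hk⟩ := hU n m hnm q hq
  rw [← hk, show (kernel.ι f).app U k = 0 from congr(($(kernel.ι_of_mono f)).app (U : X.Opens) k), map_zero]

noncomputable instance hasFiniteBiproducts_modules : HasFiniteBiproducts X.Modules :=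
  HasFiniteBiproducts.of_hasFiniteProducts

/-- The finite power of a module. -/
noncomputable abbrev pw (k : ℕ) (M : X.Modules) : X.Modules := ⨁ fun _ : Fin k => M

omit [X.Over (Spec (CommRingCat.of A))] in
lemma pw_total_app {k : ℕ} {M : X.Modules} (U : X.Opens) (z : Γ(pw k M, U)) :
    ∑ i, (biproduct.ι (fun _ : Fin k => M) i).app U ((biproduct.π (fun _ : Fin k => M) i).app U z) = z := by
  have h := congr(($(biproduct.total (f := fun _ : Fin k => M))).app U z)
  rw [QCohMod.app_sum] at h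
  exact h

omit [X.Over (Spec (CommRingCat.of A))] in
lemma pw_sec_ext {k : ℕ} {M : X.Modules} (U : X.Opens) {z w : Γ(pw k M, U)}
    (h : ∀ i, (biproduct.π (fun _ : Fin k => M) i).app U z = (biproduct.π (fun _ : Fin k => M) i).app U w) :
    z = w := by
  rw [← pw_total_app U z, ← pw_total_app U w]
  simp only [h]

omit [X.Over (Spec (CommRingCat.of A))] in
lemma isCoh_pw (k : ℕ) {M : X.Modules} (hM : Coh.IsCoh M) : Coh.IsCoh (pw k M) := by
  have := hM.1
  have : ∀ j, ((Discrete.functor fun _ : Fin k => M).obj j).IsQuasicoherent := fun _ => hM.1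
  refine (QCohMod.isCoh_iff _).2 ⟨QCohMod.isQCoh_of_isColimit (Discrete.functor fun _ : Fin k => M) _
    (biproduct.isColimit fun _ : Fin k => M), fun U hU => ?_⟩
  have := ((QCohMod.isCoh_iff _).1 hM).2 U hU
  refine Module.Finite.of_surjective
    (∑ i, (QCohMod.appₗ (biproduct.ι (fun _ : Fin k => M) i) U).comp (LinearMap.proj i) :
      (Fin k → Γ(M, U)) →ₗ[Γ(X, U)] Γ(pw k M, U)) fun z => ?_
  refine ⟨fun i => (biproduct.π (fun _ : Fin k => M) i).app U z, ?_⟩
  simpa using pw_total_app U z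

/-- A section of a power whose components vanish modulo `J` vanishes modulo `J`. -/
lemma modPowπ_pw_app_eq_zero {I : Ideal A} {n k : ℕ} {M : X.Modules} {U : X.Opens} {z : Γ(pw k M, U)}
    (h : ∀ i, (Formal.modPowπ I n M).app U ((biproduct.π (fun _ : Fin k => M) i).app U z) = 0) :
    (Formal.modPowπ I n (pw k M)).app U z = 0 := by
  rw [← pw_total_app U z, map_sum]
  refine Finset.sum_eq_zero fun i _ => ?_
  obtain ⟨ψ, hψ⟩ := (isQuot_modPowπ I n M).desc
    (biproduct.ι (fun _ : Fin k => M) i ≫ Formal.modPowπ I n (pw k M))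
    ((isQuot_modPowπ I n (pw k M)).le_ann.trans (annHom_le_precomp _ _))
  rw [app_comp_apply, ← hψ, ← app_comp_apply, h i, map_zero]

/-- Multiplication by the members of a finite family, as one map to a power. -/
noncomputable abbrev smulVec {k : ℕ} (a : Fin k → A) (M : X.Modules) : M ⟶ pw k M :=
  biproduct.lift fun i => Formal.smulMod A M (a i)

/-- A finite family testing annihilation by `K`. -/
lemma exists_testVec (X : Scheme.{u}) [X.Over (Spec (CommRingCat.of A))] [IsNoetherian X] (K : Ideal A) :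
    ∃ (k : ℕ) (a : Fin k → A), (∀ i, a i ∈ K) ∧
      ∀ {M N : X.Modules} (p : M ⟶ N), (∀ i, a i ∈ annHom p) → K ≤ annHom p := by
  classical
  obtain ⟨T, hT, h⟩ := exists_finset_le_annHom X (K : Set A)
  refine ⟨T.card, fun i => (T.equivFin.symm i : A), fun i => hT (T.equivFin.symm i).2, fun {M N} p hp => ?_⟩
  have := h p fun a ha => by simpa using hp (T.equivFin ⟨a, ha⟩)
  rwa [Ideal.span_eq] at this

lemma killedBy_kernel_smulVec {K : Ideal A} {k : ℕ} {a : Fin k → A}
    (ha : ∀ {M N : X.Modules} (p : M ⟶ N), (∀ i, a i ∈ annHom p) → K ≤ annHom p) (M : X.Modules) :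
    Formal.KilledBy K (kernel (smulVec a M)) := by
  intro b hb
  rw [← cancel_mono (kernel.ι (smulVec a M)), zero_comp]
  refine ha (kernel.ι (smulVec a M)) (fun i => ?_) hb
  rw [mem_annHom, ← smulMod_naturality]
  have := congr($(kernel.condition (smulVec a M)) ≫ biproduct.π _ i)
  rwa [Category.assoc, biproduct.lift_π, zero_comp] at this

lemma comp_smulVec_eq_zero {K : Ideal A} {k : ℕ} {a : Fin k → A} (ha : ∀ i, a i ∈ K)
    {W M : X.Modules} (φ : W ⟶ M) (hφ : K ≤ annHom φ) : φ ≫ smulVec a M = 0 := by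
  refine biproduct.hom_ext _ _ fun i => ?_
  rw [Category.assoc, biproduct.lift_π, zero_comp, smulMod_naturality]
  exact (mem_annHom _ _).1 (hφ (ha i))

end Groth.CohC3
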