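import Groth.Agent.CohC3.GradedFG
import Groth.Agent.CohC3.HMap
import Groth.Agent.CohC3.Affines
import Groth.Agent.CohC3.ProKernel

/-! Cohomology of a finitely generated sequence of coherent modules is a finitely generated sequence. -/

universe u

open CategoryTheory CategoryTheory.Limits AlgebraicGeometry Opposite TopologicalSpace

namespace Groth.CohC3

variable {A : Type u} [CommRing A] {X : Scheme.{u}} [X.Over (Spec (CommRingCat.of A))]

/-- A sequence of modules with commuting operators of degree one. -/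
structure GSeq (X : Scheme.{u}) (r : ℕ) where
  /-- the terms -/
  obj : ℕ → X.Modules
  /-- the operators -/
  op : Fin r → ∀ n, obj n ⟶ obj (n + 1)
  comm : ∀ i j n, op j n ≫ op i (n + 1) = op i n ≫ op j (n + 1)

namespace GSeq

variable {r : ℕ}

/-- Generated from some degree on. -/
def Gen (N : GSeq X r) : Prop := ∃ d, ∀ n, d ≤ n → Epi (biproduct.desc fun i => N.op i n)

variable (N : GSeq X (r + 1))

/-- The kernels of the last operator. -/
noncomputable abbrev kerSeq : GSeq X r where
  obj n := kernel (N.op (Fin.last r) n)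
  op i n := kernel.map _ _ (N.op i.castSucc n) (N.op i.castSucc (n + 1)) (N.comm i.castSucc (Fin.last r) n)
  comm i j n := by
    rw [← cancel_mono (kernel.ι (N.op (Fin.last r) (n + 1 + 1)))]
    simp only [Category.assoc, kernel.lift_ι, kernel.lift_ι_assoc]
    rw [N.comm]

/-- The cokernels of the last operator. -/
noncomputable abbrev cokerSeq : GSeq X r where
  obj n := cokernel (N.op (Fin.last r) n)
  op i n := cokernel.map _ _ (N.op i.castSucc n) (N.op i.castSucc (n + 1)) (N.comm i.castSucc (Fin.last r) n)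
  comm i j n := by
    rw [← cancel_epi (cokernel.π (N.op (Fin.last r) n))]
    simp only [cokernel.π_desc_assoc, cokernel.π_desc, Category.assoc]
    rw [← Category.assoc, ← Category.assoc, N.comm]

/-- The induced map on images. -/
noncomputable def imMap (i : Fin r) (n : ℕ) :
    Abelian.image (N.op (Fin.last r) n) ⟶ Abelian.image (N.op (Fin.last r) (n + 1)) :=
  kernel.map _ _ (N.op i.castSucc (n + 1)) (N.cokerSeq.op i n)
    (by exact (cokernel.π_desc _ _ _))

@[reassoc]
lemma imMap_ι (i : Fin r) (n : ℕ) :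
    N.imMap i n ≫ Abelian.image.ι (N.op (Fin.last r) (n + 1)) =
      Abelian.image.ι (N.op (Fin.last r) n) ≫ N.op i.castSucc (n + 1) :=
  kernel.lift_ι _ _ _

@[reassoc]
lemma factor_imMap (i : Fin r) (n : ℕ) :
    Abelian.factorThruImage (N.op (Fin.last r) n) ≫ N.imMap i n =
      N.op i.castSucc n ≫ Abelian.factorThruImage (N.op (Fin.last r) (n + 1)) := by
  rw [← cancel_mono (Abelian.image.ι (N.op (Fin.last r) (n + 1))), Category.assoc, imMap_ι,
    ← Category.assoc, Abelian.image.fac, Category.assoc, Abelian.image.fac]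
  exact N.comm i.castSucc (Fin.last r) n

/-- `0 → K → N → Im → 0`. -/
noncomputable abbrev seq₂ (n : ℕ) : ShortComplex X.Modules :=
  ShortComplex.mk (kernel.ι (N.op (Fin.last r) n)) (Abelian.factorThruImage (N.op (Fin.last r) n))
    (by rw [← cancel_mono (Abelian.image.ι (N.op (Fin.last r) n)), Category.assoc, Abelian.image.fac,
      kernel.condition, zero_comp])

lemma seq₂_shortExact (n : ℕ) : (N.seq₂ n).ShortExact where
  exact := ShortComplex.exact_of_f_is_kernel _
    (isKernelOfComp (Abelian.image.ι (N.op (Fin.last r) n)) (N.op (Fin.last r) n)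
      (kernelIsKernel (N.op (Fin.last r) n)) _ (Abelian.image.fac _))
  mono_f := inferInstanceAs (Mono (kernel.ι _))
  epi_g := inferInstanceAs (Epi (Abelian.factorThruImage _))

/-- `0 → Im → N → C → 0`. -/
noncomputable abbrev seq₁ (n : ℕ) : ShortComplex X.Modules :=
  ShortComplex.mk (Abelian.image.ι (N.op (Fin.last r) n)) (cokernel.π (N.op (Fin.last r) n))
    (kernel.condition _)

lemma seq₁_shortExact (n : ℕ) : (N.seq₁ n).ShortExact where
  exact := ShortComplex.exact_of_f_is_kernel _ (kernelIsKernel _)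
  mono_f := inferInstanceAs (Mono (kernel.ι _))
  epi_g := inferInstanceAs (Epi (cokernel.π _))

omit [X.Over (Spec (CommRingCat.of A))] in
lemma gen_cokerSeq (h : N.Gen) : N.cokerSeq.Gen := by
  obtain ⟨d, hd⟩ := h
  refine ⟨d, fun n hn => Preadditive.epi_of_cancel_zero _ fun {W} g hg => ?_⟩
  have hi : ∀ i, N.cokerSeq.op i n ≫ g = 0 := fun i => by
    have := congr(biproduct.ι _ i ≫ $hg)
    rwa [biproduct.ι_desc_assoc, comp_zero] at this
  have := hd (n + 1) (by omega)
  refine (cancel_epi (cokernel.π (N.op (Fin.last r) (n + 1)))).1 ?_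
  rw [comp_zero, ← cancel_epi (biproduct.desc fun i => N.op i (n + 1)), comp_zero]
  refine biproduct.hom_ext' _ _ fun i => ?_
  rw [comp_zero, biproduct.ι_desc_assoc]
  induction i using Fin.lastCases with
  | last => rw [← Category.assoc, cokernel.condition, zero_comp]
  | cast i =>
    have e : N.op i.castSucc (n + 1) ≫ cokernel.π (N.op (Fin.last r) (n + 1)) =
        cokernel.π (N.op (Fin.last r) n) ≫ N.cokerSeq.op i n := (cokernel.π_desc _ _ _).symm
    rw [← Category.assoc, e, Category.assoc, hi, comp_zero]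

omit [X.Over (Spec (CommRingCat.of A))] in
lemma gen_kerSeq [IsNoetherian X] (hc : ∀ n, Coh.IsCoh (N.obj n)) (h : N.Gen) : N.kerSeq.Gen := by
  classical
  obtain ⟨d, hd⟩ := h
  have := fun n => (hc n).1
  obtain ⟨c, hcov⟩ := exists_uniform X (fun U c => ∀ n, c ≤ n →
      Function.Surjective ((biproduct.desc fun i => N.kerSeq.op i n).app (U : X.Opens)))
    (fun U i j hij hi n hn => hi n (hij.trans hn)) fun U => by
    have : IsNoetherianRing Γ(X, (U : X.Opens)) := IsLocallyNoetherian.component_noetherian U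
    have hfin : ∀ n, Module.Finite Γ(X, (U : X.Opens)) Γ(N.obj n, (U : X.Opens)) := fun n =>
      ((QCohMod.isCoh_iff _).1 (hc n)).2 U U.2
    obtain ⟨d', hd'⟩ := exists_bound_of_stable (R := Γ(X, (U : X.Opens)))
      (fun i n => QCohMod.appₗ (N.op i n) (U : X.Opens))
      (fun i j n x => congr(($(N.comm i j n)).app (U : X.Opens) x)) d
      (fun n hn y _ => by
        have := hd n hn
        have : (⨁ fun _ : Fin (r + 1) => N.obj n).IsQuasicoherent :=
          (isCoh_pw (r + 1) (hc n)).1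
        obtain ⟨z, hz⟩ := QCohMod.app_surjective_of_epi (biproduct.desc fun i => N.op i n) U.2 y
        rw [← hz, ← pw_total_app (U : X.Opens) z, map_sum]
        refine Submodule.sum_mem _ fun i _ => Submodule.mem_iSup_of_mem i ?_
        refine ⟨(biproduct.π (fun _ : Fin (r + 1) => N.obj n) i).app (U : X.Opens) z, ?_⟩
        rw [app_comp_apply, biproduct.ι_desc]
        rfl)
      (fun n => LinearMap.ker (QCohMod.appₗ (N.op (Fin.last r) n) (U : X.Opens)))
      (fun i n => by
        rintro _ ⟨x, hx, rfl⟩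
        have e : (N.op (Fin.last r) (n + 1)).app (U : X.Opens) ((N.op i n).app (U : X.Opens) x) =
            (N.op i (n + 1)).app (U : X.Opens) ((N.op (Fin.last r) n).app (U : X.Opens) x) :=
          congr(($(N.comm (Fin.last r) i n)).app (U : X.Opens) x)
        exact e.trans (by rw [show (N.op (Fin.last r) n).app (U : X.Opens) x = 0 from hx, map_zero]))
    refine ⟨d', fun n hn y => ?_⟩
    have hy : (kernel.ι (N.op (Fin.last r) (n + 1))).app (U : X.Opens) y ∈
        LinearMap.ker (QCohMod.appₗ (N.op (Fin.last r) (n + 1)) (U : X.Opens)) :=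
      congr(($(kernel.condition (N.op (Fin.last r) (n + 1)))).app (U : X.Opens) y)
    let ψ := (biproduct.desc fun i => N.kerSeq.op i n) ≫ kernel.ι (N.op (Fin.last r) (n + 1))
    suffices ∃ z, ψ.app (U : X.Opens) z = (kernel.ι (N.op (Fin.last r) (n + 1))).app (U : X.Opens) y by
      obtain ⟨z, hz⟩ := this
      exact ⟨z, CohTwo.app_injective (kernel.ι (N.op (Fin.last r) (n + 1))) _ hz⟩
    refine Submodule.iSup_induction _ (motive := fun t => ∃ z, ψ.app (U : X.Opens) z = t) (hd' n hn hy) ?_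
      ⟨0, map_zero _⟩ fun a b ⟨za, ha⟩ ⟨zb, hb⟩ => ⟨za + zb, by rw [map_add, ha, hb]⟩
    rintro i _ ⟨s, hs, rfl⟩
    induction i using Fin.lastCases with
    | last => exact ⟨0, by rw [map_zero]; exact hs.symm⟩
    | cast i =>
      obtain ⟨k, rfl⟩ := QCohMod.exists_app_eq_of_mono_exact
        (S := ShortComplex.mk (kernel.ι (N.op (Fin.last r) n)) (N.op (Fin.last r) n) (kernel.condition _))
        (ShortComplex.exact_of_f_is_kernel _ (kernelIsKernel _)) (U : X.Opens) s hs
      refine ⟨(biproduct.ι (fun _ : Fin r => N.kerSeq.obj n) i).app (U : X.Opens) k, ?_⟩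
      have e : biproduct.ι (fun _ : Fin r => N.kerSeq.obj n) i ≫ ψ =
          kernel.ι (N.op (Fin.last r) n) ≫ N.op i.castSucc n :=
        (biproduct.ι_desc_assoc _ _ _).trans (kernel.lift_ι _ _ _)
      exact congr(($e).app (U : X.Opens) k)
  refine ⟨c, fun n hn => ?_⟩
  have : (⨁ fun _ : Fin r => N.kerSeq.obj n).IsQuasicoherent :=
    (isCoh_pw r (QCohMod.isCoh_kernel (N.op (Fin.last r) n) (hc n))).1
  have : (N.kerSeq.obj (n + 1)).IsQuasicoherent :=
    (QCohMod.isCoh_kernel (N.op (Fin.last r) (n + 1)) (hc (n + 1))).1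
  exact epi_of_cover _ fun x => by
    obtain ⟨U, hxU, hU⟩ := hcov x
    exact ⟨U, U.2, hxU, hU n hn⟩

variable [IsNoetherianRing A]

/-- Stable subsequences of the cohomology are generated from some degree on. -/
lemma exists_bound_hh (N : GSeq X r) (p : ℕ) (hfin : ∀ n, Module.Finite A (Coh.HH X (N.obj n) p))
    (hgen : ∃ d, ∀ n, d ≤ n → (⊤ : Submodule A (Coh.HH X (N.obj (n + 1)) p)) ≤
      ⨆ i, LinearMap.range (hmap A (N.op i n) p))
    (S : ∀ n, Submodule A (Coh.HH X (N.obj n) p))
    (hS : ∀ i n, (S n).map (hmap A (N.op i n) p) ≤ S (n + 1)) :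
    ∃ d', ∀ n, d' ≤ n → S (n + 1) ≤ ⨆ i, (S n).map (hmap A (N.op i n) p) := by
  obtain ⟨d, hd⟩ := hgen
  exact exists_bound_of_stable (fun i n => hmap A (N.op i n) p)
    (fun i j n x => by rw [hmap_comp, hmap_comp, N.comm]) d hd S hS

/-- A class of coherent modules closed under kernels and cokernels, with finite cohomology. -/
structure FinClass (A : Type u) [CommRing A] (X : Scheme.{u}) [X.Over (Spec (CommRingCat.of A))]
    (P : X.Modules → Prop) : Prop where
  coh : ∀ {M : X.Modules}, P M → Coh.IsCoh M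
  ker : ∀ {M M' : X.Modules} (φ : M ⟶ M'), P M → Coh.IsCoh M' → P (kernel φ)
  coker : ∀ {M M' : X.Modules} (φ : M ⟶ M'), Coh.IsCoh M → P M' → P (cokernel φ)
  fin : ∀ {M : X.Modules}, P M → ∀ p, Module.Finite A (Coh.HH X M p)

/-- **Cohomology of a generated sequence is generated.** -/
theorem gen_hh [IsNoetherian X] {P : X.Modules → Prop} (hP : FinClass A X P) :
    ∀ {r : ℕ} (N : GSeq X r), (∀ n, P (N.obj n)) → N.Gen → ∀ p, ∃ d, ∀ n, d ≤ n →
      (⊤ : Submodule A (Coh.HH X (N.obj (n + 1)) p)) ≤ ⨆ i, LinearMap.range (hmap A (N.op i n) p) := by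
  intro r
  induction r with
  | zero =>
    intro N _ hg p
    obtain ⟨d, hd⟩ := hg
    refine ⟨d, fun n hn x _ => ?_⟩
    have := hd n hn
    have hz : 𝟙 (N.obj (n + 1)) = 0 := by
      rw [← cancel_epi (biproduct.desc fun i => N.op i n)]
      exact biproduct.hom_ext' _ _ fun i => i.elim0
    rw [← hmap_id (A := A) (N.obj (n + 1)) p x, hz, hmap_zero]
    exact zero_mem _
  | succ r ih =>
    intro N hN hg p
    let T := fun n => N.op (Fin.last r) n
    have hc := fun n => hP.coh (hN n)
    have hPC : ∀ n, P (N.cokerSeq.obj n) := fun n => hP.coker (T n) (hc n) (hN (n + 1))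
    have hPK : ∀ n, P (N.kerSeq.obj n) := fun n => hP.ker (T n) (hN n) (hc (n + 1))
    let SC : ∀ n, Submodule A (Coh.HH X (N.cokerSeq.obj n) p) := fun n =>
      LinearMap.range (hmap A (cokernel.π (T n)) p)
    have hnat : ∀ (i : Fin r) n, cokernel.π (T n) ≫ N.cokerSeq.op i n = N.op i.castSucc (n + 1) ≫ cokernel.π (T (n + 1)) :=
      fun i n => cokernel.π_desc _ _ _
    obtain ⟨dC, hdC⟩ := N.cokerSeq.exists_bound_hh p (fun n => hP.fin (hPC n) p)
      (ih _ hPC (N.gen_cokerSeq hg) p) SC fun i n => by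
        rintro _ ⟨_, ⟨x, rfl⟩, rfl⟩
        exact ⟨hmap A (N.op i.castSucc (n + 1)) p x, by rw [hmap_comp, hmap_comp, hnat]⟩
    let SK : ∀ n, Submodule A (Coh.HH X (N.kerSeq.obj n) (p + 1)) := fun n =>
      LinearMap.ker (hmap A (kernel.ι (T n)) (p + 1))
    have hnatK : ∀ (i : Fin r) n, N.kerSeq.op i n ≫ kernel.ι (T (n + 1)) = kernel.ι (T n) ≫ N.op i.castSucc n :=
      fun i n => kernel.lift_ι _ _ _
    obtain ⟨dK, hdK⟩ := N.kerSeq.exists_bound_hh (p + 1) (fun n => hP.fin (hPK n) (p + 1))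
      (ih _ hPK (N.gen_kerSeq hc hg) (p + 1)) SK fun i n => by
        rintro _ ⟨x, hx, rfl⟩
        have hx' : hmap A (kernel.ι (T n)) (p + 1) x = 0 := hx
        change hmap A (kernel.ι (T (n + 1))) (p + 1) (hmap A (N.kerSeq.op i n) (p + 1) x) = 0
        rw [hmap_comp, hnatK, ← hmap_comp, hx', map_zero]
    refine ⟨max dC dK + 1, fun n hn y _ => ?_⟩
    obtain ⟨m, rfl⟩ := Nat.exists_eq_succ_of_ne_zero (show n ≠ 0 by omega)
    let W : Submodule A (Coh.HH X (N.obj (m + 1 + 1)) p) := ⨆ i, LinearMap.range (hmap A (N.op i (m + 1)) p)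
    change y ∈ W
    have hW : ∀ i x, hmap A (N.op i (m + 1)) p x ∈ W := fun i x => Submodule.mem_iSup_of_mem i ⟨x, rfl⟩
    obtain ⟨y', hy', hyy'⟩ : ∃ y' ∈ W, hmap A (cokernel.π (T (m + 1))) p y' = hmap A (cokernel.π (T (m + 1))) p y := by
      refine Submodule.iSup_induction _ (motive := fun c => ∃ y' ∈ W, hmap A (cokernel.π (T (m + 1))) p y' = c)
        (hdC m (by omega) (⟨y, rfl⟩ : hmap A (cokernel.π (T (m + 1))) p y ∈ SC (m + 1))) ?_
        ⟨0, zero_mem _, map_zero _⟩ fun a b ⟨a', ha, ha'⟩ ⟨b', hb, hb'⟩ => ⟨a' + b', add_mem ha hb, by rw [map_add, ha', hb']⟩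
      rintro i _ ⟨_, ⟨x, rfl⟩, rfl⟩
      exact ⟨_, hW i.castSucc x, by rw [hmap_comp, hmap_comp, hnat]⟩
    obtain ⟨z, hz⟩ := exists_of_hmap_g_eq_zero (A := A) (N.seq₁_shortExact (m + 1)) (y - y')
      (by rw [map_sub, sub_eq_zero]; exact hyy'.symm)
    change hmap A (Abelian.image.ι (T (m + 1))) p z = y - y' at hz
    obtain ⟨z', hz', hzz'⟩ : ∃ z', hmap A (Abelian.image.ι (T (m + 1))) p z' ∈ W ∧
        hdelta (N.seq₂_shortExact (m + 1)) p z' = hdelta (N.seq₂_shortExact (m + 1)) p z := by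
      refine Submodule.iSup_induction _ (motive := fun c => ∃ z', hmap A (Abelian.image.ι (T (m + 1))) p z' ∈ W ∧
        hdelta (N.seq₂_shortExact (m + 1)) p z' = c)
        (hdK m (by omega) (show hdelta (N.seq₂_shortExact (m + 1)) p z ∈ SK (m + 1) from
          hmap_f_hdelta (N.seq₂_shortExact (m + 1)) z)) ?_
        ⟨0, by rw [map_zero]; exact zero_mem _, map_zero _⟩
        fun a b ⟨a', ha, ha'⟩ ⟨b', hb, hb'⟩ => ⟨a' + b', by rw [map_add]; exact add_mem ha hb, by rw [map_add, ha', hb']⟩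
      rintro i _ ⟨x, hx, rfl⟩
      obtain ⟨x', rfl⟩ := exists_hdelta_eq (A := A) (N.seq₂_shortExact m) x hx
      refine ⟨hmap A (N.imMap i m) p x', ?_, ?_⟩
      · rw [hmap_comp, imMap_ι, ← hmap_comp]
        exact hW i.castSucc _
      · let φ : N.seq₂ m ⟶ N.seq₂ (m + 1) :=
          { τ₁ := N.kerSeq.op i m
            τ₂ := N.op i.castSucc m
            τ₃ := N.imMap i m
            comm₁₂ := hnatK i m
            comm₂₃ := (N.factor_imMap i m).symm }
        exact (hdelta_naturality (A := A) (N.seq₂_shortExact m) (N.seq₂_shortExact (m + 1)) φ x').symm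
    obtain ⟨h, hh⟩ := exists_of_hdelta_eq_zero (A := A) (N.seq₂_shortExact (m + 1)) (z - z')
      (by rw [map_sub, hzz', sub_self])
    have h2 : hmap A (T (m + 1)) p h = hmap A (Abelian.image.ι (T (m + 1))) p (z - z') := by
      rw [← hh, hmap_comp]
      exact congrArg (fun φ => hmap A φ p h) (Abelian.image.fac (T (m + 1))).symm
    rw [map_sub, hz] at h2
    have : y = y' + (hmap A (Abelian.image.ι (T (m + 1))) p z' + hmap A (T (m + 1)) p h) := by
      rw [h2]; abel
    rw [this]
    exact add_mem hy' (add_mem hz' (hW _ h))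

end GSeq

end Groth.CohC3
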