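import Groth.Agent.CohC3.GrSeq

/-! The kernel system of a surjection from a completion onto a formal module. -/

universe u

open CategoryTheory CategoryTheory.Limits AlgebraicGeometry Opposite TopologicalSpace

namespace Groth.CohC3

variable {A : Type u} [CommRing A] {X : Scheme.{u}} [X.Over (Spec (CommRingCat.of A))]

namespace GSeq

/-- A subsequence of a generated sequence of coherent modules is generated. -/
lemma gen_of_mono [AlgebraicGeometry.IsNoetherian X] {r : ℕ} (N S : GSeq X r) (j : ∀ n, S.obj n ⟶ N.obj n)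
    (hj : ∀ n, Mono (j n)) (hcomm : ∀ i n, S.op i n ≫ j (n + 1) = j n ≫ N.op i n)
    (hS : ∀ n, Coh.IsCoh (S.obj n)) (hN : ∀ n, Coh.IsCoh (N.obj n)) (h : N.Gen) : S.Gen := by
  classical
  obtain ⟨d, hd⟩ := h
  have := fun n => (hN n).1
  have := fun n => (hS n).1
  obtain ⟨c, hcov⟩ := exists_uniform X (fun U c => ∀ n, c ≤ n →
      Function.Surjective ((biproduct.desc fun i => S.op i n).app (U : X.Opens)))
    (fun U i j hij hi n hn => hi n (hij.trans hn)) fun U => by
    have : IsNoetherianRing Γ(X, (U : X.Opens)) := IsLocallyNoetherian.component_noetherian U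
    have hfin : ∀ n, Module.Finite Γ(X, (U : X.Opens)) Γ(N.obj n, (U : X.Opens)) := fun n =>
      ((QCohMod.isCoh_iff _).1 (hN n)).2 U U.2
    obtain ⟨d', hd'⟩ := exists_bound_of_stable (R := Γ(X, (U : X.Opens)))
      (fun i n => QCohMod.appₗ (N.op i n) (U : X.Opens))
      (fun i k n x => congr(($(N.comm i k n)).app (U : X.Opens) x)) d
      (fun n hn y _ => by
        have := hd n hn
        have : (⨁ fun _ : Fin r => N.obj n).IsQuasicoherent := (isCoh_pw r (hN n)).1
        obtain ⟨z, hz⟩ := QCohMod.app_surjective_of_epi (biproduct.desc fun i => N.op i n) U.2 y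
        rw [← hz, ← pw_total_app (U : X.Opens) z, map_sum]
        refine Submodule.sum_mem _ fun i _ => Submodule.mem_iSup_of_mem i ?_
        refine ⟨(biproduct.π (fun _ : Fin r => N.obj n) i).app (U : X.Opens) z, ?_⟩
        rw [app_comp_apply, biproduct.ι_desc]
        rfl)
      (fun n => LinearMap.range (QCohMod.appₗ (j n) (U : X.Opens)))
      (fun i n => by
        rintro _ ⟨_, ⟨x, rfl⟩, rfl⟩
        exact ⟨(S.op i n).app (U : X.Opens) x, congr(($(hcomm i n)).app (U : X.Opens) x)⟩)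
    refine ⟨d', fun n hn y => ?_⟩
    let ψ := (biproduct.desc fun i => S.op i n) ≫ j (n + 1)
    suffices ∃ z, ψ.app (U : X.Opens) z = (j (n + 1)).app (U : X.Opens) y by
      obtain ⟨z, hz⟩ := this
      have := hj (n + 1)
      exact ⟨z, CohTwo.app_injective (j (n + 1)) _ hz⟩
    refine Submodule.iSup_induction _ (motive := fun t => ∃ z, ψ.app (U : X.Opens) z = t) (hd' n hn ⟨y, rfl⟩) ?_
      ⟨0, map_zero _⟩ fun a b ⟨za, ha⟩ ⟨zb, hb⟩ => ⟨za + zb, by rw [map_add, ha, hb]⟩
    rintro i _ ⟨_, ⟨k, rfl⟩, rfl⟩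
    refine ⟨(biproduct.ι (fun _ : Fin r => S.obj n) i).app (U : X.Opens) k, ?_⟩
    have e : biproduct.ι (fun _ : Fin r => S.obj n) i ≫ ψ = j n ≫ N.op i n :=
      (biproduct.ι_desc_assoc _ _ _).trans (hcomm i n)
    exact congr(($e).app (U : X.Opens) k)
  refine ⟨c, fun n hn => ?_⟩
  have : (⨁ fun _ : Fin r => S.obj n).IsQuasicoherent := (isCoh_pw r (hS n)).1
  exact epi_of_cover _ fun x => by
    obtain ⟨U, hxU, hU⟩ := hcov x
    exact ⟨U, U.2, hxU, hU n hn⟩

end GSeq

variable {I : Ideal A} {C G : ℕᵒᵖ ⥤ X.Modules} (hC : IsSys I C) (hG : IsSys I G) (π : C ⟶ G)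

include hC in
lemma raiseSys_naturality {a : A} (ha : a ∈ I) (n : ℕ) :
    raiseSys hC ha n ≫ π.app (op (n + 1)) = π.app (op n) ≫ raiseSys hG ha n := by
  refine (hC.isQuot_succ n).hom_ext ?_
  rw [sysMap_raiseSys_assoc, π.naturality_assoc, sysMap_raiseSys, smulMod_naturality]

/-- The kernels of a map of systems. -/
noncomputable def kerSys : ℕᵒᵖ ⥤ X.Modules :=
  Functor.ofOpSequence (X := fun n => kernel (π.app (op n))) fun n =>
    kernel.map _ _ (sysMap C (Nat.le_succ n)) (sysMap G (Nat.le_succ n)) (π.naturality _).symm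

/-- The inclusion of the kernels. -/
noncomputable abbrev kerSysι (n : ℕ) : (kerSys π).obj (op n) ⟶ C.obj (op n) := kernel.ι (π.app (op n))

instance mono_kerSysι (n : ℕ) : Mono (kerSysι π n) := inferInstanceAs (Mono (kernel.ι (π.app (op n))))

@[reassoc]
lemma kerSysι_sysMap (n : ℕ) :
    sysMap (kerSys π) (Nat.le_succ n) ≫ kerSysι π n = kerSysι π (n + 1) ≫ sysMap C (Nat.le_succ n) := by
  rw [show sysMap (kerSys π) (Nat.le_succ n) = kernel.map _ _ (sysMap C (Nat.le_succ n))
      (sysMap G (Nat.le_succ n)) (π.naturality _).symm from Functor.ofOpSequence_map_homOfLE_succ _ n]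
  exact kernel.lift_ι _ _ _

include hC in
lemma killedBy_kerSys (n : ℕ) : Formal.KilledBy (I ^ (n + 1)) ((kerSys π).obj (op n)) :=
  killedBy_of_mono (kerSysι π n) (hC.killed n)

/-- Multiplication by an element of `I` on the kernels, raising the level. -/
noncomputable def raiseKer {a : A} (ha : a ∈ I) (n : ℕ) :
    (kerSys π).obj (op n) ⟶ (kerSys π).obj (op (n + 1)) :=
  kernel.map _ _ (raiseSys hC ha n) (raiseSys hG ha n) (raiseSys_naturality hC hG π ha n).symm

@[reassoc]
lemma raiseKer_ι {a : A} (ha : a ∈ I) (n : ℕ) :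
    raiseKer hC hG π ha n ≫ kerSysι π (n + 1) = kerSysι π n ≫ raiseSys hC ha n :=
  kernel.lift_ι _ _ _

@[reassoc]
lemma sysMap_raiseKer {a : A} (ha : a ∈ I) (n : ℕ) :
    sysMap (kerSys π) (Nat.le_succ n) ≫ raiseKer hC hG π ha n = Formal.smulMod A _ a := by
  rw [← cancel_mono (kerSysι π (n + 1)), Category.assoc, raiseKer_ι, kerSysι_sysMap_assoc, sysMap_raiseSys,
    smulMod_naturality]

@[reassoc]
lemma raiseKer_sysMap {a : A} (ha : a ∈ I) (n : ℕ) :
    raiseKer hC hG π ha n ≫ sysMap (kerSys π) (Nat.le_succ n) = Formal.smulMod A _ a := by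
  rw [← cancel_mono (kerSysι π n), Category.assoc, kerSysι_sysMap, raiseKer_ι_assoc, raiseSys_sysMap,
    smulMod_naturality]

/-- The comparison of the kernels of the transition maps. -/
noncomputable def grι (n : ℕ) : grObj (kerSys π) n ⟶ grObj C n :=
  kernel.map _ _ (kerSysι π (n + 1)) (kerSysι π n) (kerSysι_sysMap π n)

lemma mono_grι (n : ℕ) : Mono (grι π n) := by
  have : Mono (grι π n ≫ kernel.ι (sysMap C (Nat.le_succ n))) := by
    rw [grι, kernel.lift_ι]
    exact mono_comp _ _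
  exact mono_of_mono _ (kernel.ι (sysMap C (Nat.le_succ n)))

variable {r : ℕ} (t : Fin r → A) (ht : ∀ i, t i ∈ I)

/-- The sequence of kernels of transition maps of the kernel system. -/
noncomputable abbrev kerGrSeq : GSeq X r where
  obj := grObj (kerSys π)
  op i n := kernel.map _ _ (raiseKer hC hG π (ht i) (n + 1)) (raiseKer hC hG π (ht i) n)
    (by rw [sysMap_raiseKer, raiseKer_sysMap])
  comm i j n := by
    rw [← cancel_mono (kernel.ι (sysMap (kerSys π) (Nat.le_succ (n + 1 + 1)))),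
      ← cancel_mono (kerSysι π (n + 1 + 1 + 1))]
    simp only [Category.assoc, kernel.lift_ι, kernel.lift_ι_assoc, raiseKer_ι, raiseKer_ι_assoc,
      raiseSys_comm hC (ht i) (ht j)]

lemma kerGrSeq_comm (i : Fin r) (n : ℕ) :
    (kerGrSeq hC hG π t ht).op i n ≫ grι π (n + 1) = grι π n ≫ (grSeq hC t ht).op i n := by
  rw [← cancel_mono (kernel.ι (sysMap C (Nat.le_succ (n + 1))))]
  simp only [Category.assoc, grι, kernel.lift_ι, kernel.lift_ι_assoc, grOp_ι, raiseKer_ι]

variable [AlgebraicGeometry.IsNoetherian X] (hCc : ∀ n, Coh.IsCoh (C.obj (op n)))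
  (hGc : ∀ n, Coh.IsCoh (G.obj (op n)))

include hCc hGc in
lemma isCoh_kerSys (n : ℕ) : Coh.IsCoh ((kerSys π).obj (op n)) :=
  have := (hGc n).1
  QCohMod.isCoh_kernel (π.app (op n)) (hCc n)

include hCc hGc in
lemma isCoh_grObj_kerSys (n : ℕ) : Coh.IsCoh (grObj (kerSys π) n) :=
  isCoh_grObj (isCoh_kerSys π hCc hGc) n

include hCc hGc in
lemma gen_kerGrSeq (hspan : Ideal.span (Set.range t) = I) : (kerGrSeq hC hG π t ht).Gen :=
  GSeq.gen_of_mono (grSeq hC t ht) (kerGrSeq hC hG π t ht) (grι π) (mono_grι π)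
    (kerGrSeq_comm hC hG π t ht) (isCoh_grObj_kerSys π hCc hGc) (isCoh_grObj hCc)
    (gen_grSeq hC t ht hCc hspan)

variable (hπ : ∀ n, Epi (π.app (op n)))

include hC hG hCc hGc hπ in
lemma epi_kerSys (n : ℕ) : Epi (sysMap (kerSys π) (Nat.le_succ n)) := by
  refine QCohMod.epi_of_affine_surjective _ fun U hU x => ?_
  have := fun n => (hCc n).1
  have := fun n => (hGc n).1
  obtain ⟨y, hy⟩ := hC.app_surjective (fun n => (hCc n).1) hU (Nat.le_succ n) ((kerSysι π n).app U x)
  have h0 : (sysMap G (Nat.le_succ n)).app U ((π.app (op (n + 1))).app U y) = 0 := by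
    refine (congr(($(π.naturality (homOfLE (Nat.le_succ n)).op)).app U y)).symm.trans ?_
    refine (congrArg ((π.app (op n)).app U) hy).trans ?_
    exact congr(($(kernel.condition (π.app (op n)))).app U x)
  have h1 := ((hG.isQuot_succ n).app_eq_zero_iff _ hU).1 h0
  have hs : LinearMap.range (QCohMod.appₗ (π.app (op (n + 1))) U) = ⊤ :=
    LinearMap.range_eq_top.2 fun z => by
      have := hπ (n + 1)
      exact QCohMod.app_surjective_of_epi (π.app (op (n + 1))) hU z
  rw [← hs, LinearMap.range_eq_map, ← Submodule.map_smul''] at h1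
  obtain ⟨z, hz, hzy⟩ := h1
  obtain ⟨w, hw⟩ := QCohMod.exists_app_eq_of_mono_exact
    (S := ShortComplex.mk (kerSysι π (n + 1)) (π.app (op (n + 1))) (kernel.condition _))
    (ShortComplex.exact_of_f_is_kernel _ (kernelIsKernel _)) U (y - z)
    ((map_sub _ _ _).trans (sub_eq_zero.2 hzy.symm))
  refine ⟨w, CohTwo.app_injective (kerSysι π n) U ?_⟩
  refine (congr(($(kerSysι_sysMap π n)).app U w)).trans ?_
  refine (congrArg ((sysMap C (Nat.le_succ n)).app U) hw).trans ?_
  rw [map_sub, hy, app_eq_zero_of_mem_smul (sysMap C (Nat.le_succ n)) (hC.isQuot_succ n).le_ann hz, sub_zero]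

include hC hG hCc hGc hπ in
lemma exists_nakayama_kerSys (hI : I.FG) : ∃ D, ∀ n, D ≤ n → ∀ U : X.Opens, IsAffineOpen U → ∀ y,
    (sysMap (kerSys π) (Nat.le_succ n)).app U y = 0 →
      y ∈ I.map (baseApp X U) • (⊤ : Submodule Γ(X, U) Γ((kerSys π).obj (op (n + 1)), U)) := by
  obtain ⟨r, t, hspan⟩ := Submodule.fg_iff_exists_fin_generating_family.1 hI
  have ht : ∀ i, t i ∈ I := fun i => hspan ▸ Submodule.subset_span ⟨i, rfl⟩
  obtain ⟨d, hd⟩ := gen_kerGrSeq hC hG π t ht hCc hGc hspan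
  refine ⟨d + 1, fun n hn U hU y hy => ?_⟩
  obtain ⟨m, rfl⟩ := Nat.exists_eq_succ_of_ne_zero (show n ≠ 0 by omega)
  obtain ⟨k, hk⟩ := QCohMod.exists_app_eq_of_mono_exact
    (S := ShortComplex.mk (kernel.ι (sysMap (kerSys π) (Nat.le_succ (m + 1)))) _ (kernel.condition _))
    (ShortComplex.exact_of_f_is_kernel _ (kernelIsKernel _)) U y hy
  have := hd m (by omega)
  have hq := fun n => (isCoh_kerSys π hCc hGc n).1
  have : ∀ n, (grObj (kerSys π) n).IsQuasicoherent := fun n => (isCoh_grObj_kerSys π hCc hGc n).1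
  have : (⨁ fun _ : Fin r => grObj (kerSys π) m).IsQuasicoherent :=
    (isCoh_pw r (isCoh_grObj_kerSys π hCc hGc m)).1
  obtain ⟨z, hz⟩ := QCohMod.app_surjective_of_epi
    (biproduct.desc fun i => (kerGrSeq hC hG π t ht).op i m) hU k
  rw [← hk, ← hz, ← pw_total_app U z, map_sum, map_sum]
  refine Submodule.sum_mem _ fun i _ => ?_
  set zi := (biproduct.π (fun _ : Fin r => grObj (kerSys π) m) i).app U z
  have := epi_kerSys hC hG π hCc hGc hπ (m + 1)
  obtain ⟨v, hv⟩ := QCohMod.app_surjective_of_epi (sysMap (kerSys π) (Nat.le_succ (m + 1))) hU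
    ((kernel.ι (sysMap (kerSys π) (Nat.le_succ m))).app U zi)
  have e : biproduct.ι (fun _ : Fin r => grObj (kerSys π) m) i ≫
      (biproduct.desc fun i => (kerGrSeq hC hG π t ht).op i m) ≫
        kernel.ι (sysMap (kerSys π) (Nat.le_succ (m + 1))) =
      kernel.ι (sysMap (kerSys π) (Nat.le_succ m)) ≫ raiseKer hC hG π (ht i) (m + 1) :=
    (biproduct.ι_desc_assoc _ _ _).trans (kernel.lift_ι _ _ _)
  have e' := congr(($e).app U zi)
  have e'' : (raiseKer hC hG π (ht i) (m + 1)).app U ((kernel.ι (sysMap (kerSys π) (Nat.le_succ m))).app U zi) =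
      baseApp X U (t i) • v := by
    rw [← hv]
    exact congr(($(sysMap_raiseKer hC hG π (ht i) (m + 1))).app U v)
  refine (show _ = baseApp X U (t i) • v from e'.trans e'') ▸
    Submodule.smul_mem_smul (Ideal.mem_map_of_mem _ (ht i)) trivial

end Groth.CohC3
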