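import Groth.Agent.CohC3.SysGen
import Groth.Agent.CohC3.KernelSys
import Groth.Agent.CohC3.Completion

/-! Grothendieck's existence theorem for schemes with an ample module. -/

universe u

open CategoryTheory CategoryTheory.Limits AlgebraicGeometry Opposite TopologicalSpace

namespace Groth.CohC3

variable {A : Type u} [CommRing A] {X : Scheme.{u}} [X.Over (Spec (CommRingCat.of A))] {I : Ideal A}

/-- A compatible family out of a module as a map out of its completion. -/
lemma exists_completion_desc {M : X.Modules} {G : ℕᵒᵖ ⥤ X.Modules}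
    (hk : ∀ n, Formal.KilledBy (I ^ (n + 1)) (G.obj (op n))) (χ : ∀ n, M ⟶ G.obj (op n))
    (hχ : ∀ n, χ (n + 1) ≫ sysMap G (Nat.le_succ n) = χ n) :
    ∃ τ : Formal.completion I M ⟶ G, ∀ n, Formal.modPowπ I (n + 1) M ≫ τ.app (op n) = χ n := by
  refine ⟨NatTrans.ofOpSequence (fun n => modPowDesc I (n + 1) (χ n) (le_annHom_of_killedBy (hk n) _)) fun n => ?_,
    fun n => modPowπ_desc I (n + 1) (χ n) (le_annHom_of_killedBy (hk n) _)⟩
  refine (isQuot_modPowπ I (n + 1 + 1) M).hom_ext ?_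
  change Formal.modPowπ I (n + 1 + 1) M ≫ sysMap (Formal.completion I M) (Nat.le_succ n) ≫
      modPowDesc I (n + 1) (χ n) _ =
    Formal.modPowπ I (n + 1 + 1) M ≫ modPowDesc I (n + 1 + 1) (χ (n + 1)) _ ≫ sysMap G (Nat.le_succ n)
  erw [modPowπ_sysMap_succ_assoc, modPowπ_desc, modPowπ_desc_assoc]
  exact (hχ n).symm

variable [IsNoetherianRing A] [IsProper (X ↘ Spec (CommRingCat.of A))]

/-- **Existence theorem** on a proper scheme with an ample module. -/
theorem exists_algebraization_of_isAmple [IsAdicComplete I A] {L : X.Modules} (hL : CohB1.IsAmple L)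
    (G : ℕᵒᵖ ⥤ X.Modules) (hG : Formal.IsCohFormal I G) :
    ∃ M : X.Modules, Coh.IsCoh M ∧ Nonempty (Formal.completion I M ≅ G) := by
  haveI := isNoetherian_of_proper A X
  obtain ⟨r, t, hspan⟩ := Submodule.fg_iff_exists_fin_generating_family.1 (IsNoetherian.noetherian I)
  have ht : ∀ i, t i ∈ I := fun i => hspan ▸ Submodule.subset_span ⟨i, rfl⟩
  have hs := isSys_of_isCohFormal hG
  have hq := fun n => (hG.1 n).1
  obtain ⟨d₀, hd₀⟩ := GSeq.exists_uniform_vanishing (A := A) hL (grSeq hs t ht) (isCoh_grObj hG.1)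
    (gen_grSeq hs t ht hG.1 hspan)
  obtain ⟨F, p, hF, hpe, hp⟩ := exists_generators (I := I) hL G hG.1 hG.2.1 (fun n => (hs.isQuot_succ n).epi)
    ⟨d₀, fun n d hd => hd₀ n d hd 1 Nat.one_pos⟩ ⟨0, fun n _ U hU y hy => by
      refine Submodule.smul_mono_left (Ideal.map_mono ?_) (((hs.isQuot_succ n).app_eq_zero_iff y hU).1 hy)
      exact Ideal.pow_le_self (Nat.succ_ne_zero n)⟩
  obtain ⟨π, hπ⟩ := exists_completion_desc hG.2.1 p fun n => hp (Nat.le_succ n)
  have hπe : ∀ n, Epi (π.app (op n)) := fun n => by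
    have := hpe n
    exact epi_of_epi_fac (hπ n)
  have hC := isSys_completion I F
  have hCc : ∀ n, Coh.IsCoh ((Formal.completion I F).obj (op n)) := fun n =>
    ⟨have := hF.1; isQCoh_of_isQuot (isQuot_modPowπ I (n + 1) F),
      @QCohMod.isFT_of_epi _ _ _ (Formal.modPowπ I (n + 1) F) (isQuot_modPowπ I (n + 1) F).epi hF.2⟩
  obtain ⟨d₁, hd₁⟩ := GSeq.exists_uniform_vanishing (A := A) hL (kerGrSeq hC hs π t ht)
    (isCoh_grObj_kerSys π hCc hG.1) (gen_kerGrSeq hC hs π t ht hCc hG.1 hspan)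
  obtain ⟨F₂, q, hF₂, hqe, hq'⟩ := exists_generators (I := I) hL (kerSys π) (isCoh_kerSys π hCc hG.1)
    (killedBy_kerSys hC π) (epi_kerSys hC hs π hCc hG.1 hπe) ⟨d₁, fun n d hd => hd₁ n d hd 1 Nat.one_pos⟩
    (exists_nakayama_kerSys hC hs π hCc hG.1 hπe (IsNoetherian.noetherian I))
  obtain ⟨ψ, hψ⟩ := exists_completion_desc (G := Formal.completion I F) hC.killed (fun n => q n ≫ kerSysι π n)
    fun n => by rw [Category.assoc, ← kerSysι_sysMap, ← Category.assoc, hq']
  obtain ⟨φ, hφ, -⟩ := existsUnique_hom I hF₂ hF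
    (fun k => finite_HH_of_proper A X (Groth.RefRank.isCoh_homSh hF₂ hF) k) ψ
  have := hF₂.1
  have key : ∀ n, φ ≫ Formal.modPowπ I (n + 1) F = q n ≫ kerSysι π n := fun n => (hφ n).symm.trans (hψ n)
  have hzero : ∀ n, φ ≫ p n = 0 := fun n => by
    rw [← hπ n, ← Category.assoc]
    refine (congrArg (· ≫ π.app (op n)) (key n)).trans ?_
    exact (Category.assoc _ _ _).trans ((congrArg (q n ≫ ·) (kernel.condition _)).trans comp_zero)
  refine ⟨cokernel φ, QCohMod.isCoh_cokernel φ hF, nonempty_completion_iso I _ G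
    (fun n => cokernel.desc φ (p n) (hzero n)) (fun n => ?_) fun n => ?_⟩
  · refine
      { le_ann := le_annHom_of_killedBy (hG.2.1 n) _
        epi := have := hpe n; epi_of_epi_fac (cokernel.π_desc φ (p n) (hzero n))
        desc := fun {N} χ hχ => ?_ }
    obtain ⟨χ', hχ'⟩ := (isQuot_modPowπ I (n + 1) F).desc (cokernel.π φ ≫ χ)
      (hχ.trans (annHom_le_precomp _ _))
    have := hqe n
    have h0 : kerSysι π n ≫ χ' = 0 := by
      refine (cancel_epi (q n)).1 (Eq.trans ?_ comp_zero.symm)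
      refine (Category.assoc _ _ _).symm.trans ?_
      refine (congrArg (· ≫ χ') (key n).symm).trans ?_
      refine (Category.assoc _ _ _).trans ?_
      exact (congrArg (φ ≫ ·) hχ').trans (by rw [cokernel.condition_assoc, zero_comp])
    have := hπe n
    obtain ⟨ω, hω⟩ := CokernelCofork.IsColimit.desc' (Abelian.epiIsCokernelOfKernel
      (KernelFork.ofι (kerSysι π n) (kernel.condition (π.app (op n)))) (kernelIsKernel _)) χ' h0
    refine ⟨ω, ?_⟩
    change π.app (op n) ≫ ω = χ' at hω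
    rw [← cancel_epi (cokernel.π φ), cokernel.π_desc_assoc, ← hπ n]
    refine (Category.assoc _ _ _).trans ?_
    exact (congrArg (Formal.modPowπ I (n + 1) F ≫ ·) hω).trans hχ'
  · rw [← cancel_epi (cokernel.π φ), cokernel.π_desc_assoc, cokernel.π_desc, hp]

end Groth.CohC3
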