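import Groth.Agent.CohC3.PushKiller
import Groth.Agent.CohC3.ExistenceAmple
import Groth.Agent.CohC3.FullyFaithful
import Groth.Agent.CohC3.ProperHelpers
import Groth.Agent.Chow.Lemma
import Groth.Agent.Chow.VeryAmplePn

/-! Grothendieck's existence theorem for proper schemes: Noetherian induction with Chow's lemma. -/

universe u

open CategoryTheory CategoryTheory.Limits AlgebraicGeometry Opposite TopologicalSpace

namespace Groth.CohC3

section Affine

variable {A : Type u} [CommRing A] {J : Ideal A} {W Z : Scheme.{u}} [W.Over (Spec (CommRingCat.of A))]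
  [Z.Over (Spec (CommRingCat.of A))] (j : W ⟶ Z) [IsClosedImmersion j]
  (hj : j ≫ (Z ↘ Spec (CommRingCat.of A)) = W ↘ Spec (CommRingCat.of A))

include hj in
/-- Completion commutes with direct image along closed immersions. -/
theorem nonempty_completion_pushforward {M : W.Modules} [M.IsQuasicoherent] :
    Nonempty (Formal.completion J ((Scheme.Modules.pushforward j).obj M) ≅
      Formal.completion J M ⋙ Scheme.Modules.pushforward j) := by
  set H := (Scheme.Modules.pushforward j).obj M with hH'
  obtain ⟨cmp, hcmp⟩ := exists_pushCmp (J := J) hj M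
  have : ∀ n, IsIso (cmp.app n) := fun ⟨n⟩ => by
    have hW : (Formal.modPow J (n + 1) M).IsQuasicoherent := isQCoh_of_isQuot (isQuot_modPowπ J (n + 1) M)
    have hH : (Formal.modPow J (n + 1) H).IsQuasicoherent := isQCoh_of_isQuot (isQuot_modPowπ J (n + 1) H)
    have : ((pushSys j J M).obj (op n)).IsQuasicoherent :=
      QCohMod.isQCoh_pushforward (M := Formal.modPow J (n + 1) M) j
    have : ((Formal.completion J H).obj (op n)).IsQuasicoherent := hH
    have : Epi (cmp.app (op n)) := epi_of_cover _ fun x => by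
      obtain ⟨U, hU, hx⟩ := QCohMod.exists_affine_mem x
      refine ⟨U, hU, hx, fun z => ?_⟩
      obtain ⟨m, hm⟩ := (isQuot_modPowπ J (n + 1) M).app_surjective (hU.preimage j) z
      exact ⟨(Formal.modPowπ J (n + 1) H).app U m, (congr(($(hcmp n)).app U m)).trans hm⟩
    have : Mono (cmp.app (op n)) := by
      refine Preadditive.mono_of_kernel_zero (hom_eq_zero_of_cover _ fun x => ?_)
      obtain ⟨U, hU, hx⟩ := QCohMod.exists_affine_mem x
      refine ⟨U, hU, hx, fun s => ?_⟩
      obtain ⟨m, hm⟩ := (isQuot_modPowπ J (n + 1) H).app_surjective hU ((kernel.ι (cmp.app (op n))).app U s)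
      have h0 : (Formal.modPowπ J (n + 1) M).app (j ⁻¹ᵁ U) m = 0 := by
        refine (congr(($(hcmp n)).app U m)).symm.trans ?_
        refine (congrArg (fun t => (cmp.app (op n)).app U t) hm).trans ?_
        exact congr(($(kernel.condition (cmp.app (op n)))).app U s)
      refine hm.symm.trans (((isQuot_modPowπ J (n + 1) H).app_eq_zero_iff m hU).2 ?_)
      refine Submodule.smul_induction_on (((isQuot_modPowπ J (n + 1) M).app_eq_zero_iff m (hU.preimage j)).1 h0)
        (fun r hr t _ => ?_) fun _ _ => add_mem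
      induction hr using Submodule.span_induction generalizing t with
      | mem b hb =>
        obtain ⟨a, ha, rfl⟩ := hb
        rw [← baseApp_preimage hj]
        exact Submodule.smul_mem_smul (r := baseApp Z U a) (n := (show Γ(H, U) from t))
          (Ideal.mem_map_of_mem _ ha) trivial
      | zero => rw [zero_smul]; exact zero_mem _
      | add a b _ _ ha hb => rw [add_smul]; exact add_mem (ha t trivial) (hb t trivial)
      | smul a b _ hb => rw [smul_eq_mul, mul_comm, mul_smul]; exact hb _ trivial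
    exact isIso_of_mono_of_epi _
  have : IsIso cmp := NatIso.isIso_of_isIso_app cmp
  exact ⟨asIso cmp⟩

end Affine

variable (A : Type u) [CommRing A] (I : Ideal A)

/-- The existence statement for one scheme. -/
def Algebraizes (X : Scheme.{u}) [X.Over (Spec (CommRingCat.of A))] : Prop :=
  ∀ G : ℕᵒᵖ ⥤ X.Modules, Formal.IsCohFormal I G →
    ∃ M : X.Modules, Coh.IsCoh M ∧ Nonempty (Formal.completion I M ≅ G)

variable {A} {I}

lemma isCohFormal_pullback {X Y : Scheme.{u}} [X.Over (Spec (CommRingCat.of A))]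
    [Y.Over (Spec (CommRingCat.of A))] (f : X ⟶ Y)
    (hf : f ≫ (Y ↘ Spec (CommRingCat.of A)) = X ↘ Spec (CommRingCat.of A))
    {G : ℕᵒᵖ ⥤ Y.Modules} (hG : Formal.IsCohFormal I G) :
    Formal.IsCohFormal I (G ⋙ Scheme.Modules.pullback f) := by
  have hs := isSys_of_isCohFormal hG
  have hq : ∀ n, IsQuot (I ^ (n + 1))
      ((Scheme.Modules.pullback f).map (G.map (homOfLE (Nat.le_succ n)).op)) := fun n =>
    (hs.isQuot_succ n).map_adj (Scheme.Modules.pullbackPushforwardAdjunction f) hf
  refine ⟨fun n => ?_, fun n => ?_, fun n => (hq n).isIso_desc⟩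
  · have := (hG.1 n).1
    exact ⟨QCohMod.isQCoh_pullback_obj f _, QCohMod.isFT_pullback f _ (hG.1 n).2⟩
  · exact (hq n).killedBy

/-- Formal modules killed by the ideal of a closed subscheme come from it. -/
theorem exists_algebraization_of_closed {W Z : Scheme.{u}} [W.Over (Spec (CommRingCat.of A))]
    [Z.Over (Spec (CommRingCat.of A))] [IsLocallyNoetherian Z] (j : W ⟶ Z) [IsClosedImmersion j]
    (hj : j ≫ (Z ↘ Spec (CommRingCat.of A)) = W ↘ Spec (CommRingCat.of A)) (hW : Algebraizes A I W)
    {G : ℕᵒᵖ ⥤ Z.Modules} (hG : Formal.IsCohFormal I G)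
    (hk : ∀ n, ClSub.KilledByIdeal j.ker (G.obj (op n))) :
    ∃ M : Z.Modules, Coh.IsCoh M ∧ ClSub.KilledByIdeal j.ker M ∧ Nonempty (Formal.completion I M ≅ G) := by
  obtain ⟨N, hN, ⟨e⟩⟩ := hW _ (isCohFormal_pullback j hj hG)
  have := hN.1
  obtain ⟨c⟩ := nonempty_completion_pushforward (J := I) j hj (M := N)
  let η := Functor.whiskerLeft G (Scheme.Modules.pullbackPushforwardAdjunction j).unit
  have : ∀ n, IsIso (η.app n) := fun ⟨n⟩ => by
    have := (hG.1 n).1
    exact (QCohMod.isIso_unit_closedImmersion_iff j (G.obj (op n))).2 (hk n)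
  have : IsIso η := NatIso.isIso_of_isIso_app η
  exact ⟨_, isCoh_pushforward hj hN, QCohMod.killed_pushforward j N,
    ⟨c ≪≫ Functor.isoWhiskerRight e (Scheme.Modules.pushforward j) ≪≫ (asIso η).symm⟩⟩

variable [IsNoetherianRing A] [IsAdicComplete I A]

/-- Full faithfulness of completion on proper schemes. -/
theorem existsUnique_hom_proper (X : Scheme.{u}) [X.Over (Spec (CommRingCat.of A))]
    [IsProper (X ↘ Spec (CommRingCat.of A))] {M N : X.Modules} (hM : Coh.IsCoh M) (hN : Coh.IsCoh N)
    (ψ : Formal.completion I M ⟶ Formal.completion I N) :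
    ∃! φ : M ⟶ N, ∀ n : ℕ, Formal.modPowπ I (n + 1) M ≫ ψ.app (op n) = φ ≫ Formal.modPowπ I (n + 1) N :=
  haveI := isNoetherian_of_proper A X
  existsUnique_hom I hM hN (finite_HH_of_proper A X (RefRank.isCoh_homSh hM hN)) ψ

/-- The existence theorem on a proper scheme, given it on proper closed subsets of it. -/
theorem algebraizes_step (Z : Scheme.{u}) [Z.Over (Spec (CommRingCat.of A))]
    [IsProper (Z ↘ Spec (CommRingCat.of A))]
    (ih : ∀ (W : Scheme.{u}) [W.Over (Spec (CommRingCat.of A))] (j : W ⟶ Z) [IsClosedImmersion j],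
      j ≫ (Z ↘ Spec (CommRingCat.of A)) = W ↘ Spec (CommRingCat.of A) → Set.range j ≠ Set.univ →
        Algebraizes A I W) :
    Algebraizes A I Z := by
  intro G hG
  have := isNoetherian_of_proper A Z
  by_cases hne : Nonempty Z
  swap
  · rw [not_nonempty_iff] at hne
    have hz : ∀ M : Z.Modules, M.IsQuasicoherent → Coh.IsCoh M → IsZero M := fun M _ _ =>
      (QCohMod.isZero_iff_support_eq_empty M).2 (Set.eq_empty_of_isEmpty _)
    have h0 := (hG.1 0)
    refine ⟨_, h0, ⟨NatIso.ofComponents (fun n => (hz _ (isCoh_modPow' h0 I (n.unop + 1)).1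
      (isCoh_modPow' h0 I (n.unop + 1))).iso (hz _ (hG.1 n.unop).1 (hG.1 n.unop)))
      fun {i j} f => (hz _ (hG.1 j.unop).1 (hG.1 j.unop)).eq_of_tgt _ _⟩⟩
  obtain ⟨N, X', π, jX, hjX, hjb, hπ, -, ⟨U, hU, -, hiso⟩, -, -⟩ :=
    Groth.Chow.exists_chow (Z ↘ Spec (CommRingCat.of A))
      TopologicalSpace.NoetherianSpace.finite_irreducibleComponents
  letI : X'.Over (Spec (CommRingCat.of A)) := ⟨π ≫ (Z ↘ Spec (CommRingCat.of A))⟩
  haveI : IsProper (X' ↘ Spec (CommRingCat.of A)) :=
    inferInstanceAs (IsProper (π ≫ (Z ↘ Spec (CommRingCat.of A))))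
  have hL : CohB1.IsAmple ((Scheme.Modules.pullback jX).obj (Twist.twistOver N (Spec (CommRingCat.of A)) 1)) :=
    Groth.Chow.isAmple_of_immersion (X' ↘ Spec (CommRingCat.of A)) _ N jX (Iso.refl _)
  obtain ⟨F, hF, ⟨β⟩⟩ := exists_algebraization_of_isAmple hL _ (isCohFormal_pullback π rfl hG)
  obtain ⟨α, cmp, hcmp, hαc⟩ := exists_pushMap (J := I) (f := π) rfl hG hF β.symm
  let K : Z.IdealSheafData := Scheme.IdealSheafData.vanishingIdeal U.compl
  have hKc : (K.support : Set Z) = (U : Set Z)ᶜ := by
    simp [K]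
  have hKU : K.support.compl = U := Opens.ext (by rw [Closeds.coe_compl, hKc, compl_compl])
  have hK : Formal2.KerCokerKilledByPow K α :=
    (PPData.mk G hG F hF β.symm α cmp hcmp hαc : PPData I π).kerCokerKilledByPow rfl K (hKU.symm ▸ hiso)
  refine exists_algebraization_of_kerCoker (fun e => ⟨fun M N' hM hN _ _ ψ => existsUnique_hom_proper Z hM hN ψ,
    fun G' hG' hk => ?_⟩) hG (isCoh_pushforward (A := A) (f := π) rfl hF) α hK
  set j := (K ^ e).subschemeι
  letI : (K ^ e).subscheme.Over (Spec (CommRingCat.of A)) := ⟨j ≫ (Z ↘ Spec (CommRingCat.of A))⟩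
  have hrange : Set.range j ≠ Set.univ := by
    rw [Scheme.IdealSheafData.range_subschemeι]
    obtain ⟨x, hxU⟩ := hU.nonempty
    intro h
    have hx : x ∈ ((K ^ e).support : Set Z) := h ▸ Set.mem_univ x
    rcases Nat.eq_zero_or_pos e with rfl | he
    · rw [pow_zero, Scheme.IdealSheafData.one_eq_top, Scheme.IdealSheafData.support_top] at hx
      exact hx
    · rw [Scheme.IdealSheafData.support_pow _ e (by omega), hKc] at hx
      exact hx hxU
  have hker : j.ker = K ^ e := Scheme.IdealSheafData.ker_subschemeι _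
  rw [← hker] at hk ⊢
  exact exists_algebraization_of_closed j rfl (ih _ j rfl hrange) hG' hk

/-- **Grothendieck's existence theorem** for proper schemes. -/
theorem algebraizes_proper (X : Scheme.{u}) [X.Over (Spec (CommRingCat.of A))]
    [IsProper (X ↘ Spec (CommRingCat.of A))] : Algebraizes A I X := by
  haveI := isNoetherian_of_proper A X
  suffices h : ∀ (T : Closeds X) (Z : Scheme.{u}) [Z.Over (Spec (CommRingCat.of A))] (i : Z ⟶ X)
      [IsClosedImmersion i], i ≫ (X ↘ Spec (CommRingCat.of A)) = Z ↘ Spec (CommRingCat.of A) →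
      Set.range i ⊆ T → Algebraizes A I Z from
    h ⊤ X (𝟙 X) (Category.id_comp _) (by simp)
  intro T
  induction T using WellFoundedLT.induction with
  | ind T IH =>
    intro Z _ i _ hi hT
    haveI : IsProper (Z ↘ Spec (CommRingCat.of A)) := by rw [← hi]; infer_instance
    refine algebraizes_step Z fun W _ j _ hj hne => ?_
    let T' : Closeds X := ⟨Set.range (j ≫ i), (j ≫ i).isClosedEmbedding.isClosed_range⟩
    refine IH T' ?_ W (j ≫ i) (by rw [Category.assoc, hi, hj]) subset_rfl
    refine lt_of_le_of_ne ?_ ?_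
    · rintro _ ⟨w, rfl⟩
      exact hT ⟨j w, rfl⟩
    · intro h
      refine hne (Set.eq_univ_of_forall fun z => ?_)
      have : i z ∈ T := hT ⟨z, rfl⟩
      rw [← h] at this
      obtain ⟨w, hw⟩ := this
      exact ⟨w, i.isClosedEmbedding.injective hw⟩

end Groth.CohC3
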