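import Groth.Agent.CohC3.GradedCoh
import Groth.Agent.CohC3.ProperHelpers
import Groth.Agent.PnCoh.AmpleVanishing
import Groth.Agent.PicAux.Powers

/-! Uniform Serre vanishing along finitely generated sequences. -/

universe u

open CategoryTheory CategoryTheory.Limits AlgebraicGeometry Opposite TopologicalSpace

namespace Groth.CohC3

variable {A : Type u} [CommRing A] {X : Scheme.{u}} [X.Over (Spec (CommRingCat.of A))]

include A in
lemma subsingleton_HH_of_isZero {M : X.Modules} (h : IsZero M) (q : ℕ) : Subsingleton (Coh.HH X M q) :=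
  subsingleton_of_forall_eq 0 fun x => by
    rw [← hmap_id (A := A) M q x, h.eq_of_src (𝟙 M) 0, hmap_zero]

include A in
lemma subsingleton_HH_X₃ {S : ShortComplex X.Modules} (hS : S.ShortExact) {q : ℕ}
    (h₂ : Subsingleton (Coh.HH X S.X₂ q)) (h₁ : Subsingleton (Coh.HH X S.X₁ (q + 1))) :
    Subsingleton (Coh.HH X S.X₃ q) :=
  subsingleton_of_forall_eq 0 fun x => by
    obtain ⟨y, rfl⟩ := exists_of_hdelta_eq_zero (A := A) hS x (Subsingleton.elim _ _)
    rw [Subsingleton.elim y 0, map_zero]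

include A in
lemma subsingleton_HH_X₂ {S : ShortComplex X.Modules} (hS : S.ShortExact) {q : ℕ}
    (h₁ : Subsingleton (Coh.HH X S.X₁ q)) (h₃ : Subsingleton (Coh.HH X S.X₃ q)) :
    Subsingleton (Coh.HH X S.X₂ q) :=
  subsingleton_of_forall_eq 0 fun x => by
    obtain ⟨y, rfl⟩ := exists_of_hmap_g_eq_zero (A := A) hS x (Subsingleton.elim _ _)
    rw [Subsingleton.elim y 0, map_zero]

variable [IsNoetherianRing A] [IsProper (X ↘ Spec (CommRingCat.of A))] {L : X.Modules}

omit [IsNoetherianRing A] [IsProper (X ↘ Spec (CommRingCat.of A))] in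
/-- A vanishing bound shared by finitely many modules. -/
lemma exists_common_bound (Q : ℕ → X.Modules) (D : ℕ) (h : ∀ n, ∃ d₀ : ℕ, ∀ d, d₀ ≤ d → ∀ q, 0 < q →
      Subsingleton (Coh.HH X (CohB1.tensorMod (Q n) (CohB1.tensorPow L d)) q)) :
    ∃ d₀ : ℕ, ∀ n, n ≤ D → ∀ d, d₀ ≤ d → ∀ q, 0 < q →
      Subsingleton (Coh.HH X (CohB1.tensorMod (Q n) (CohB1.tensorPow L d)) q) := by
  choose d₀ hd₀ using h
  exact ⟨(Finset.range (D + 1)).sup d₀, fun n hn d hd q hq =>
    hd₀ n d ((Finset.le_sup (Finset.mem_range.2 (by omega))).trans hd) q hq⟩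

include A in
/-- **Uniform Serre vanishing** along a finitely generated sequence of coherent modules. -/
theorem GSeq.exists_uniform_vanishing (hL : CohB1.IsAmple L) :
    ∀ {r : ℕ} (N : GSeq X r), (∀ n, Coh.IsCoh (N.obj n)) → N.Gen → ∃ d₀ : ℕ, ∀ n d, d₀ ≤ d → ∀ q, 0 < q →
      Subsingleton (Coh.HH X (CohB1.tensorMod (N.obj n) (CohB1.tensorPow L d)) q) := by
  haveI := isNoetherian_of_proper A X
  have hser : ∀ Q : X.Modules, Coh.IsCoh Q → ∃ d₀ : ℕ, ∀ d, d₀ ≤ d → ∀ q, 0 < q →
      Subsingleton (Coh.HH X (CohB1.tensorMod Q (CohB1.tensorPow L d)) q) := fun Q hQ =>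
    PnCoh.exists_subsingleton_of_isAmple (X ↘ Spec (CommRingCat.of A)) hL Q hQ
  intro r
  induction r with
  | zero =>
    intro N hN hg
    obtain ⟨D, hD⟩ := hg
    obtain ⟨d₀, hd₀⟩ := exists_common_bound N.obj D fun n => hser _ (hN n)
    refine ⟨d₀, fun n d hd q hq => ?_⟩
    by_cases hn : n ≤ D
    · exact hd₀ n hn d hd q hq
    obtain ⟨m, rfl⟩ := Nat.exists_eq_succ_of_ne_zero (show n ≠ 0 by omega)
    have := hD m (by omega)
    have hz : IsZero (N.obj (m + 1)) := (IsZero.iff_id_eq_zero _).2 (by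
      rw [← cancel_epi (biproduct.desc fun i => N.op i m)]
      exact biproduct.hom_ext' _ _ fun i => i.elim0)
    exact subsingleton_HH_of_isZero (A := A) ((DCoh.tensorRightMod (CohB1.tensorPow L d)).map_isZero hz) q
  | succ r ih =>
    intro N hN hg
    have hK : ∀ n, Coh.IsCoh (N.kerSeq.obj n) := fun n =>
      have := (hN (n + 1)).1; QCohMod.isCoh_kernel _ (hN n)
    have hC : ∀ n, Coh.IsCoh (N.cokerSeq.obj n) := fun n =>
      have := (hN n).1; QCohMod.isCoh_cokernel _ (hN (n + 1))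
    obtain ⟨dK, hdK⟩ := ih N.kerSeq hK (N.gen_kerSeq hN hg)
    obtain ⟨dC, hdC⟩ := ih N.cokerSeq hC (N.gen_cokerSeq hg)
    obtain ⟨d₀, hd₀⟩ := hser _ (hN 0)
    refine ⟨max d₀ (max dK dC), fun n d hd => ?_⟩
    have hinv := PicAux.isInvertible_tensorPow hL.1 d
    induction n with
    | zero => exact fun q hq => hd₀ d (by omega) q hq
    | succ n ihn =>
      intro q hq
      have h3 : Subsingleton (Coh.HH X (CohB1.tensorMod (Abelian.image (N.op (Fin.last r) n)) (CohB1.tensorPow L d)) q) :=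
        subsingleton_HH_X₃ (A := A) (PicAux.shortExact_tensorRightMod hinv (N.seq₂_shortExact n))
          (ihn q hq) (hdK n d (by omega) (q + 1) (by omega))
      exact subsingleton_HH_X₂ (A := A) (PicAux.shortExact_tensorRightMod hinv (N.seq₁_shortExact n))
        h3 (hdC n d (by omega) q hq)

end Groth.CohC3
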