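import Groth.Agent.CohC3.FormalModule
import Groth.Agent.CohC3.PushFF
import Groth.Agent.CohBase.FlatBC.TensorSec
import Groth.Agent.CohC3.ProKernel

/-! The base change of a proper morphism to the completion of an affine open of the target. -/

universe u

open CategoryTheory CategoryTheory.Limits AlgebraicGeometry Opposite TopologicalSpace
open Groth.CohBase.FlatBC (psec psec_smul psec_map psec_res psec_apply)

namespace Groth.CohC3

section Algebra

open scoped TensorProduct

/-- If `1 ⊗ x = 0` in `B ⊗ G` then the coefficients of `x` lie in the span of the relations. -/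
lemma mem_span_of_one_tmul_eq_zero {R B : Type*} [CommRing R] [CommRing B] [Algebra R B] {G : Type*}
    [AddCommGroup G] [Module R G] {p : ℕ} (g : Fin p → G) (hg : Submodule.span R (Set.range g) = ⊤)
    (r : Fin p → R) (h : (1 : B) ⊗ₜ[R] (∑ a, r a • g a) = 0) :
    (fun a => algebraMap R B (r a)) ∈ Submodule.span B
      ((fun ρ : Fin p → R => fun a => algebraMap R B (ρ a)) '' {ρ | ∑ a, ρ a • g a = 0}) := by
  let Rel : Submodule B (Fin p → B) := Submodule.span B
      ((fun ρ : Fin p → R => fun a => algebraMap R B (ρ a)) '' {ρ | ∑ a, ρ a • g a = 0})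
  let κ : (Fin p → R) →ₗ[R] (Fin p → B) ⧸ Rel :=
    { toFun := fun ρ => Rel.mkQ (fun a => algebraMap R B (ρ a))
      map_add' := fun ρ σ => by
        rw [← map_add]; congr 1; funext a; simp
      map_smul' := fun c ρ => by
        rw [RingHom.id_apply, ← LinearMap.map_smul_of_tower]
        congr 1; funext a; simp [Algebra.smul_def] }
  let ε := Fintype.linearCombination R g
  have hε : Function.Surjective ε := by
    rw [← LinearMap.range_eq_top, Fintype.range_linearCombination]; exact hg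
  have hker : LinearMap.ker ε ≤ LinearMap.ker κ := fun ρ hρ => by
    rw [LinearMap.mem_ker]
    refine (Submodule.Quotient.mk_eq_zero Rel).2 (Submodule.subset_span ⟨ρ, ?_, rfl⟩)
    simpa [ε, Fintype.linearCombination_apply] using hρ
  let θ : G →ₗ[R] (Fin p → B) ⧸ Rel :=
    ((LinearMap.ker ε).liftQ κ hker).comp (LinearMap.quotKerEquivOfSurjective ε hε).symm.toLinearMap
  have hθ : ∀ ρ, θ (ε ρ) = κ ρ := fun ρ => by
    have : (LinearMap.quotKerEquivOfSurjective ε hε).symm (ε ρ) = Submodule.Quotient.mk ρ := by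
      rw [LinearEquiv.symm_apply_eq]; rfl
    simp only [θ, LinearMap.comp_apply, LinearEquiv.coe_coe, this]
    rfl
  have h' : (TensorProduct.lift ((LinearMap.lsmul B ((Fin p → B) ⧸ Rel)).restrictScalars₁₂ R R |>.compl₂ θ))
      ((1 : B) ⊗ₜ[R] (∑ a, r a • g a)) = 0 := by rw [h, map_zero]
  simp only [TensorProduct.lift.tmul, LinearMap.compl₂_apply, LinearMap.restrictScalars₁₂_apply_apply,
    LinearMap.lsmul_apply, one_smul] at h'
  rw [show ∑ a, r a • g a = ε r by simp [ε, Fintype.linearCombination_apply], hθ] at h'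
  exact (Submodule.Quotient.mk_eq_zero Rel).1 h'

/-- `m ↦ 1 ⊗ m` is injective when the algebra is a quotient by elements killing the module. -/
lemma one_tmul_injective {R B : Type*} [CommRing R] [CommRing B] [Algebra R B]
    (hsurj : Function.Surjective (algebraMap R B)) {M : Type*} [AddCommGroup M] [Module R M]
    (hker : ∀ r, algebraMap R B r = 0 → ∀ m : M, r • m = 0) {m : M} (h : (1 : B) ⊗ₜ[R] m = 0) : m = 0 := by
  choose out hout using hsurj
  have key : ∀ (b : B) (r : R), algebraMap R B r = b → ∀ x : M, out b • x = r • x := fun b r hr x => by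
    rw [← sub_eq_zero, ← sub_smul]
    exact hker _ (by rw [map_sub, hout, hr, sub_self]) x
  let β : B →ₗ[R] M →ₗ[R] M :=
    { toFun := fun b => out b • LinearMap.id
      map_add' := fun b c => LinearMap.ext fun x => by
        simp only [LinearMap.smul_apply, LinearMap.id_apply, LinearMap.add_apply]
        rw [key (b + c) (out b + out c) (by rw [map_add, hout, hout]), add_smul]
      map_smul' := fun r b => LinearMap.ext fun x => by
        simp only [LinearMap.smul_apply, LinearMap.id_apply, RingHom.id_apply]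
        rw [key (r • b) (r * out b) (by rw [map_mul, hout, Algebra.smul_def]), mul_smul] }
  have := congrArg (TensorProduct.lift β) h
  rw [map_zero, TensorProduct.lift.tmul] at this
  change out (1 : B) • m = 0 at this
  rwa [key 1 1 (map_one _), one_smul] at this

end Algebra

section Setting

variable {A : Type u} [CommRing A] (J : Ideal A) {X Y : Scheme.{u}} [X.Over (Spec (CommRingCat.of A))]
  [Y.Over (Spec (CommRingCat.of A))] (f : X ⟶ Y) {U : Y.Opens} (hU : IsAffineOpen U)

/-- The completion of the ring of `U`. -/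
abbrev cRing (U : Y.Opens) : Type u := AdicCompletion (J.map (baseApp Y U)) Γ(Y, U)

/-- The ideal of definition of the completion. -/
noncomputable abbrev cIdeal (U : Y.Opens) : Ideal (cRing J U) :=
  J.map ((algebraMap Γ(Y, U) (cRing J U)).comp (baseApp Y U))

/-- `Spec` of the completion, mapping to `Y`. -/
noncomputable def cj : Spec (CommRingCat.of (cRing J U)) ⟶ Y :=
  Spec.map (CommRingCat.ofHom (algebraMap Γ(Y, U) (cRing J U))) ≫ hU.fromSpec

/-- The base change to the completion. -/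
noncomputable def cX : Scheme.{u} := pullback f (cj J hU)

/-- The projection to `X`. -/
noncomputable def ck : cX J f hU ⟶ X := pullback.fst f (cj J hU)

/-- The projection to the completion. -/
noncomputable def cπ : cX J f hU ⟶ Spec (CommRingCat.of (cRing J U)) := pullback.snd f (cj J hU)

lemma cX_isPullback : IsPullback (ck J f hU) (cπ J f hU) f (cj J hU) := IsPullback.of_hasPullback f (cj J hU)

noncomputable instance cXOver : (cX J f hU).Over (Spec (CommRingCat.of (cRing J U))) := ⟨cπ J f hU⟩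

instance [IsProper f] : IsProper (cX J f hU ↘ Spec (CommRingCat.of (cRing J U))) :=
  MorphismProperty.of_isPullback (cX_isPullback J f hU) ‹IsProper f›

lemma isNoetherianRing_cRing [IsLocallyNoetherian Y] (hU : IsAffineOpen U) : IsNoetherianRing (cRing J U) :=
  have : IsNoetherianRing Γ(Y, U) := IsLocallyNoetherian.component_noetherian ⟨U, hU⟩
  Groth.Calg1.isNoetherianRing_adicCompletion _ (IsNoetherian.noetherian _)

lemma isAdicComplete_cRing [IsLocallyNoetherian Y] (hU : IsAffineOpen U) :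
    IsAdicComplete (cIdeal J U) (cRing J U) := by
  have : IsNoetherianRing Γ(Y, U) := IsLocallyNoetherian.component_noetherian ⟨U, hU⟩
  have h : cIdeal J U = (J.map (baseApp Y U)).map (algebraMap Γ(Y, U) (cRing J U)) := (Ideal.map_map _ _).symm
  rw [h, IsAdicComplete.map_algebraMap_iff]
  exact AdicCompletion.isAdicComplete (IsNoetherian.noetherian _)

lemma ck_preimage_top : (⊤ : (cX J f hU).Opens) ≤ ck J f hU ⁻¹ᵁ (f ⁻¹ᵁ U) := by
  rintro x -
  change (ck J f hU ≫ f) x ∈ U
  rw [(cX_isPullback J f hU).w]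
  change hU.fromSpec (Spec.map (CommRingCat.ofHom (algebraMap Γ(Y, U) (cRing J U))) (cπ J f hU x)) ∈ U
  exact hU.range_fromSpec.le ⟨_, rfl⟩

lemma cj_appLE (r : Γ(Y, U)) (e : (⊤ : (Spec (CommRingCat.of (cRing J U))).Opens) ≤ cj J hU ⁻¹ᵁ U) :
    (cj J hU).appLE U ⊤ e r = (Scheme.ΓSpecIso (CommRingCat.of (cRing J U))).inv (algebraMap _ _ r) := by
  have h1 : hU.fromSpec.appLE U ⊤ hU.fromSpec_preimage_self.ge = (Scheme.ΓSpecIso Γ(Y, U)).inv := by
    rw [Scheme.Hom.appLE, IsAffineOpen.fromSpec_app_self, Category.assoc, ← Functor.map_comp]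
    exact (congrArg (_ ≫ ·) ((Spec Γ(Y, U)).presheaf.map_id _)).trans (Category.comp_id _)
  have h2 : (cj J hU).appLE U ⊤ e = hU.fromSpec.appLE U ⊤ hU.fromSpec_preimage_self.ge ≫
      (Spec.map (CommRingCat.ofHom (algebraMap Γ(Y, U) (cRing J U)))).appLE ⊤ ⊤ le_rfl := by
    rw [Scheme.Hom.appLE_comp_appLE]
    rfl
  rw [h2, h1]
  change (Spec.map _).appLE ⊤ ((Spec.map (CommRingCat.ofHom (algebraMap Γ(Y, U) (cRing J U)))) ⁻¹ᵁ ⊤) le_rfl _ = _
  rw [← Scheme.Hom.app_eq_appLE]
  exact (congr($(Scheme.ΓSpecIso_inv_naturality (CommRingCat.ofHom (algebraMap Γ(Y, U) (cRing J U)))) r)).symm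

/-- The scalars of `U` act through `f` and through the completion alike. -/
lemma baseApp_algebraMap (r : Γ(Y, U)) (V : (cX J f hU).Opens) (e : V ≤ ck J f hU ⁻¹ᵁ (f ⁻¹ᵁ U)) :
    baseApp (cX J f hU) V (algebraMap Γ(Y, U) (cRing J U) r) =
      (ck J f hU).appLE (f ⁻¹ᵁ U) V e (f.app U r) := by
  have e0 : (⊤ : (Spec (CommRingCat.of (cRing J U))).Opens) ≤ cj J hU ⁻¹ᵁ U := fun x _ =>
    hU.range_fromSpec.le ⟨_, rfl⟩
  have w := (cX_isPullback J f hU).w
  have e1 : V ≤ (ck J f hU ≫ f) ⁻¹ᵁ U := e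
  have h1 : f.app U ≫ (ck J f hU).appLE (f ⁻¹ᵁ U) V e = (ck J f hU ≫ f).appLE U V e1 := by
    rw [Scheme.Hom.app_eq_appLE, Scheme.Hom.appLE_comp_appLE]
  have h2 : (cj J hU).appLE U ⊤ e0 ≫ (cπ J f hU).appLE ⊤ V le_top =
      (cπ J f hU ≫ cj J hU).appLE U V (w ▸ e1) := Scheme.Hom.appLE_comp_appLE ..
  change _ = (f.app U ≫ (ck J f hU).appLE (f ⁻¹ᵁ U) V e) r
  rw [h1]
  simp only [w]
  rw [← h2]
  change _ = (cπ J f hU).appLE ⊤ V le_top ((cj J hU).appLE U ⊤ e0 r)
  rw [cj_appLE]
  rfl

lemma toGlobal_ck (hf : f ≫ (Y ↘ Spec (CommRingCat.of A)) = X ↘ Spec (CommRingCat.of A)) (a : A) :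
    letI : (cX J f hU).Over (Spec (CommRingCat.of A)) := ⟨ck J f hU ≫ (X ↘ Spec (CommRingCat.of A))⟩
    Coh.toGlobal (cX J f hU ↘ Spec (CommRingCat.of (cRing J U)))
      (((algebraMap Γ(Y, U) (cRing J U)).comp (baseApp Y U)) a) =
      Coh.toGlobal (cX J f hU ↘ Spec (CommRingCat.of A)) a := by
  letI : (cX J f hU).Over (Spec (CommRingCat.of A)) := ⟨ck J f hU ≫ (X ↘ Spec (CommRingCat.of A))⟩
  have h1 : baseApp (cX J f hU) ⊤ (algebraMap Γ(Y, U) (cRing J U) (baseApp Y U a)) =
      baseApp (cX J f hU) ⊤ a := by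
    rw [baseApp_algebraMap J f hU _ ⊤ (ck_preimage_top J f hU), baseApp_preimage hf, Scheme.Hom.appLE]
    change (cX J f hU).presheaf.map (homOfLE (ck_preimage_top J f hU)).op
      ((ck J f hU).app (f ⁻¹ᵁ U) (baseApp X (f ⁻¹ᵁ U) a)) = _
    rw [baseApp_preimage (f := ck J f hU) rfl]
    exact baseApp_res (ck_preimage_top J f hU) a
  have hid : ∀ z, (cX J f hU).presheaf.map (homOfLE (le_top : (⊤ : (cX J f hU).Opens) ≤ ⊤)).op z = z :=
    fun z => congr($((cX J f hU).presheaf.map_id _) z)
  exact ((hid _).symm.trans h1).trans (hid _)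

/-- Sections over `f ⁻¹ U` pulled back. -/
noncomputable abbrev csec (M : X.Modules) :
    Γ(M, f ⁻¹ᵁ U) →+ Γ((Scheme.Modules.pullback (ck J f hU)).obj M, (⊤ : (cX J f hU).Opens)) :=
  psec (ck J f hU) M (ck_preimage_top J f hU)

lemma csec_smul (M : X.Modules) (r : Γ(Y, U)) (m : Γ(M, f ⁻¹ᵁ U)) :
    csec J f hU M (f.app U r • m) =
      baseApp (cX J f hU) ⊤ (algebraMap Γ(Y, U) (cRing J U) r) • csec J f hU M m := by
  rw [baseApp_algebraMap J f hU r ⊤ (ck_preimage_top J f hU)]
  exact psec_smul _ _ _ _ _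

end Setting

end Groth.CohC3
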