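import Groth.Agent.CohC3.Lifting
import Groth.Agent.CohC3.ProKernel

/-! Algebraizing a formal module receiving a completion with small kernel and cokernel. -/

universe u

open CategoryTheory CategoryTheory.Limits AlgebraicGeometry Opposite TopologicalSpace

namespace Groth.CohC3

variable {A : Type u} [CommRing A] {X : Scheme.{u}} [X.Over (Spec (CommRingCat.of A))]

omit [X.Over (Spec (CommRingCat.of A))] in
lemma biproductMap_π_app {k : ℕ} {M N : X.Modules} (φ : M ⟶ N) (i : Fin k) (U : X.Opens) (z : Γ(pw k M, U)) :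
    (biproduct.π (fun _ : Fin k => N) i).app U ((biproduct.map fun _ : Fin k => φ).app U z) =
      φ.app U ((biproduct.π (fun _ : Fin k => M) i).app U z) := by
  rw [app_comp_apply, biproduct.map_π]
  rfl

omit [X.Over (Spec (CommRingCat.of A))] in
lemma exists_pw_sec {k : ℕ} {M : X.Modules} (U : X.Opens) (x : Fin k → Γ(M, U)) :
    ∃ z : Γ(pw k M, U), ∀ i, (biproduct.π (fun _ : Fin k => M) i).app U z = x i := by
  classical
  refine ⟨∑ j, (biproduct.ι (fun _ : Fin k => M) j).app U (x j), fun i => ?_⟩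
  rw [map_sum, Finset.sum_eq_single i]
  · rw [app_comp_apply, biproduct.ι_π_self]; rfl
  · intro j _ hj
    rw [app_comp_apply, biproduct.ι_π_ne _ hj]; rfl
  · exact fun h => absurd (Finset.mem_univ i) h

/-- A morphism carries `I^n M` into `I^n N`. -/
lemma modPowπ_app_eq_zero_map {I : Ideal A} {n : ℕ} {M N : X.Modules} (φ : M ⟶ N) {U : X.Opens}
    {z : Γ(M, U)} (h : (Formal.modPowπ I n M).app U z = 0) :
    (Formal.modPowπ I n N).app U (φ.app U z) = 0 := by
  obtain ⟨ψ, hψ⟩ := (isQuot_modPowπ I n M).desc (φ ≫ Formal.modPowπ I n N)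
    ((isQuot_modPowπ I n N).le_ann.trans (annHom_le_precomp _ _))
  rw [app_comp_apply, ← hψ, ← app_comp_apply, h, map_zero]

section

variable {I : Ideal A} {F : ℕᵒᵖ ⥤ X.Modules} {G : X.Modules} (α : Formal.completion I G ⟶ F)
  {K : Ideal A} (hK : ∀ n, K ≤ annHom (kernel.ι (α.app (op n))) ∧ K ≤ annHom (cokernel.π (α.app (op n))))
  {k : ℕ} {b c : Fin k → A} (hb : ∀ i, b i ∈ K) (hc : ∀ i, c i ∈ K)

/-- The approximate inverses of `α`, collected in one map to a power. -/
noncomputable def gamma (n : ℕ) : F.obj (op n) ⟶ pw k (Formal.modPow I (n + 1) G) :=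
  biproduct.lift fun i => aInv (α.app (op n)) ((hK n).1 (hb i)) ((hK n).2 (hc i))

/-- The reduction of a power. -/
noncomputable def rho (I : Ideal A) (G : X.Modules) (k n : ℕ) : pw k G ⟶ pw k (Formal.modPow I (n + 1) G) :=
  biproduct.map fun _ => Formal.modPowπ I (n + 1) G

/-- The transition map of powers. -/
noncomputable def pwTrans (I : Ideal A) (G : X.Modules) (k : ℕ) {i j : ℕ} (h : i ≤ j) :
    pw k (Formal.modPow I (j + 1) G) ⟶ pw k (Formal.modPow I (i + 1) G) :=
  biproduct.map fun _ => sysMap (Formal.completion I G) h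

omit [X.Over (Spec (CommRingCat.of A))] in
lemma comp_biproductMap {k : ℕ} {M N W : X.Modules} (f : W ⟶ pw k M) (g : W ⟶ pw k N) (φ : M ⟶ N)
    (h : ∀ i, f ≫ biproduct.π (fun _ : Fin k => M) i ≫ φ = g ≫ biproduct.π (fun _ : Fin k => N) i) :
    f ≫ biproduct.map (fun _ : Fin k => φ) = g :=
  biproduct.hom_ext _ _ fun i => by rw [Category.assoc, biproduct.map_π, h i]

lemma rho_pwTrans {i j : ℕ} (h : i ≤ j) : rho I G k j ≫ pwTrans I G k h = rho I G k i :=
  comp_biproductMap _ _ _ fun l => by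
    rw [rho, rho, biproduct.map_π, ← Category.assoc, biproduct.map_π, Category.assoc]
    exact congrArg (biproduct.π _ l ≫ ·) (modPowπ_sysMap I G h)

lemma gamma_pwTrans {i j : ℕ} (h : i ≤ j) :
    gamma α hK hb hc j ≫ pwTrans I G k h = sysMap F h ≫ gamma α hK hb hc i :=
  comp_biproductMap _ _ _ fun l => by
    rw [gamma, gamma, ← Category.assoc, biproduct.lift_π, Category.assoc, biproduct.lift_π]
    exact aInv_naturality _ _ _ _ (α.naturality (homOfLE h).op).symm _ _ _ _

end

/-- The algebraization theorem for a map out of a completion. -/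
theorem exists_algebraization_of_completion_map [IsNoetherian X] {I : Ideal A} {G : X.Modules}
    (hG : Coh.IsCoh G) {F : ℕᵒᵖ ⥤ X.Modules} (hF : IsSys I F) (hFc : ∀ n, Coh.IsCoh (F.obj (op n)))
    (α : Formal.completion I G ⟶ F) (t : ℕ)
    (hK : ∀ n, I ^ (t + 1) ≤ annHom (kernel.ι (α.app (op n))) ∧
      I ^ (t + 1) ≤ annHom (cokernel.π (α.app (op n)))) :
    ∃ (F' : X.Modules) (a : G ⟶ F') (e : Formal.completion I F' ≅ F), Coh.IsCoh F' ∧
      I ^ (4 * t + 4) ≤ annHom (kernel.ι a) ∧ I ^ (4 * t + 4) ≤ annHom (cokernel.π a) ∧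
      ∀ n, Formal.modPowπ I (n + 1) G ≫ α.app (op n) = a ≫ Formal.modPowπ I (n + 1) F' ≫ e.hom.app (op n) := by
  classical
  set K := I ^ (t + 1) with hKdef
  have hKK : K * K = I ^ ((2 * t + 1) + 1) := by
    rw [hKdef, ← pow_add]; congr 1; omega
  -- a test family of products
  obtain ⟨T, hT, htest⟩ := exists_finset_le_annHom X ({a : A | ∃ b ∈ K, ∃ c ∈ K, b * c = a})
  choose b₀ hb₀ c₀ hc₀ hbc₀ using fun a : T => hT a.2
  set k := T.card
  set b : Fin k → A := fun i => b₀ (T.equivFin.symm i)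
  set c : Fin k → A := fun i => c₀ (T.equivFin.symm i)
  have hb : ∀ i, b i ∈ K := fun i => hb₀ _
  have hc : ∀ i, c i ∈ K := fun i => hc₀ _
  set av : Fin k → A := fun i => b i * c i
  have hav : ∀ i, av i ∈ K * K := fun i => Ideal.mul_mem_mul (hb i) (hc i)
  have hle : ∀ {M N : X.Modules} (p : M ⟶ N), (∀ i, av i ∈ annHom p) → K * K ≤ annHom p := by
    intro M N p hp
    have h := htest p fun a ha => by
      have := hp (T.equivFin ⟨a, ha⟩)
      simpa [av, b, c, hbc₀] using this
    exact Ideal.mul_le.2 fun x hx y hy => h (Ideal.subset_span ⟨x, hx, y, hy, rfl⟩)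
  -- the target `G₂`
  let θ : G ⟶ pw k G := smulVec av G
  let Q := cokernel θ
  let f : pw k G ⟶ pw k Q := cokernel.π θ ≫ smulVec av Q
  let G₂ := kernel f
  let ι₂ : G₂ ⟶ pw k G := kernel.ι f
  have := hG.1
  have hpG := isCoh_pw k hG
  have := hpG.1
  have hQ : Coh.IsCoh Q := QCohMod.isCoh_cokernel θ hpG
  have hpQ := isCoh_pw k hQ
  have := hpQ.1
  have hG₂ : Coh.IsCoh G₂ := QCohMod.isCoh_kernel f hpG
  have := hG₂.1
  have hθf : θ ≫ f = 0 := by simp [f]
  let θ₂ : G ⟶ G₂ := kernel.lift f θ hθf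
  have hθ₂ : θ₂ ≫ ι₂ = θ := kernel.lift_ι _ _ _
  have hθπ : ∀ l, θ ≫ biproduct.π (fun _ : Fin k => G) l = Formal.smulMod A G (av l) := fun l =>
    biproduct.lift_π _ _
  -- on `G₂` multiplication by `av l` factors through `θ₂` up to refinement
  have hG₂av : ∀ l {W : X.Modules} (p : G₂ ⟶ W), θ₂ ≫ p = 0 → Formal.smulMod A G₂ (av l) ≫ p = 0 := by
    intro l W p hp
    have h0 : (Formal.smulMod A G₂ (av l) ≫ ι₂) ≫ cokernel.π θ = 0 := by
      have := congr($(kernel.condition f) ≫ biproduct.π (fun _ : Fin k => Q) l)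
      rw [Category.assoc, show f ≫ biproduct.π (fun _ : Fin k => Q) l =
        cokernel.π θ ≫ Formal.smulMod A Q (av l) by simp [f], zero_comp] at this
      rw [Category.assoc, ← this, smulMod_naturality, ← Category.assoc, ← smulMod_naturality, Category.assoc]
    obtain ⟨W', π', _, y, hy⟩ := (ShortComplex.exact_iff_exact_up_to_refinements _).1
      (ShortComplex.exact_of_g_is_cokernel (ShortComplex.mk θ (cokernel.π θ) (cokernel.condition θ))
        (cokernelIsCokernel θ)) _ h0
    rw [← cancel_epi π', comp_zero]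
    have hy' : π' ≫ Formal.smulMod A G₂ (av l) = y ≫ θ₂ := by
      rw [← cancel_mono ι₂, Category.assoc, Category.assoc, hθ₂]
      exact hy
    rw [← Category.assoc, hy', Category.assoc, hp, comp_zero]
  -- Artin–Rees constants
  obtain ⟨c₁, hc₁⟩ := exists_pro_kernel I hpG hpQ f
  obtain ⟨c₂, hc₂⟩ := exists_pro_mono I hG₂ hpG ι₂
  let γ := gamma α hK hb hc
  let P : ℕ → X.Modules := fun n =>
    pullback (sysMap F (Nat.le_add_right (n + c₂) c₁) ≫ γ (n + c₂)) (ι₂ ≫ rho I G k (n + c₂))
  let q : ∀ n, P n ⟶ F.obj (op (n + c₂ + c₁)) := fun n => pullback.fst _ _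
  let r : ∀ n, P n ⟶ Formal.modPow I (n + 1) G₂ := fun n => pullback.snd _ _ ≫ Formal.modPowπ I (n + 1) G₂
  have hqG : ∀ n, ((Formal.completion I G).obj (op n)).IsQuasicoherent := fun n =>
    isQCoh_of_isQuot (isQuot_modPowπ I (n + 1) G)
  have hpwn : ∀ n, (pw k (Formal.modPow I (n + 1) G)).IsQuasicoherent := fun n => by
    have : ∀ j, ((Discrete.functor fun _ : Fin k => Formal.modPow I (n + 1) G).obj j).IsQuasicoherent :=
      fun _ => hqG n
    exact QCohMod.isQCoh_of_isColimit _ _ (biproduct.isColimit fun _ : Fin k => Formal.modPow I (n + 1) G)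
  have hPq : ∀ n, (P n).IsQuasicoherent := fun n => by
    have := hpwn (n + c₂)
    have := (hFc (n + c₂ + c₁)).1
    exact QCohMod.isQCoh_pullback _ _
  have hq : ∀ n, Epi (q n) := fun n => by
    have := hPq n
    have := (hFc (n + c₂ + c₁)).1
    refine epi_of_cover (q n) fun x => ?_
    obtain ⟨U, hxU, hU⟩ := hc₁ x
    refine ⟨U, U.2, hxU, fun h => ?_⟩
    let m := n + c₂ + c₁
    let β : Fin k → (F.obj (op m) ⟶ (Formal.completion I G).obj (op m)) :=
      fun i => aInv (α.app (op m)) ((hK m).1 (hb i)) ((hK m).2 (hc i))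
    choose x hx using fun i => (isQuot_modPowπ I (m + 1) G).app_surjective U.2 ((β i).app U h)
    obtain ⟨z, hz⟩ := exists_pw_sec (U : X.Opens) x
    have hcomm : ∀ i l, baseApp X (U : X.Opens) (av l) • (β i).app U h =
        baseApp X (U : X.Opens) (av i) • (β l).app U h := by
      intro i l
      have e1 : (β l ≫ α.app (op m)) ≫ β i = Formal.smulMod A _ (av l) ≫ β i := by
        simp only [β]; rw [aInv_comp]
      have e2 : (β l ≫ α.app (op m)) ≫ β i = β l ≫ Formal.smulMod A _ (av i) := by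
        simp only [β]; rw [Category.assoc, comp_aInv]
      have h' := congr(($(e1.symm.trans e2)).app (U : X.Opens) h)
      exact ((β i).app_smul _ _).symm.trans h'
    have hf : (Formal.modPowπ I (m + 1) (pw k Q)).app U (f.app U z) = 0 := by
      refine modPowπ_pw_app_eq_zero fun l => ?_
      rw [app_comp_apply f, show f ≫ biproduct.π (fun _ : Fin k => Q) l =
        cokernel.π θ ≫ Formal.smulMod A Q (av l) by simp [f], smulMod_naturality, ← app_comp_apply,
        ← sub_zero ((Formal.smulMod A (pw k G) (av l)).app U z),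
        ← sub_self (θ.app U (x l)), sub_sub_eq_add_sub, add_sub_right_comm]
      rw [map_add, map_add, show (cokernel.π θ).app U (θ.app U (x l)) = 0 from
        congr(($(cokernel.condition θ)).app (U : X.Opens) (x l)), map_zero, add_zero]
      refine modPowπ_app_eq_zero_map _ (modPowπ_pw_app_eq_zero fun i => ?_)
      rw [map_sub, map_sub, smulMod_app, Scheme.Modules.Hom.app_smul, hz, app_comp_apply θ, hθπ,
        smulMod_app, Scheme.Modules.Hom.app_smul, Scheme.Modules.Hom.app_smul, hx, hx]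
      exact sub_eq_zero.2 (hcomm i l)
    obtain ⟨g, hg⟩ := hU (n + c₂) m le_rfl z hf
    obtain ⟨p, hp, -⟩ := pullback_sec_exists (sysMap F (Nat.le_add_right (n + c₂) c₁) ≫ γ (n + c₂))
      (ι₂ ≫ rho I G k (n + c₂)) U h g (pw_sec_ext _ fun i => by
      change (biproduct.π (fun _ : Fin k => Formal.modPow I (n + c₂ + 1) G) i).app U
          ((γ (n + c₂)).app U ((sysMap F (Nat.le_add_right (n + c₂) c₁)).app U h)) =
        (biproduct.π (fun _ : Fin k => Formal.modPow I (n + c₂ + 1) G) i).app U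
          ((rho I G k (n + c₂)).app U (ι₂.app U g))
      have hi : (Formal.modPowπ I (n + c₂ + 1) G).app U
          ((biproduct.π (fun _ : Fin k => G) i).app U (ι₂.app U g)) =
          (Formal.modPowπ I (n + c₂ + 1) G).app U (x i) := by
        rw [← hz i, ← sub_eq_zero, ← map_sub, ← map_sub]
        refine modPowπ_app_eq_zero_map _ ?_
        rw [map_sub, sub_eq_zero]
        exact hg
      rw [rho, biproductMap_π_app, hi, app_comp_apply]
      have e := congr(($(biproduct.lift_π
        (fun i => aInv (α.app (op (n + c₂))) ((hK (n + c₂)).1 (hb i)) ((hK (n + c₂)).2 (hc i))) i)).app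
        (U : X.Opens) ((sysMap F (Nat.le_add_right (n + c₂) c₁)).app U h))
      refine e.trans ?_
      rw [← congr(($(modPowπ_sysMap I G (Nat.le_add_right (n + c₂) c₁))).app (U : X.Opens) (x i))]
      refine Eq.trans ?_ (congrArg ((sysMap (Formal.completion I G) (Nat.le_add_right (n + c₂) c₁)).app U) (hx i)).symm
      exact (congr(($(aInv_naturality (α.app (op m)) (α.app (op (n + c₂)))
        (sysMap (Formal.completion I G) (Nat.le_add_right (n + c₂) c₁)) (sysMap F (Nat.le_add_right (n + c₂) c₁))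
        (α.naturality (homOfLE (Nat.le_add_right (n + c₂) c₁)).op).symm
        ((hK m).1 (hb i)) ((hK m).2 (hc i)) ((hK (n + c₂)).1 (hb i)) ((hK (n + c₂)).2 (hc i)))).app
        (U : X.Opens) h)).symm)
    exact ⟨p, hp⟩
  have hr : ∀ n, kernel.ι (q n) ≫ r n = 0 := fun n => by
    have := hPq n
    have := (hFc (n + c₂ + c₁)).1
    refine hom_eq_zero_of_cover _ fun x => ?_
    obtain ⟨U, hxU, hU⟩ := hc₂ x
    refine ⟨U, U.2, hxU, fun s => hU n (n + c₂) le_rfl _ (modPowπ_pw_app_eq_zero fun i => ?_)⟩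
    have h1 := congr((kernel.ι (q n) ≫ $(pullback.condition (f := sysMap F (Nat.le_add_right (n + c₂) c₁) ≫ γ (n + c₂))
      (g := ι₂ ≫ rho I G k (n + c₂)))).app (U : X.Opens) s)
    rw [show kernel.ι (q n) ≫ pullback.fst _ _ ≫ sysMap F (Nat.le_add_right (n + c₂) c₁) ≫ γ (n + c₂) = 0 by
      rw [← Category.assoc]; exact (congrArg (· ≫ _) (kernel.condition (q n))).trans zero_comp] at h1
    rw [← biproductMap_π_app (Formal.modPowπ I (n + c₂ + 1) G)]
    exact (congrArg ((biproduct.π (fun _ : Fin k => Formal.modPow I (n + c₂ + 1) G) i).app U) h1.symm).trans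
      (map_zero _)
  have hkill := fun n => (isQuot_modPowπ I (n + 1) G₂).killedBy
  choose δ hδ using fun n => haveI := hq n
    (hF.isQuot (show n ≤ n + c₂ + c₁ by omega)).desc (Abelian.epiDesc (q n) (r n) (hr n))
      (le_annHom_of_killedBy (hkill n) _)
  have hqδ : ∀ n, q n ≫ sysMap F (show n ≤ n + c₂ + c₁ by omega) ≫ δ n = r n := fun n => by
    have := hq n
    rw [hδ, Abelian.comp_epiDesc]
  -- naturality
  let Δ : F ⟶ Formal.completion I G₂ := NatTrans.ofOpSequence δ fun n => by
    have := hq (n + 1)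
    have := (hF.isQuot (show n + 1 ≤ n + 1 + c₂ + c₁ by omega)).epi
    let p : P (n + 1) ⟶ P n := pullback.lift
      (q (n + 1) ≫ sysMap F (show n + c₂ + c₁ ≤ n + 1 + c₂ + c₁ by omega)) (pullback.snd _ _) (by
        have h := congrArg (· ≫ pwTrans I G k (show n + c₂ ≤ n + 1 + c₂ by omega))
          (pullback.condition (f := sysMap F (Nat.le_add_right (n + 1 + c₂) c₁) ≫ γ (n + 1 + c₂))
            (g := ι₂ ≫ rho I G k (n + 1 + c₂)))
        simp only [Category.assoc, rho_pwTrans, γ, gamma_pwTrans] at h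
        rw [← h, Category.assoc, ← Category.assoc (sysMap F _), sysMap_comp,
          ← Category.assoc (sysMap F (Nat.le_add_right (n + 1 + c₂) c₁)), sysMap_comp])
    have hp1 : p ≫ q n = q (n + 1) ≫ sysMap F (show n + c₂ + c₁ ≤ n + 1 + c₂ + c₁ by omega) :=
      pullback.lift_fst _ _ _
    have hp2 : p ≫ r n = r (n + 1) ≫ sysMap (Formal.completion I G₂) (Nat.le_succ n) := by
      simp only [p, r]
      rw [pullback.lift_snd_assoc, Category.assoc]
      exact congrArg (pullback.snd _ _ ≫ ·) (modPowπ_sysMap_succ I G₂ n).symm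
    change sysMap F (Nat.le_succ n) ≫ δ n = δ (n + 1) ≫ sysMap (Formal.completion I G₂) (Nat.le_succ n)
    have hS : ∀ {i j l : ℕ} (h₁ : i ≤ j) (h₂ : j ≤ l) {W : X.Modules} (w : F.obj (op i) ⟶ W),
        sysMap F h₂ ≫ sysMap F h₁ ≫ w = sysMap F (h₁.trans h₂) ≫ w := fun h₁ h₂ _ w => by
      rw [← Category.assoc, sysMap_comp]
    refine (cancel_epi (sysMap F (show n + 1 ≤ n + 1 + c₂ + c₁ by omega))).1 ((cancel_epi (q (n + 1))).1 ?_)
    calc q (n + 1) ≫ sysMap F (show n + 1 ≤ n + 1 + c₂ + c₁ by omega) ≫ sysMap F (Nat.le_succ n) ≫ δ n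
        = q (n + 1) ≫ sysMap F (show n + c₂ + c₁ ≤ n + 1 + c₂ + c₁ by omega) ≫
            sysMap F (show n ≤ n + c₂ + c₁ by omega) ≫ δ n := by rw [hS, hS]
      _ = p ≫ q n ≫ sysMap F (show n ≤ n + c₂ + c₁ by omega) ≫ δ n := by rw [reassoc_of% hp1]
      _ = p ≫ r n := by rw [hqδ]
      _ = r (n + 1) ≫ sysMap (Formal.completion I G₂) (Nat.le_succ n) := hp2
      _ = _ := ((Category.assoc _ _ _).symm.trans ((Category.assoc _ _ _).symm.trans
          (congrArg (· ≫ sysMap (Formal.completion I G₂) (Nat.le_succ n))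
            ((Category.assoc _ _ _).trans (hqδ (n + 1)))))).symm
  have hΔ : ∀ n, Δ.app (op n) = δ n := fun n => rfl
  -- compatibility with `θ₂`
  have hαδ : ∀ n, Formal.modPowπ I (n + 1) G ≫ α.app (op n) ≫ δ n = θ₂ ≫ Formal.modPowπ I (n + 1) G₂ := fun n => by
    let l : G ⟶ P n := pullback.lift (Formal.modPowπ I (n + c₂ + c₁ + 1) G ≫ α.app (op (n + c₂ + c₁))) θ₂ (by
      rw [reassoc_of% hθ₂]
      refine (biproduct.hom_ext _ _ fun i => ?_)
      simp only [Category.assoc, γ, gamma, rho, biproduct.lift_π, biproduct.map_π]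
      rw [← Category.assoc θ, hθπ, ← smulMod_naturality]
      have hn := aInv_naturality (α.app (op (n + c₂ + c₁))) (α.app (op (n + c₂)))
        (sysMap (Formal.completion I G) (Nat.le_add_right (n + c₂) c₁)) (sysMap F (Nat.le_add_right (n + c₂) c₁))
        (α.naturality (homOfLE (Nat.le_add_right (n + c₂) c₁)).op).symm ((hK _).1 (hb i)) ((hK _).2 (hc i))
        ((hK _).1 (hb i)) ((hK _).2 (hc i))
      refine Eq.trans (congrArg (fun e => Formal.modPowπ I (n + c₂ + c₁ + 1) G ≫ e)
        ((congrArg (fun e => α.app (op (n + c₂ + c₁)) ≫ e) hn.symm).trans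
          ((Category.assoc _ _ _).symm.trans ((congrArg (fun e => e ≫ sysMap (Formal.completion I G)
            (Nat.le_add_right (n + c₂) c₁)) (comp_aInv _ _ _)).trans (smulMod_naturality _ _).symm)))) ?_
      exact (Category.assoc _ _ _).symm.trans (congrArg (fun e => e ≫ Formal.smulMod A _ (av i))
        (modPowπ_sysMap I G (Nat.le_add_right (n + c₂) c₁))))
    have h := congrArg (l ≫ ·) (hqδ n)
    simp only [q, r, l, pullback.lift_fst_assoc, pullback.lift_snd_assoc] at h
    refine Eq.trans ?_ h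
    calc Formal.modPowπ I (n + 1) G ≫ α.app (op n) ≫ δ n
        = (Formal.modPowπ I (n + c₂ + c₁ + 1) G ≫
            sysMap (Formal.completion I G) (show n ≤ n + c₂ + c₁ by omega)) ≫ α.app (op n) ≫ δ n :=
          (congrArg (fun e => e ≫ α.app (op n) ≫ δ n) (modPowπ_sysMap I G _)).symm
      _ = Formal.modPowπ I (n + c₂ + c₁ + 1) G ≫
            (sysMap (Formal.completion I G) (show n ≤ n + c₂ + c₁ by omega) ≫ α.app (op n)) ≫ δ n :=
          (Category.assoc _ _ _).trans (congrArg (fun e => Formal.modPowπ I (n + c₂ + c₁ + 1) G ≫ e)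
            (Category.assoc _ _ _).symm)
      _ = Formal.modPowπ I (n + c₂ + c₁ + 1) G ≫ α.app (op (n + c₂ + c₁)) ≫ sysMap F _ ≫ δ n :=
          congrArg (fun e => Formal.modPowπ I (n + c₂ + c₁ + 1) G ≫ e)
            ((congrArg (fun e => e ≫ δ n) (α.naturality (homOfLE (show n ≤ n + c₂ + c₁ by omega)).op)).trans
              (Category.assoc _ _ _))
  have hK₂ : ∀ n, K * K ≤ annHom (kernel.ι (Δ.app (op n))) ∧ K * K ≤ annHom (cokernel.π (Δ.app (op n))) := by
    intro n
    rw [hΔ]
    constructor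
    · obtain ⟨ρ', hρ'⟩ := (isQuot_modPowπ I (n + 1) G₂).desc (ι₂ ≫ rho I G k n) (by
        intro x hx
        rw [mem_annHom, ← smulMod_naturality]
        refine biproduct.hom_ext _ _ fun i => ?_
        rw [zero_comp, Category.assoc, ← smulMod_naturality, (isQuot_modPowπ I (n + 1) G).killedBy x hx,
          comp_zero, comp_zero])
      have hfac : δ n ≫ ρ' = γ n := by
        have := hq n
        have := (hF.isQuot (show n ≤ n + c₂ + c₁ by omega)).epi
        rw [← cancel_epi (sysMap F (show n ≤ n + c₂ + c₁ by omega)), ← cancel_epi (q n),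
          ← Category.assoc (sysMap F _), ← Category.assoc (q n), hqδ]
        have h := congrArg (· ≫ pwTrans I G k (show n ≤ n + c₂ by omega))
          (pullback.condition (f := sysMap F (Nat.le_add_right (n + c₂) c₁) ≫ γ (n + c₂))
            (g := ι₂ ≫ rho I G k (n + c₂)))
        simp only [Category.assoc, rho_pwTrans, γ, gamma_pwTrans] at h
        rw [← Category.assoc (sysMap F _), sysMap_comp] at h
        simp only [r, Category.assoc, hρ']
        exact h.symm
      refine hle _ fun i => ?_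
      have hk0 : kernel.ι (δ n) ≫ γ n = 0 := by rw [← hfac, kernel.condition_assoc, zero_comp]
      have h := congr($hk0 ≫ biproduct.π _ i)
      rw [Category.assoc, zero_comp, show γ n ≫ biproduct.π _ i = _ from biproduct.lift_π _ i] at h
      rw [mem_annHom, ← smulMod_naturality, ← aInv_comp (α.app (op n)) ((hK n).1 (hb i)) ((hK n).2 (hc i))]
      exact (Category.assoc _ _ _).symm.trans ((congrArg (fun e => e ≫ α.app (op n)) h).trans zero_comp)
    · refine hle _ fun l => ?_
      rw [mem_annHom]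
      refine (cancel_epi (Formal.modPowπ I (n + 1) G₂)).1 (Eq.trans ?_ comp_zero.symm)
      refine (Category.assoc _ _ _).symm.trans ((congrArg (fun e => e ≫ cokernel.π (δ n))
        (smulMod_naturality (Formal.modPowπ I (n + 1) G₂) (av l))).trans ((Category.assoc _ _ _).trans ?_))
      refine hG₂av l _ ?_
      refine (Category.assoc _ _ _).symm.trans ((congrArg (fun e => e ≫ cokernel.π (δ n)) (hαδ n).symm).trans ?_)
      exact (Category.assoc _ _ _).trans ((congrArg (Formal.modPowπ I (n + 1) G ≫ ·)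
        ((Category.assoc _ _ _).trans (congrArg (α.app (op n) ≫ ·) (cokernel.condition _)))).trans
          ((congrArg (Formal.modPowπ I (n + 1) G ≫ ·) comp_zero).trans comp_zero))
  obtain ⟨e, he⟩ := exists_completion_iso I (Lifting.obj Δ) F (Lifting.proj Δ)
    (Lifting.isQuot_proj Δ hK₂ hKK hG₂ hF hFc) (fun n => Lifting.proj_sysMap Δ (Nat.le_succ n))
  let toF : G ⟶ limit F := limit.lift F ⟨G, toCompletion I G ≫ α⟩
  let a : G ⟶ Lifting.obj Δ := pullback.lift toF θ₂ (limit.hom_ext fun ⟨n⟩ => by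
    rw [Category.assoc, limMap_π, Category.assoc, Lifting.toLim_π, ← Category.assoc, limit.lift_π]
    exact (Category.assoc _ _ _).trans (hαδ n))
  have haG : a ≫ Lifting.toG Δ = θ₂ := pullback.lift_snd _ _ _
  refine ⟨Lifting.obj Δ, a, e, Lifting.isCoh_obj Δ hK₂ hKK hG₂ hF hFc, ?_, ?_, fun n => ?_⟩
  · refine le_trans (le_trans (Ideal.pow_le_pow_right (show 2 * t + 1 + 1 ≤ 4 * t + 4 by omega)) hKK.ge)
      (hle _ fun i => ?_)
    have h0 : kernel.ι a ≫ θ = 0 := by rw [← hθ₂, ← haG, Category.assoc, kernel.condition_assoc, zero_comp]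
    rw [mem_annHom, ← smulMod_naturality, ← hθπ i, ← Category.assoc, h0, zero_comp]
  · rw [show 4 * t + 4 = (2 * t + 1 + 1) + (2 * t + 1 + 1) by omega, pow_add, ← hKK]
    refine Ideal.mul_le.2 fun u hu v hv => ?_
    have hu' : K * K ≤ annHom (Formal.smulMod A (Lifting.obj Δ) v ≫ cokernel.π a) := by
      refine hle _ fun l => ?_
      have h0 : (Formal.smulMod A (Lifting.obj Δ) (av l) ≫ Lifting.toG Δ) ≫ cokernel.π θ₂ = 0 := by
        rw [← smulMod_naturality, Category.assoc, hG₂av l _ (cokernel.condition θ₂), comp_zero]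
      obtain ⟨W', π', _, y, hy⟩ := (ShortComplex.exact_iff_exact_up_to_refinements _).1
        (ShortComplex.exact_of_g_is_cokernel (ShortComplex.mk θ₂ (cokernel.π θ₂) (cokernel.condition θ₂))
          (cokernelIsCokernel θ₂)) _ h0
      change π' ≫ Formal.smulMod A _ (av l) ≫ Lifting.toG Δ = y ≫ θ₂ at hy
      have hz : (π' ≫ Formal.smulMod A _ (av l) - y ≫ a) ≫ Lifting.toG Δ = 0 := by
        rw [Preadditive.sub_comp, Category.assoc, Category.assoc, haG, hy, sub_self]
      have hv' := smul_comp_eq_zero_of_mem (Lifting.toG Δ)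
        (Lifting.le_annHom_kernel Δ hK₂ hv) _ hz
      rw [Preadditive.sub_comp, sub_eq_zero] at hv'
      rw [mem_annHom, ← cancel_epi π', comp_zero, ← Category.assoc, ← Category.assoc, hv',
        Category.assoc y, show a ≫ Formal.smulMod A (Lifting.obj Δ) v = Formal.smulMod A G v ≫ a from
          smulMod_naturality a v, Category.assoc, Category.assoc, cokernel.condition, comp_zero, comp_zero]
    rw [mem_annHom, mul_comm, smulMod_mul, Category.assoc]
    exact (mem_annHom _ u).1 (hu' hu)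
  · rw [he]
    exact ((Category.assoc _ _ _).symm.trans ((congrArg (· ≫ limit.π F (op n))
      (pullback.lift_fst toF θ₂ _)).trans (limit.lift_π (⟨G, toCompletion I G ≫ α⟩ : Cone F) (op n)))).symm

end Groth.CohC3
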