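import Groth.Agent.CohC3.SuppHelpers
import Groth.Agent.S0787

/-! Extension by zero of formal modules with proper support along open immersions. -/

universe u

open CategoryTheory CategoryTheory.Limits AlgebraicGeometry Opposite TopologicalSpace

namespace Groth.CohC3

variable {A : Type u} [CommRing A] {I : Ideal A}

section Push

variable {X Y : Scheme.{u}} [X.Over (Spec (CommRingCat.of A))] [Y.Over (Spec (CommRingCat.of A))]
  {k : X ⟶ Y} [QuasiCompact k] [QuasiSeparated k]
  (hk : k ≫ (Y ↘ Spec (CommRingCat.of A)) = X ↘ Spec (CommRingCat.of A))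

include hk in
/-- Direct image preserves quotients by powers of `I`, where it has affine preimages or vanishing sections. -/
theorem isQuot_pushforward {n : ℕ} {M N : X.Modules} [M.IsQuasicoherent] {p : M ⟶ N}
    (hp : IsQuot (I ^ n) p)
    (hgood : ∀ y : Y, ∃ U : Y.Opens, IsAffineOpen U ∧ y ∈ U ∧
      (IsAffineOpen (k ⁻¹ᵁ U) ∨ (Subsingleton Γ(M, k ⁻¹ᵁ U) ∧ Subsingleton Γ(N, k ⁻¹ᵁ U)))) :
    IsQuot (I ^ n) ((Scheme.Modules.pushforward k).map p) := by
  have hN : N.IsQuasicoherent := isQCoh_of_isQuot hp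
  set H := (Scheme.Modules.pushforward k).obj M with hH'
  set H' := (Scheme.Modules.pushforward k).obj N with hN'
  have : H.IsQuasicoherent := QCohMod.isQCoh_pushforward (M := M) k
  have : H'.IsQuasicoherent := QCohMod.isQCoh_pushforward (M := N) k
  let φ : H ⟶ H' := (Scheme.Modules.pushforward k).map p
  have hann : I ^ n ≤ annHom φ := fun a ha => by
    rw [mem_annHom]
    change Formal.smulMod A ((Scheme.Modules.pushforward k).obj M) a ≫ (Scheme.Modules.pushforward k).map p = 0
    rw [← pushforward_map_smulMod hk, ← Functor.map_comp, hp.le_ann ha, Functor.map_zero]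
  obtain ⟨c, hc⟩ := (isQuot_modPowπ I n H).desc φ hann
  have : (Formal.modPow I n H).IsQuasicoherent := isQCoh_of_isQuot (isQuot_modPowπ I n H)
  have : Epi c := epi_of_cover _ fun y => by
    obtain ⟨U, hU, hy, hg⟩ := hgood y
    refine ⟨U, hU, hy, fun z => ?_⟩
    rcases hg with hg | ⟨-, hs⟩
    · obtain ⟨m, hm⟩ := hp.app_surjective hg z
      exact ⟨(Formal.modPowπ I n H).app U m, (congr(($hc).app U m)).trans hm⟩
    · exact ⟨0, @Subsingleton.elim _ hs _ _⟩
  have : Mono c := by
    refine Preadditive.mono_of_kernel_zero (hom_eq_zero_of_cover _ fun y => ?_)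
    obtain ⟨U, hU, hy, hg⟩ := hgood y
    refine ⟨U, hU, hy, fun s => ?_⟩
    obtain ⟨m, hm⟩ := (isQuot_modPowπ I n H).app_surjective hU ((kernel.ι c).app U s)
    refine hm.symm.trans ?_
    rcases hg with hg | ⟨hs, -⟩
    swap
    · rw [show m = 0 from @Subsingleton.elim _ hs _ _, map_zero]
    have h0 : p.app (k ⁻¹ᵁ U) m = 0 := by
      refine (congr(($hc).app U m)).symm.trans ?_
      refine (congrArg (fun t => c.app U t) hm).trans ?_
      exact congr(($(kernel.condition c)).app U s)
    refine ((isQuot_modPowπ I n H).app_eq_zero_iff m hU).2 ?_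
    refine Submodule.smul_induction_on ((hp.app_eq_zero_iff m hg).1 h0) (fun r hr t _ => ?_) fun _ _ => add_mem
    induction hr using Submodule.span_induction generalizing t with
    | mem b hb =>
      obtain ⟨a, ha, rfl⟩ := hb
      rw [← baseApp_preimage hk]
      exact Submodule.smul_mem_smul (r := baseApp Y U a) (n := (show Γ(H, U) from t))
        (Ideal.mem_map_of_mem _ ha) trivial
    | zero => rw [zero_smul]; exact zero_mem _
    | add a b _ _ ha hb => rw [add_smul]; exact add_mem (ha t trivial) (hb t trivial)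
    | smul a b _ hb => rw [smul_eq_mul, mul_comm, mul_smul]; exact hb _ trivial
  have : IsIso c := isIso_of_mono_of_epi _
  have h := (isQuot_modPowπ I n H).comp_iso c
  rw [hc] at h
  exact h

end Push

/-- Completion commutes with pullback. -/
theorem nonempty_completion_pullback {X Y : Scheme.{u}} [X.Over (Spec (CommRingCat.of A))]
    [Y.Over (Spec (CommRingCat.of A))] (f : X ⟶ Y)
    (hf : f ≫ (Y ↘ Spec (CommRingCat.of A)) = X ↘ Spec (CommRingCat.of A)) (M : Y.Modules) :
    Nonempty (Formal.completion I ((Scheme.Modules.pullback f).obj M) ≅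
      Formal.completion I M ⋙ Scheme.Modules.pullback f) :=
  nonempty_completion_iso I _ _ (fun n => (Scheme.Modules.pullback f).map (Formal.modPowπ I (n + 1) M))
    (fun n => (isQuot_modPowπ I (n + 1) M).map_adj (Scheme.Modules.pullbackPushforwardAdjunction f) hf)
    fun n => ((Scheme.Modules.pullback f).map_comp _ _).symm.trans
      (congrArg (Scheme.Modules.pullback f).map (modPowπ_sysMap_succ I M n))

variable [IsNoetherianRing A] [IsAdicComplete I A]

/-- The support of a coherent module on a proper scheme meets any closed set only where its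
reduction does. -/
theorem disjoint_support_of_modPow {P : Scheme.{u}} [P.Over (Spec (CommRingCat.of A))]
    [IsProper (P ↘ Spec (CommRingCat.of A))] {M : P.Modules} (hM : Coh.IsCoh M) {C : Set P} (hC : IsClosed C)
    (h : ∀ x ∈ C, x ∉ CohB1.support (Formal.modPow I 1 M)) : ∀ x ∈ C, x ∉ CohB1.support M := by
  let K : P.IdealSheafData := Scheme.IdealSheafData.vanishingIdeal ⟨C, hC⟩
  let i := K.subschemeι
  have hrange : Set.range i = C := by
    rw [Scheme.IdealSheafData.range_subschemeι, Scheme.IdealSheafData.coe_support_vanishingIdeal]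
    rfl
  letI : K.subscheme.Over (Spec (CommRingCat.of A)) := ⟨i ≫ (P ↘ Spec (CommRingCat.of A))⟩
  haveI : IsProper (K.subscheme ↘ Spec (CommRingCat.of A)) :=
    inferInstanceAs (IsProper (i ≫ (P ↘ Spec (CommRingCat.of A))))
  haveI := isNoetherian_of_proper A K.subscheme
  haveI := isNoetherian_of_proper A P
  have := hM.1
  set N := (Scheme.Modules.pullback i).obj M
  have hN : Coh.IsCoh N := ⟨QCohMod.isQCoh_pullback_obj i M, QCohMod.isFT_pullback i M hM.2⟩
  have := hN.1
  have hq : IsQuot (I ^ 1) ((Scheme.Modules.pullback i).map (Formal.modPowπ I 1 M)) :=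
    (isQuot_modPowπ I 1 M).map_adj (Scheme.Modules.pullbackPushforwardAdjunction i) rfl
  have hM1 : Coh.IsCoh (Formal.modPow I 1 M) := isCoh_modPow' hM I 1
  have hempty : CohB1.support ((Scheme.Modules.pullback i).obj (Formal.modPow I 1 M)) = ∅ := by
    have := hM1.1
    rw [QCohMod.support_pullback i _ hM1.2, Set.eq_empty_iff_forall_notMem]
    exact fun z hz => h (i z) (hrange ▸ Set.mem_range_self z) hz
  have hz : IsZero N := sections_eq_zero_of_top_le_smul (I := I) hN fun z => by
    obtain ⟨V, hV, hzV⟩ := QCohMod.exists_affine_mem z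
    refine ⟨V, hV, hzV, fun m _ => ?_⟩
    have := subsingleton_sections_of_disjoint ((Scheme.Modules.pullback i).obj (Formal.modPow I 1 M)) V
      fun y _ => by rw [hempty]; exact id
    have h1 := (hq.app_eq_zero_iff m hV).1 (Subsingleton.elim _ _)
    rwa [pow_one] at h1
  intro x hx hxM
  rw [← hrange] at hx
  obtain ⟨z, rfl⟩ := hx
  have h2 : z ∈ CohB1.support N := by
    rw [QCohMod.support_pullback i M hM.2]; exact hxM
  rw [(QCohMod.isZero_iff_support_eq_empty N).1 hz] at h2
  exact h2

/-- A formal module with support in a closed set proper over the base, on an open subscheme of a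
proper scheme with an ample module, is algebraizable. -/
theorem exists_algebraization_of_open {X P : Scheme.{u}} [X.Over (Spec (CommRingCat.of A))]
    [P.Over (Spec (CommRingCat.of A))] [IsProper (P ↘ Spec (CommRingCat.of A))]
    [LocallyOfFiniteType (X ↘ Spec (CommRingCat.of A))]
    (k : X ⟶ P) [IsOpenImmersion k] (hk : k ≫ (P ↘ Spec (CommRingCat.of A)) = X ↘ Spec (CommRingCat.of A))
    (hP : Algebraizes A I P) {G : ℕᵒᵖ ⥤ X.Modules} (hG : Formal.IsCohFormal I G)
    (hG₀ : PSupp (X ↘ Spec (CommRingCat.of A)) (G.obj (op 0))) :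
    ∃ M : X.Modules, Coh.IsCoh M ∧ PSupp (X ↘ Spec (CommRingCat.of A)) M ∧
      Nonempty (Formal.completion I M ≅ G) := by
  haveI := isNoetherian_of_proper A P
  haveI : IsLocallyNoetherian X := LocallyOfFiniteType.isLocallyNoetherian k
  set T := CohB1.support (G.obj (op 0))
  have hT : ClSub.IsProperOver (X ↘ Spec (CommRingCat.of A)) T := hG₀.isProperOver (hG.1 0)
  have hs := isSys_of_isCohFormal hG
  have hsupp := support_sys_subset hs hG.1
  obtain ⟨hkT, -⟩ := Groth.Agent.S0788.result (X ↘ Spec (CommRingCat.of A)) (P ↘ Spec (CommRingCat.of A)) k hk T hT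
  have hgood : ∀ y : P, ∃ U : P.Opens, IsAffineOpen U ∧ y ∈ U ∧
      (IsAffineOpen (k ⁻¹ᵁ U) ∨ ∀ n, Subsingleton Γ(G.obj (op n), k ⁻¹ᵁ U)) := fun y => by
    by_cases hy : y ∈ k '' T
    · obtain ⟨_, ⟨U, hU, rfl⟩, hyU, hUk⟩ := P.isBasis_affineOpens.exists_subset_of_mem_open
        (show y ∈ k.opensRange by obtain ⟨x, -, rfl⟩ := hy; exact ⟨x, rfl⟩) k.opensRange.2
      exact ⟨U, hU, hyU, Or.inl (hU.preimage_of_isOpenImmersion k hUk)⟩
    · obtain ⟨_, ⟨U, hU, rfl⟩, hyU, hUT⟩ := P.isBasis_affineOpens.exists_subset_of_mem_open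
        (show y ∈ (k '' T)ᶜ from hy) hkT.isOpen_compl
      exact ⟨U, hU, hyU, Or.inr fun n => subsingleton_sections_of_disjoint _ _ fun x hx hxs =>
        hUT hx ⟨x, hsupp n hxs, rfl⟩⟩
  -- the direct images
  let H := G ⋙ Scheme.Modules.pushforward k
  have hHc : ∀ n, Coh.IsCoh (H.obj (op n)) := fun n => by
    have hcn := hG.1 n
    have := hcn.1
    obtain ⟨hcl, hpr⟩ := isProperOver_mono hT (hsupp n) (isClosed_support_of_isCoh _ hcn)
    let J := QCohMod.annIdeal (G.obj (op n)) hcn.2
    let i := J.subschemeι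
    haveI : IsProper (i ≫ (X ↘ Spec (CommRingCat.of A))) :=
      (Groth.Agent.S0787.result (X ↘ Spec (CommRingCat.of A)) _ hcl).2.1 ⟨hcl, hpr⟩ _ i inferInstance
        (by rw [Scheme.IdealSheafData.range_subschemeι, QCohMod.support_annIdeal])
    letI : J.subscheme.Over (Spec (CommRingCat.of A)) := ⟨i ≫ (X ↘ Spec (CommRingCat.of A))⟩
    have hik : (i ≫ k) ≫ (P ↘ Spec (CommRingCat.of A)) = J.subscheme ↘ Spec (CommRingCat.of A) := by
      rw [Category.assoc, hk]
      rfl
    haveI : IsProper ((i ≫ k) ≫ (P ↘ Spec (CommRingCat.of A))) := by rw [Category.assoc, hk]; infer_instance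
    haveI : IsProper (i ≫ k) := IsProper.of_comp (i ≫ k) (P ↘ Spec (CommRingCat.of A))
    haveI : IsIso ((Scheme.Modules.pullbackPushforwardAdjunction i).unit.app (G.obj (op n))) :=
      (QCohMod.isIso_unit_closedImmersion_iff i (G.obj (op n))).2 (by
        rw [Scheme.IdealSheafData.ker_subschemeι]
        exact fun U a ha m => Module.mem_annihilator.1 ha m)
    have h0 : Coh.IsCoh ((Scheme.Modules.pullback i).obj (G.obj (op n))) :=
      ⟨QCohMod.isQCoh_pullback_obj i _, QCohMod.isFT_pullback i _ hcn.2⟩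
    have h1 := isCoh_pushforward hik h0
    let e : (Scheme.Modules.pushforward (i ≫ k)).obj ((Scheme.Modules.pullback i).obj (G.obj (op n))) ≅ H.obj (op n) :=
      (Scheme.Modules.pushforwardComp i k).symm.app _ ≪≫ (Scheme.Modules.pushforward k).mapIso
        (asIso ((Scheme.Modules.pullbackPushforwardAdjunction i).unit.app (G.obj (op n)))).symm
    exact ⟨(QCohMod.isQCoh_iff_of_iso e).1 h1.1,
      have := h1.1
      have : (H.obj (op n)).IsQuasicoherent := (QCohMod.isQCoh_iff_of_iso e).1 h1.1
      QCohMod.isFT_of_epi e.hom h1.2⟩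
  have hq : ∀ n, IsQuot (I ^ (n + 1)) ((Scheme.Modules.pushforward k).map (sysMap G (Nat.le_succ n))) := fun n => by
    have := (hG.1 (n + 1)).1
    refine isQuot_pushforward hk (hs.isQuot_succ n) fun y => ?_
    obtain ⟨U, hU, hy, hg⟩ := hgood y
    exact ⟨U, hU, hy, hg.imp_right fun h => ⟨h (n + 1), h n⟩⟩
  have hH : Formal.IsCohFormal I H := ⟨hHc, fun n a ha => by
    change Formal.smulMod A ((Scheme.Modules.pushforward k).obj (G.obj (op n))) a = 0
    rw [← pushforward_map_smulMod hk, hs.killed n a ha, Functor.map_zero], fun n => (hq n).isIso_desc⟩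
  obtain ⟨F, hF, ⟨e⟩⟩ := hP H hH
  have := hF.1
  -- the support lies in the open
  have hFk : CohB1.support F ⊆ Set.range k := by
    intro x hx
    by_contra hxk
    refine disjoint_support_of_modPow (I := I) hF k.opensRange.2.isClosed_compl (fun y hy hys => hy ?_) x hxk hx
    have h1 : CohB1.support (Formal.modPow I 1 F) ⊆ CohB1.support (H.obj (op 0)) :=
      (QCohMod.support_eq_of_iso (e.app (op 0))).le
    exact Set.image_subset_range k T (support_pushforward_subset k (G.obj (op 0)) subset_rfl hkT (h1 hys))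
  let M := (Scheme.Modules.pullback k).obj F
  have hM : Coh.IsCoh M := ⟨QCohMod.isQCoh_pullback_obj k F, QCohMod.isFT_pullback k F hF.2⟩
  obtain ⟨c⟩ := nonempty_completion_pullback (I := I) k hk F
  let η := Functor.whiskerLeft G (Scheme.Modules.pullbackPushforwardAdjunction k).counit
  refine ⟨M, hM, ?_, ⟨c ≪≫ Functor.isoWhiskerRight e (Scheme.Modules.pullback k) ≪≫ asIso η⟩⟩
  -- properness of the support
  refine ⟨k ⁻¹' CohB1.support F, ?_, (QCohMod.support_pullback k F hF.2).le⟩
  have hcF : IsClosed (CohB1.support F) := isClosed_support_of_isCoh F hF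
  let J := Scheme.IdealSheafData.vanishingIdeal (⟨_, hcF⟩ : Closeds P)
  have hr : Set.range J.subschemeι = CohB1.support F := by
    rw [Scheme.IdealSheafData.range_subschemeι, Scheme.IdealSheafData.coe_support_vanishingIdeal]
    rfl
  let i := IsOpenImmersion.lift k J.subschemeι (hr.le.trans hFk)
  have hi : i ≫ k = J.subschemeι := IsOpenImmersion.lift_fac _ _ _
  haveI : IsClosedImmersion (i ≫ k) := by rw [hi]; infer_instance
  haveI : IsClosedImmersion i := IsClosedImmersion.of_comp i k
  refine (Groth.Agent.S0787.result (X ↘ Spec (CommRingCat.of A)) _ (hcF.preimage k.continuous)).1.2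
    ⟨_, i, inferInstance, ?_, ?_⟩
  · refine Set.ext fun x => ⟨?_, fun hx => ?_⟩
    · rintro ⟨z, rfl⟩
      exact hr.le ⟨z, congr(($hi).base z).symm⟩
    · obtain ⟨z, hz⟩ := hr.ge hx
      exact ⟨z, k.isOpenEmbedding.injective ((congr(($hi).base z)).trans hz)⟩
  · rw [← hk, ← Category.assoc, hi]
    infer_instance

end Groth.CohC3
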