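import Groth.Agent.CohC3.FormalModule

/-! Kernel and cokernel of a map of formal modules, read off from the completion. -/

universe u v w

namespace Groth.CohC3

namespace FMod

namespace Gens

variable {R : Type u} [CommRing R] {J : Ideal R}

local notation "R̂" => AdicCompletion J R

/-- Elements with the same image modulo `J^n` differ by an element of `J^n R̂`. -/
lemma sub_algebraMap_mem [IsNoetherianRing R] (n : ℕ) (x : R̂) (r : R)
    (h : AdicCompletion.evalₐ J n x = Ideal.Quotient.mk (J ^ n) r) :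
    x - algebraMap R R̂ r ∈ (J ^ n).map (algebraMap R R̂) := by
  have h1 : x - algebraMap R R̂ r ∈ (J ^ n • ⊤ : Submodule R R̂) := by
    rw [AdicCompletion.pow_smul_top_eq_ker_eval (IsNoetherian.noetherian _), LinearMap.mem_ker,
      ← AdicCompletion.factor_evalₐ_eq_eval _ _ (show J ^ n ≤ J ^ n • (⊤ : Ideal R) by simp), map_sub,
      AlgHom.commutes, h, show algebraMap R _ r = Ideal.Quotient.mk (J ^ n) r from rfl, sub_self, map_zero]
  refine Submodule.smul_induction_on h1 (fun c hc y _ => ?_) fun _ _ => add_mem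
  rw [Algebra.smul_def]
  exact Ideal.mul_mem_right _ _ (Ideal.mem_map_of_mem _ hc)

variable {G : ℕ → Type v} [∀ l, AddCommGroup (G l)] [∀ l, Module R (G l)] {S : FMod J G} {p : ℕ}
  (𝒢 : S.Gens p)

lemma val_eq_zero_of_mem (l : ℕ) (v : Fin p → R̂) (hv : ∀ a, v a ∈ (J ^ (l + 1)).map (algebraMap R R̂)) :
    𝒢.val l v = 0 := by
  rw [val_eq 𝒢 l v 0 fun a => ?_]
  · simp
  have : ((J ^ (l + 1)).map (algebraMap R R̂)).map (AdicCompletion.evalₐ J (l + 1)).toRingHom = ⊥ := by
    rw [Ideal.map_map, show (AdicCompletion.evalₐ J (l + 1)).toRingHom.comp (algebraMap R R̂) =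
      Ideal.Quotient.mk (J ^ (l + 1)) from AlgHom.comp_algebraMap _]
    exact Ideal.map_quotient_self _
  have h := Ideal.mem_map_of_mem (AdicCompletion.evalₐ J (l + 1)).toRingHom (hv a)
  rw [this] at h
  simpa using (Ideal.mem_bot.1 h).symm

/-- Combinations vanishing at level `n` are, modulo `J^(n+1)`, combinations vanishing at every level. -/
lemma exists_sub_mem_of_val_eq_zero [IsNoetherianRing R] (n : ℕ) (w : Fin p → R̂) (hw : 𝒢.val n w = 0) :
    ∃ z : Fin p → R̂, (∀ l, 𝒢.val l z = 0) ∧ ∀ a, w a - z a ∈ (J ^ (n + 1)).map (algebraMap R R̂) := by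
  obtain ⟨w', hw', hw''⟩ := 𝒢.exists_val_eq n (fun l => 𝒢.val l w) (fun l _ => tr_val 𝒢 _ w) 0
    (by simp [hw])
  refine ⟨w - w', fun l => ?_, fun a => ?_⟩
  · rw [← tr_val 𝒢 (Nat.le_add_left l n), val_sub, hw' (n + l) (Nat.le_add_right n l), sub_self, map_zero]
  · rw [Pi.sub_apply, sub_sub_cancel]
    simpa using sub_algebraMap_mem (n + 1) (w' a) 0 (hw'' a)

variable {H : ℕ → Type w} [∀ l, AddCommGroup (H l)] [∀ l, Module R (H l)] {T : FMod J H} {q : ℕ}
  (ℋ : T.Gens q) (φ : ∀ l, G l →ₗ[R] H l) (m : Fin p → Fin q → AdicCompletion J R)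
  (ha : ∀ l c, φ l (𝒢.g l c) = ℋ.val l (m c))

lemma val_sum {ι : Type*} (s : Finset ι) (l : ℕ) (v : ι → Fin q → R̂) :
    ℋ.val l (∑ i ∈ s, v i) = ∑ i ∈ s, ℋ.val l (v i) :=
  map_sum (AddMonoidHom.mk' (ℋ.val l) (ℋ.val_add l)) _ _

lemma sum_smul_smul_single {S' : Type*} [CommRing S'] {q : ℕ} (c : S') (u : Fin q → S') :
    ∑ b, u b • (c • (Pi.single b 1 : Fin q → S')) = c • u := by
  simp only [smul_comm _ c, ← Finset.smul_sum, ← pi_eq_sum_univ' u]

include ha in
lemma map_val (l : ℕ) (v : Fin p → R̂) : φ l (𝒢.val l v) = ℋ.val l (∑ c, v c • m c) := by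
  rw [val_sum, val, map_sum]
  exact Finset.sum_congr rfl fun c _ => by rw [map_smul, ha, val_smul]

include ha in
/-- Generators of the target in the image up to `r` put `r` times everything into the image. -/
theorem exists_map_eq_smul (r : R)
    (hc : ∀ b, ∃ σ : Fin p → R̂, ∀ l, ℋ.val l (algebraMap R R̂ r • Pi.single b 1 - ∑ c, σ c • m c) = 0)
    (l : ℕ) (y : H l) : ∃ x, φ l x = r • y := by
  choose σ hσ using hc
  suffices hy : r • y ∈ LinearMap.range (φ l) from hy
  obtain ⟨v, rfl⟩ := ℋ.val_surjective l y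
  rw [← val_algebraMap_smul]
  refine ⟨𝒢.val l (∑ b, v b • σ b), ?_⟩
  rw [map_val 𝒢 ℋ φ m ha, ← sub_eq_zero, ← val_sub]
  have e : algebraMap R R̂ r • v =
      ∑ b, v b • (algebraMap R R̂ r • Pi.single b 1) := (sum_smul_smul_single _ v).symm
  have e' : ∑ c, (∑ b, v b • σ b) c • m c = ∑ b, v b • ∑ c, σ b c • m c := by
    simp only [Finset.sum_apply, Pi.smul_apply, Finset.sum_smul, Finset.smul_sum, smul_eq_mul, mul_smul]
    exact Finset.sum_comm
  rw [e, e', ← Finset.sum_sub_distrib, val_sum]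
  refine Finset.sum_eq_zero fun b _ => ?_
  rw [← smul_sub, val_smul, ← neg_sub, val_neg, hσ, neg_zero, smul_zero]

include ha in
/-- A killer of the cokernel and of the kernel of the limit kills the kernels at finite levels. -/
theorem smul_eq_zero_of_map_eq_zero [IsNoetherianRing R] (r : R)
    (hc : ∀ b, ∃ σ : Fin p → R̂, ∀ l, ℋ.val l (algebraMap R R̂ r • Pi.single b 1 - ∑ c, σ c • m c) = 0)
    (hk : ∀ v : Fin p → R̂, (∀ l, ℋ.val l (∑ c, v c • m c) = 0) → ∀ l, r • 𝒢.val l v = 0)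
    (n : ℕ) (x : G n) (hx : φ n x = 0) : (r * r) • x = 0 := by
  obtain ⟨v, rfl⟩ := 𝒢.val_surjective n x
  choose σ hσ using hc
  rw [map_val 𝒢 ℋ φ m ha] at hx
  obtain ⟨z, hz, hdiff⟩ := ℋ.exists_sub_mem_of_val_eq_zero n _ hx
  let w : Fin p → R̂ := ∑ b, ((∑ c, v c • m c) b - z b) • σ b
  have hw : 𝒢.val n w = 0 := val_eq_zero_of_mem 𝒢 n w fun c => by
    rw [show w c = ∑ b, ((∑ c, v c • m c) b - z b) * σ b c from Finset.sum_apply c _ _]
    exact Ideal.sum_mem _ fun b _ => Ideal.mul_mem_right _ _ (hdiff b)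
  have hlim : ∀ l, ℋ.val l (∑ c, (algebraMap R R̂ r • v - w) c • m c) = 0 := fun l => by
    have e : ∑ c, (algebraMap R R̂ r • v - w) c • m c = algebraMap R R̂ r • z +
        ∑ b, ((∑ c, v c • m c) b - z b) • (algebraMap R R̂ r • Pi.single b 1 - ∑ c, σ b c • m c) := by
      have e1 : ∑ b, ((∑ c, v c • m c) b - z b) • (algebraMap R R̂ r • (Pi.single b 1 : Fin q → R̂)) =
          algebraMap R R̂ r • (∑ c, v c • m c) - algebraMap R R̂ r • z := by
        rw [← smul_sub]; exact sum_smul_smul_single _ (fun b => (∑ c, v c • m c) b - z b)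
      have e2 : ∑ c, w c • m c = ∑ b, ((∑ c, v c • m c) b - z b) • ∑ c, σ b c • m c := by
        simp only [w, Finset.sum_apply, Pi.smul_apply, Finset.sum_smul, Finset.smul_sum, smul_eq_mul, mul_smul]
        exact Finset.sum_comm
      have e3 : ∑ c, (algebraMap R R̂ r • v - w) c • m c =
          algebraMap R R̂ r • (∑ c, v c • m c) - ∑ c, w c • m c := by
        simp only [Pi.sub_apply, Pi.smul_apply, sub_smul, Finset.sum_sub_distrib, Finset.smul_sum, smul_eq_mul,
          mul_smul]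
      rw [e3, e2]
      simp only [smul_sub (_ - _), Finset.sum_sub_distrib, e1]
      abel
    rw [e, val_add, val_algebraMap_smul, hz l, smul_zero, zero_add, val_sum]
    exact Finset.sum_eq_zero fun b _ => by rw [val_smul, hσ, smul_zero]
  have h0 := hk _ hlim n
  rwa [val_sub, hw, sub_zero, val_algebraMap_smul, smul_smul] at h0

end Gens

end FMod

end Groth.CohC3
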