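import Groth.Agent.CohC3.Tricky
import Groth.Agent.CohC3.LimitSys
import Groth.Agent.CohC3.ProLift
import Groth.Agent.CohC3.FormalModuleKill
import Groth.Prelude.Def_Formal2

/-! Kernels of maps of coherent formal modules. -/

universe u v w

open CategoryTheory CategoryTheory.Limits AlgebraicGeometry Opposite TopologicalSpace

namespace Groth.CohC3

namespace FMod

variable {R : Type u} [CommRing R] {J : Ideal R} {G : ℕ → Type v} [∀ l, AddCommGroup (G l)]
  [∀ l, Module R (G l)] (S : FMod J G) {H : ℕ → Type w} [∀ l, AddCommGroup (H l)] [∀ l, Module R (H l)]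
  (φ : ∀ l, G l →ₗ[R] H l)

/-- The stable image at level `j` of the kernels. -/
noncomputable def stImage (j : ℕ) : Submodule R (G j) :=
  ⨅ d : ℕ, (LinearMap.ker (φ (j + d))).map (S.tr (Nat.le_add_right j d))

/-- Stabilization of the images of the kernels, with an Artin–Rees bound. -/
theorem exists_stab [IsNoetherianRing R] [Module.Finite R (G 0)] (T : FMod J H) [Module.Finite R (H 0)]
    (hφ : ∀ {i j : ℕ} (h : i ≤ j) x, φ i (S.tr h x) = T.tr h (φ j x)) :
    ∃ c, (∀ j x, φ (j + c) x = 0 → S.tr (Nat.le_add_right j c) x ∈ S.stImage φ j) ∧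
      ∀ n j (h : n + c ≤ j) y, y ∈ S.stImage φ j → S.tr h y = 0 → y ∈ J ^ (n + 1) • S.stImage φ j := by
  classical
  obtain ⟨p, ⟨𝒢⟩⟩ := S.exists_gens
  obtain ⟨q, ⟨ℋ⟩⟩ := T.exists_gens
  have : IsNoetherianRing (AdicCompletion J R) :=
    Groth.Calg1.isNoetherianRing_adicCompletion J (IsNoetherian.noetherian J)
  have hex : ∀ c, ∃ v : Fin q → AdicCompletion J R, ∀ l, φ l (𝒢.g l c) = ℋ.val l v := fun c => by
    obtain ⟨r, hr⟩ := (Submodule.mem_span_range_iff_exists_fun R).1
      (show φ 0 (𝒢.g 0 c) ∈ Submodule.span R (Set.range (ℋ.g 0)) by rw [ℋ.span]; trivial)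
    obtain ⟨v, hv, -⟩ := ℋ.exists_val_eq 0 (fun l => φ l (𝒢.g l c))
      (fun l _ => by rw [← hφ, 𝒢.compat]) r hr
    exact ⟨v, fun l => (hv l (Nat.zero_le l)).symm⟩
  choose a ha using hex
  have ha' : ∀ l c, φ l (𝒢.g l c) = ℋ.val l (a c) := fun l c => ha c l
  let JJ := J.map (algebraMap R (AdicCompletion J R))
  let Zt : Submodule (AdicCompletion J R) (Fin q → AdicCompletion J R) :=
    { carrier := {v | ∀ l, ℋ.val l v = 0}
      add_mem' := fun hv hw l => by rw [ℋ.val_add, hv, hw, add_zero]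
      zero_mem' := fun l => ℋ.val_zero l
      smul_mem' := fun x v hv l => by rw [ℋ.val_smul, hv, smul_zero] }
  let L := Fintype.linearCombination (AdicCompletion J R) a
  have hL : ∀ l v, φ l (𝒢.val l v) = ℋ.val l (L v) := fun l v => by
    rw [Gens.map_val 𝒢 ℋ φ a ha', Fintype.linearCombination_apply]
  let P' : Submodule (AdicCompletion J R) (Fin p → AdicCompletion J R) := Zt.comap L
  -- `P'` maps into all stable images
  have hP' : ∀ v ∈ P', ∀ j, 𝒢.val j v ∈ S.stImage φ j := fun v hv j =>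
    (Submodule.mem_iInf _).2 fun d =>
      ⟨𝒢.val (j + d) v, LinearMap.mem_ker.2 ((hL _ v).trans (hv _)), 𝒢.tr_val _ v⟩
  -- Artin–Rees
  obtain ⟨k₁, hk₁⟩ := Ideal.exists_pow_inf_eq_pow_smul JJ (LinearMap.range L ⊔ Zt)
  obtain ⟨k₂, hk₂⟩ := Ideal.exists_pow_inf_eq_pow_smul JJ P'
  have hpi : ∀ {r : ℕ} (N : ℕ) (w : Fin r → AdicCompletion J R), (∀ i, w i ∈ (J ^ N).map (algebraMap R (AdicCompletion J R))) →
      w ∈ JJ ^ N • (⊤ : Submodule (AdicCompletion J R) (Fin r → AdicCompletion J R)) := fun N w hw => by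
    rw [pi_eq_sum_univ' w]
    refine Submodule.sum_mem _ fun i _ => Submodule.smul_mem_smul ?_ trivial
    have := hw i
    rwa [Ideal.map_pow] at this
  -- lifting elements of the kernels
  have hlift : ∀ j x, φ (j + k₁) x = 0 → ∃ v ∈ P', 𝒢.val j v = S.tr (Nat.le_add_right j k₁) x := by
    intro j x hx
    obtain ⟨v, rfl⟩ := 𝒢.val_surjective (j + k₁) x
    rw [hL] at hx
    obtain ⟨z, hz, hdiff⟩ := ℋ.exists_sub_mem_of_val_eq_zero (j + k₁) _ hx
    have h1 : L v - z ∈ JJ ^ (j + k₁ + 1) • ⊤ ⊓ (LinearMap.range L ⊔ Zt) :=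
      ⟨hpi _ _ hdiff, sub_mem (Submodule.mem_sup_left ⟨v, rfl⟩) (Submodule.mem_sup_right hz)⟩
    rw [hk₁ (j + k₁ + 1) (by omega), show j + k₁ + 1 - k₁ = j + 1 by omega] at h1
    have h2 : L v - z ∈ JJ ^ (j + 1) • (LinearMap.range L ⊔ Zt) := Submodule.smul_mono le_rfl inf_le_right h1
    rw [Submodule.smul_sup, Submodule.mem_sup] at h2
    obtain ⟨t, ht, z', hz', htz⟩ := h2
    rw [LinearMap.range_eq_map, ← Submodule.map_smul''] at ht
    obtain ⟨w, hw, rfl⟩ := ht
    have hz'' : z' ∈ Zt := Submodule.smul_le_right hz'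
    refine ⟨v - w, ?_, ?_⟩
    · change L (v - w) ∈ Zt
      rw [map_sub, show L v - L w = z + z' by rw [← sub_eq_zero]; rw [← sub_eq_zero] at htz; rw [← neg_eq_zero, ← htz]; abel]
      exact add_mem hz hz''
    · rw [𝒢.val_sub, 𝒢.tr_val]
      have : 𝒢.val j w = 0 := by
        refine 𝒢.val_eq_zero_of_mem j w fun i => ?_
        rw [Ideal.map_pow]
        refine Submodule.smul_induction_on hw (fun r hr m _ => ?_) fun _ _ hu hv => add_mem hu hv
        exact Ideal.mul_mem_right _ _ hr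
      rw [this, sub_zero]
  refine ⟨k₁ + k₂, fun j x hx => ?_, fun n j h y hy htr => ?_⟩
  · obtain ⟨v, hv, hvx⟩ := hlift j (S.tr (show j + k₁ ≤ j + (k₁ + k₂) by omega) x) (by rw [hφ, hx, map_zero])
    rw [S.tr_tr] at hvx
    rw [← hvx]
    exact hP' v hv j
  · obtain ⟨x, hx, hxy⟩ := (Submodule.mem_iInf _).1 hy k₁
    obtain ⟨v, hv, hvx⟩ := hlift j x (LinearMap.mem_ker.1 hx)
    rw [hxy] at hvx
    obtain ⟨z, hz, hdiff⟩ := 𝒢.exists_sub_mem_of_val_eq_zero (n + (k₁ + k₂)) v
      (by rw [← 𝒢.tr_val h, hvx, htr])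
    have hzP : z ∈ P' := fun l => by rw [← hL, hz, map_zero]
    have h1 : v - z ∈ JJ ^ (n + (k₁ + k₂) + 1) • ⊤ ⊓ P' := ⟨hpi _ _ hdiff, sub_mem hv hzP⟩
    rw [hk₂ (n + (k₁ + k₂) + 1) (by omega)] at h1
    have h2 : v - z ∈ JJ ^ (n + 1) • P' :=
      Submodule.smul_mono (Ideal.pow_le_pow_right (by omega)) inf_le_right h1
    rw [← hvx, show 𝒢.val j v = 𝒢.val j (v - z) by rw [𝒢.val_sub, hz, sub_zero]]
    refine Submodule.smul_induction_on h2 (fun r hr m hm => ?_) fun u u' hu hu' => by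
      rw [𝒢.val_add]; exact add_mem hu hu'
    rw [← Ideal.map_pow] at hr
    induction hr using Submodule.span_induction generalizing m with
    | mem t ht =>
      obtain ⟨b, hb, rfl⟩ := ht
      rw [𝒢.val_algebraMap_smul]
      exact Submodule.smul_mem_smul hb (hP' m hm j)
    | zero => rw [zero_smul, 𝒢.val_zero]; exact zero_mem _
    | add c d _ _ hc hd => rw [add_smul, 𝒢.val_add]; exact add_mem (hc m hm) (hd m hm)
    | smul c d _ hd => rw [smul_eq_mul, mul_comm, mul_smul]; exact hd _ (P'.smul_mem c hm)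

end FMod

section Sys

variable {A : Type u} [CommRing A] {X : Scheme.{u}} [X.Over (Spec (CommRingCat.of A))] {I : Ideal A}

/-- A kernel of a map of coherent formal modules. -/
theorem exists_formalKernel [AlgebraicGeometry.IsNoetherian X] {G H : ℕᵒᵖ ⥤ X.Modules}
    (hG : Formal.IsCohFormal I G) (hH : Formal.IsCohFormal I H) (α : G ⟶ H) :
    ∃ (K : ℕᵒᵖ ⥤ X.Modules) (ι : K ⟶ G), Formal.IsCohFormal I K ∧ ι ≫ α = 0 ∧
      ∀ (W : ℕᵒᵖ ⥤ X.Modules), Formal.IsCohFormal I W → ∀ u : W ⟶ G, u ≫ α = 0 → ∃! v : W ⟶ K, v ≫ ι = u := by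
  classical
  have hs := isSys_of_isCohFormal hG
  have ht := isSys_of_isCohFormal hH
  have hGq := fun n => (hG.1 n).1
  have hHq := fun n => (hH.1 n).1
  let rg : ∀ (U : X.Opens) (j d : ℕ), Submodule Γ(X, U) Γ(G.obj (op j), U) := fun U j d =>
    (LinearMap.ker (QCohMod.appₗ (α.app (op (j + d))) U)).map (QCohMod.appₗ (sysMap G (Nat.le_add_right j d)) U)
  obtain ⟨c, hc⟩ := exists_uniform X (fun U c =>
      (∀ j d, rg U j c ≤ rg U j d) ∧ ∀ n j (h : n + c ≤ j) (y : Γ(G.obj (op j), (U : X.Opens))),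
        (∀ d, y ∈ rg U j d) → (sysMap G h).app U y = 0 →
          y ∈ ((I.map (baseApp X (U : X.Opens))) ^ (n + 1)) • ⨅ d, rg U j d)
    (fun U a b hab ⟨h1, h2⟩ => ⟨fun j d => le_trans (by
        rintro _ ⟨x, hx, rfl⟩
        refine ⟨(sysMap G (Nat.add_le_add_left hab j)).app U x, ?_, sysMap_app_comp G _ _ _ x⟩
        change (α.app (op (j + a))).app U _ = 0
        rw [app_comp_apply, sysMap_comp_app α, ← app_comp_apply]
        exact (congrArg _ hx).trans (map_zero _)) (h1 j d),
      fun n j h y hy h0 => h2 n j (le_trans (Nat.add_le_add_left hab n) h) y hy (by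
        rw [← sysMap_app_comp G (Nat.add_le_add_left hab n) h, h0, map_zero])⟩)
    fun U => by
      have : IsNoetherianRing Γ(X, (U : X.Opens)) := IsLocallyNoetherian.component_noetherian U
      have : Module.Finite Γ(X, (U : X.Opens)) Γ(G.obj (op 0), (U : X.Opens)) :=
        ((QCohMod.isCoh_iff _).1 (hG.1 0)).2 U U.2
      have : Module.Finite Γ(X, (U : X.Opens)) Γ(H.obj (op 0), (U : X.Opens)) :=
        ((QCohMod.isCoh_iff _).1 (hH.1 0)).2 U U.2
      obtain ⟨c, h1, h2⟩ := (fmodOfSys hs hGq U.2).exists_stab (fun l => QCohMod.appₗ (α.app (op l)) U)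
        (fmodOfSys ht hHq U.2) (fun h x => congr(($(sysMap_comp_app α h)).app (U : X.Opens) x))
      refine ⟨c, fun j d => ?_, fun n j h y hy h0 => ?_⟩
      · rintro _ ⟨x, hx, rfl⟩
        exact (Submodule.mem_iInf _).1 (h1 j x hx) d
      · exact h2 n j h y ((Submodule.mem_iInf _).2 hy) h0
  -- the stable images
  let E : ℕ → X.Modules := fun j => Abelian.image (kerSysι α (j + c) ≫ sysMap G (Nat.le_add_right j c))
  let ε : ∀ j, E j ⟶ G.obj (op j) := fun j => Abelian.image.ι _
  have hker : ∀ j, Coh.IsCoh ((kerSys α).obj (op j)) := fun j => by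
    have := hGq j
    have := hHq j
    exact QCohMod.isCoh_kernel (α.app (op j)) (hG.1 j)
  have hEq : ∀ j, (E j).IsQuasicoherent := fun j => by
    have := (hker (j + c)).1
    have := hGq j
    exact QCohMod.isQCoh_image _
  have hEc : ∀ j, Coh.IsCoh (E j) := fun j =>
    have := (hker (j + c)).1
    have := hEq j
    ⟨hEq j, QCohMod.isFT_of_epi (Abelian.factorThruImage _) (hker (j + c)).2⟩
  -- sections of the stable images
  have hErg : ∀ j (U : X.affineOpens), LinearMap.range (QCohMod.appₗ (ε j) (U : X.Opens)) = rg U j c := by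
    intro j U
    have := (hker (j + c)).1
    have := hEq j
    have := hGq (j + c)
    have := hHq (j + c)
    refine le_antisymm ?_ ?_
    · rintro _ ⟨e, rfl⟩
      obtain ⟨k, rfl⟩ := QCohMod.app_surjective_of_epi
        (Abelian.factorThruImage (kerSysι α (j + c) ≫ sysMap G (Nat.le_add_right j c))) U.2 e
      refine ⟨(kerSysι α (j + c)).app U k, ?_, ?_⟩
      · exact congr(($(kernel.condition (α.app (op (j + c))))).app (U : X.Opens) k)
      · exact (congr(($(Abelian.image.fac (kerSysι α (j + c) ≫ sysMap G (Nat.le_add_right j c)))).app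
          (U : X.Opens) k)).symm
    · rintro _ ⟨x, hx, rfl⟩
      obtain ⟨k, hk⟩ := QCohMod.exists_app_eq_of_mono_exact
        (S := ShortComplex.mk (kernel.ι (α.app (op (j + c)))) _ (kernel.condition _))
        (ShortComplex.exact_of_f_is_kernel _ (kernelIsKernel _)) U x hx
      refine ⟨(Abelian.factorThruImage (kerSysι α (j + c) ≫ sysMap G (Nat.le_add_right j c))).app U k, ?_⟩
      refine (congr(($(Abelian.image.fac (kerSysι α (j + c) ≫ sysMap G (Nat.le_add_right j c)))).app
        (U : X.Opens) k)).trans ?_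
      exact congrArg ((sysMap G (Nat.le_add_right j c)).app U) hk
  -- transition maps
  have htr : ∀ j, ∃ t : E (j + 1) ⟶ E j, t ≫ ε j = ε (j + 1) ≫ sysMap G (Nat.le_succ j) := fun j => by
    refine ⟨kernel.map _ _ (sysMap G (Nat.le_succ j)) (cokernel.map _ _
      (sysMap (kerSys α) (show j + c ≤ j + 1 + c by omega)) (sysMap G (Nat.le_succ j)) ?_) (by
        rw [cokernel.map, cokernel.π_desc]), kernel.lift_ι _ _ _⟩
    rw [Category.assoc, sysMap_sysMap]
    have e : sysMap (kerSys α) (show j + c ≤ j + 1 + c by omega) ≫ kerSysι α (j + c) =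
        kerSysι α (j + 1 + c) ≫ sysMap G (show j + c ≤ j + 1 + c by omega) :=
      sysMap_comp_app (kerSysInc α) _
    rw [← Category.assoc, e, Category.assoc, sysMap_sysMap]
  choose t ht' using htr
  -- the levels of the kernel
  let π : ∀ n, E (n + c) ⟶ Formal.modPow I (n + 1) (E (n + c)) := fun n => Formal.modPowπ I (n + 1) _
  have htt₀ : ∀ n, ∃ τ : E (n + 1 + c) ⟶ E (n + c),
      τ ≫ ε (n + c) = ε (n + 1 + c) ≫ sysMap G (show n + c ≤ n + 1 + c by omega) := fun n => by
    refine ⟨eqToHom (congrArg E (show n + 1 + c = n + c + 1 by omega)) ≫ t (n + c), ?_⟩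
    have key : ∀ m (hm : m = n + c + 1), eqToHom (congrArg E hm) ≫ ε (n + c + 1) ≫ sysMap G (Nat.le_succ (n + c)) =
        ε m ≫ sysMap G (show n + c ≤ m by omega) := by
      rintro m rfl
      exact Category.id_comp _
    simp only [Category.assoc, ht']
    exact key (n + 1 + c) (by omega)
  choose tt htt using htt₀
  have hdiffann : ∀ n, I ^ (n + 1 + 1) ≤ annHom (tt n ≫ π n) := fun n =>
    ((Ideal.pow_le_pow_right (Nat.le_succ _)).trans (isQuot_modPowπ I (n + 1) _).le_ann).trans (annHom_le_precomp _ _)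
  let K : ℕᵒᵖ ⥤ X.Modules := Functor.ofOpSequence (X := fun n => Formal.modPow I (n + 1) (E (n + c)))
    fun n => modPowDesc I (n + 1 + 1) (tt n ≫ π n) (hdiffann n)
  let πK : ∀ n, E (n + c) ⟶ K.obj (op n) := fun n => π n
  have hKmap : ∀ n, πK (n + 1) ≫ sysMap K (Nat.le_succ n) = tt n ≫ πK n := fun n => by
    change π (n + 1) ≫ _ = tt n ≫ π n
    rw [show sysMap K (Nat.le_succ n) = modPowDesc I (n + 1 + 1) (tt n ≫ π n) (hdiffann n) from
      Functor.ofOpSequence_map_homOfLE_succ _ n]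
    exact modPowπ_desc _ _ _ _
  have hπq : ∀ n, (Formal.modPow I (n + 1) (E (n + c))).IsQuasicoherent := fun n =>
    have := hEq (n + c)
    isQCoh_of_isQuot (isQuot_modPowπ I (n + 1) (E (n + c)))
  have hεinj : ∀ j (U : X.Opens), Function.Injective ((ε j).app U) := fun j U =>
    QCohMod.app_injective_of_mono (ε j) U
  -- a good cover
  have hgood : ∀ x : X, ∃ U : X.affineOpens, x ∈ (U : X.Opens) ∧
      (∀ j, LinearMap.range (QCohMod.appₗ (ε j) (U : X.Opens)) = ⨅ d, rg U j d) ∧
      (∀ n j (h : n + c ≤ j) (y : Γ(G.obj (op j), (U : X.Opens))), (∀ d, y ∈ rg U j d) →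
        (sysMap G h).app U y = 0 → y ∈ ((I.map (baseApp X (U : X.Opens))) ^ (n + 1)) • ⨅ d, rg U j d) := fun x => by
    obtain ⟨U, hx, h1, h2⟩ := hc x
    exact ⟨U, hx, fun j => by rw [hErg]; exact le_antisymm (le_iInf (h1 j)) (iInf_le _ c), h2⟩
  have hlift : ∀ (U : X.affineOpens) (j m : ℕ) (h : j ≤ m) (y : Γ(G.obj (op j), (U : X.Opens))),
      (∀ d, y ∈ rg U j d) → ∃ x : Γ(G.obj (op m), (U : X.Opens)),
        (α.app (op m)).app U x = 0 ∧ (sysMap G h).app U x = y := fun U j m h y hy => by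
    obtain ⟨d, rfl⟩ := Nat.exists_eq_add_of_le h
    exact hy d
  have hsurj : ∀ (U : X.affineOpens), (∀ j, LinearMap.range (QCohMod.appₗ (ε j) (U : X.Opens)) = ⨅ d, rg U j d) →
      ∀ j m (h : j ≤ m) (e : Γ(E j, (U : X.Opens))), ∃ e' : Γ(E m, (U : X.Opens)),
        (sysMap G h).app U ((ε m).app U e') = (ε j).app U e := fun U hU j m h e => by
    have hy : (ε j).app U e ∈ ⨅ d, rg U j d := by rw [← hU]; exact ⟨e, rfl⟩
    obtain ⟨x, hx, hxy⟩ := hlift U j (m + c) (h.trans (Nat.le_add_right m c)) _ ((Submodule.mem_iInf _).1 hy)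
    obtain ⟨e', he'⟩ : (sysMap G (Nat.le_add_right m c)).app U x ∈ LinearMap.range (QCohMod.appₗ (ε m) (U : X.Opens)) := by
      rw [hErg]; exact ⟨x, hx, rfl⟩
    refine ⟨e', ?_⟩
    rw [show (ε m).app U e' = _ from he', sysMap_app_comp, hxy]
  have hquot : ∀ n, IsQuot (I ^ (n + 1)) (tt n ≫ π n) := fun n => by
    obtain ⟨q, hq⟩ := (isQuot_modPowπ I (n + 1) (E (n + 1 + c))).desc (tt n ≫ π n)
      ((isQuot_modPowπ I (n + 1) _).le_ann.trans (annHom_le_precomp _ _))
    have := hEq (n + 1 + c)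
    have := hEq (n + c)
    have := hπq n
    have : (Formal.modPow I (n + 1) (E (n + 1 + c))).IsQuasicoherent :=
      isQCoh_of_isQuot (isQuot_modPowπ I (n + 1) (E (n + 1 + c)))
    have happ : ∀ (U : X.Opens) (e : Γ(E (n + 1 + c), U)), q.app U ((Formal.modPowπ I (n + 1) _).app U e) =
        (π n).app U ((tt n).app U e) := fun U e => congr(($hq).app U e)
    have htte : ∀ (U : X.Opens) (e : Γ(E (n + 1 + c), U)), (ε (n + c)).app U ((tt n).app U e) =
        (sysMap G (show n + c ≤ n + 1 + c by omega)).app U ((ε (n + 1 + c)).app U e) :=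
      fun U e => congr(($(htt n)).app U e)
    have : Epi q := epi_of_cover _ fun x => by
      obtain ⟨U, hx, hU, -⟩ := hgood x
      refine ⟨U, U.2, hx, fun y => ?_⟩
      obtain ⟨e, rfl⟩ := (isQuot_modPowπ I (n + 1) (E (n + c))).app_surjective U.2 y
      obtain ⟨e', he'⟩ := hsurj U hU (n + c) (n + 1 + c) (by omega) e
      refine ⟨(Formal.modPowπ I (n + 1) (E (n + 1 + c))).app U e', (happ U e').trans ?_⟩
      change (π n).app U ((tt n).app U e') = (π n).app U e
      rw [hεinj _ _ ((htte U e').trans he')]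
    have : Mono q := by
      refine Preadditive.mono_of_kernel_zero (hom_eq_zero_of_cover _ fun x => ?_)
      obtain ⟨U, hx, hU, hAR⟩ := hgood x
      refine ⟨U, U.2, hx, fun s => ?_⟩
      obtain ⟨e, he⟩ := (isQuot_modPowπ I (n + 1) (E (n + 1 + c))).app_surjective U.2 ((kernel.ι q).app U s)
      refine he.symm.trans (((isQuot_modPowπ I (n + 1) _).app_eq_zero_iff e U.2).2 ?_)
      have h0 : (π n).app U ((tt n).app U e) = 0 := (happ U e).symm.trans
        ((congrArg (q.app U) he).trans congr(($(kernel.condition q)).app (U : X.Opens) s))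
      have h1 := ((isQuot_modPowπ I (n + 1) _).app_eq_zero_iff _ U.2).1 h0
      have hr : LinearMap.range (QCohMod.appₗ (tt n) (U : X.Opens)) = ⊤ := LinearMap.range_eq_top.2 fun z => by
        obtain ⟨e', he'⟩ := hsurj U hU (n + c) (n + 1 + c) (by omega) z
        exact ⟨e', hεinj _ _ ((htte U e').trans he')⟩
      rw [← hr, LinearMap.range_eq_map, ← Submodule.map_smul''] at h1
      obtain ⟨w, hw, hwe⟩ := h1
      have hy : (ε (n + 1 + c)).app U (e - w) ∈ ⨅ d, rg U (n + 1 + c) d := by rw [← hU]; exact ⟨_, rfl⟩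
      have h2 := hAR n (n + 1 + c) (by omega) _ ((Submodule.mem_iInf _).1 hy) (by
        rw [← htte, map_sub, show (tt n).app U w = _ from hwe, sub_self, map_zero])
      rw [← hU, LinearMap.range_eq_map, ← Submodule.map_smul''] at h2
      obtain ⟨w', hw', hwe'⟩ := h2
      rw [show e = (e - w) + w by abel, ← hεinj _ _ hwe']
      refine add_mem ?_ hw
      rwa [Ideal.map_pow]
    have : IsIso q := isIso_of_mono_of_epi q
    rw [← hq]
    exact (isQuot_modPowπ I (n + 1) _).comp_iso q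
  have hK : Formal.IsCohFormal I K := by
    refine ⟨fun n => isCoh_modPow' (hEc (n + c)) I (n + 1), fun n => (isQuot_modPowπ I (n + 1) _).killedBy, fun n => ?_⟩
    refine (IsQuot.of_comp (isQuot_modPowπ I (n + 1 + 1) (E (n + 1 + c))) ?_).isIso_desc
    exact (hKmap n).symm ▸ hquot n
  -- comparison with the levelwise kernels
  have hεα : ∀ j, ε j ≫ α.app (op j) = 0 := fun j => by
    rw [← cancel_epi (Abelian.factorThruImage (kerSysι α (j + c) ≫ sysMap G (Nat.le_add_right j c))), comp_zero]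
    change Abelian.factorThruImage _ ≫ Abelian.image.ι _ ≫ _ = _
    rw [← Category.assoc, Abelian.image.fac, Category.assoc, sysMap_comp_app α, ← Category.assoc,
      show kerSysι α (j + c) ≫ α.app (op (j + c)) = 0 from kernel.condition _, zero_comp]
  let ψ : ∀ n, E (n + c) ⟶ (kerSys α).obj (op n) := fun n =>
    kernel.lift _ (ε (n + c) ≫ sysMap G (Nat.le_add_right n c)) (by
      rw [Category.assoc, sysMap_comp_app α, ← Category.assoc, hεα, zero_comp])
  have hψ : ∀ n, ψ n ≫ kerSysι α n = ε (n + c) ≫ sysMap G (Nat.le_add_right n c) := fun n => kernel.lift_ι _ _ _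
  have hψann : ∀ n, I ^ (n + 1) ≤ annHom (ψ n) := fun n => le_annHom_of_killedBy (killedBy_kerSys hs α n) _
  let κ : ∀ n, K.obj (op n) ⟶ (kerSys α).obj (op n) := fun n => modPowDesc I (n + 1) (ψ n) (hψann n)
  have hκ : ∀ n, πK n ≫ κ n = ψ n := fun n => modPowπ_desc _ _ _ _
  let cmp : K ⟶ kerSys α := NatTrans.ofOpSequence κ fun n => by
    refine (isQuot_modPowπ I (n + 1 + 1) (E (n + 1 + c))).hom_ext ?_
    rw [← cancel_mono (kerSysι α n)]
    change (πK (n + 1) ≫ sysMap K (Nat.le_succ n) ≫ κ n) ≫ kerSysι α n =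
      (πK (n + 1) ≫ κ (n + 1) ≫ sysMap (kerSys α) (Nat.le_succ n)) ≫ kerSysι α n
    rw [← Category.assoc (πK (n + 1)), hKmap, ← Category.assoc (πK (n + 1)), hκ, Category.assoc, Category.assoc,
      Category.assoc, kerSysι_sysMap]
    rw [show πK n ≫ κ n ≫ kerSysι α n = ε (n + c) ≫ sysMap G (Nat.le_add_right n c) from by
        rw [← Category.assoc, hκ, hψ], reassoc_of% htt n, reassoc_of% hψ (n + 1), sysMap_sysMap, sysMap_sysMap]
  have hKtr : ∀ n m (h : n ≤ m), ∃ T : E (m + c) ⟶ E (n + c), πK m ≫ sysMap K h = T ≫ πK n ∧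
      T ≫ ε (n + c) = ε (m + c) ≫ sysMap G (Nat.add_le_add_right h c) := fun n m h => by
    induction m, h using Nat.le_induction with
    | base => exact ⟨𝟙 _, by rw [sysMap_refl, Category.comp_id, Category.id_comp],
        by rw [sysMap_refl, Category.comp_id, Category.id_comp]⟩
    | succ m hm ih =>
      obtain ⟨T, hT₁, hT₂⟩ := ih
      refine ⟨tt m ≫ T, ?_, ?_⟩
      · rw [← sysMap_sysMap K hm (Nat.le_succ m), ← Category.assoc, hKmap, Category.assoc, hT₁, Category.assoc]
      · rw [Category.assoc, hT₂, reassoc_of% htt m, sysMap_sysMap]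
  have hkq : ∀ n, ((kerSys α).obj (op n)).IsQuasicoherent := fun n => (hker n).1
  have hker' : ∀ n, kernel.ι (cmp.app (op (n + c))) ≫ sysMap K (Nat.le_add_right n c) = 0 := fun n => by
    have := hπq (n + c)
    have := hkq (n + c)
    have : (K.obj (op (n + c))).IsQuasicoherent := hπq (n + c)
    refine hom_eq_zero_of_cover _ fun x => ?_
    obtain ⟨U, hU, hx⟩ := QCohMod.exists_affine_mem x
    refine ⟨U, hU, hx, fun s => ?_⟩
    have := hEq (n + c + c)
    obtain ⟨e, he⟩ := (isQuot_modPowπ I (n + c + 1) (E (n + c + c))).app_surjective hU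
      ((kernel.ι (cmp.app (op (n + c)))).app U s)
    obtain ⟨T, hT₁, hT₂⟩ := hKtr n (n + c) (Nat.le_add_right n c)
    change (sysMap K (Nat.le_add_right n c)).app U ((kernel.ι (cmp.app (op (n + c)))).app U s) = 0
    rw [← he]
    refine (congr(($hT₁).app U e)).trans ?_
    have h0 : (sysMap G (Nat.le_add_right (n + c) c)).app U ((ε (n + c + c)).app U e) = 0 := by
      refine (congr(($(hψ (n + c))).app U e)).symm.trans ?_
      refine (congrArg ((kerSysι α (n + c)).app U) ?_).trans (map_zero _)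
      refine (congr(($(hκ (n + c))).app U e)).symm.trans ?_
      exact (congrArg ((κ (n + c)).app U) he).trans congr(($(kernel.condition (cmp.app (op (n + c))))).app U s)
    have h1 : T.app U e = 0 := hεinj _ _ (((congr(($hT₂).app U e)).trans h0).trans (map_zero _).symm)
    change (πK n).app U (T.app U e) = 0
    rw [h1, map_zero]
  have hcok : ∀ n, sysMap (kerSys α) (Nat.le_add_right n c) ≫ cokernel.π (cmp.app (op n)) = 0 := fun n => by
    have := hkq (n + c)
    refine hom_eq_zero_of_cover _ fun x => ?_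
    obtain ⟨U, hx, hU, -⟩ := hgood x
    refine ⟨U, U.2, hx, fun z => ?_⟩
    set z₀ := (sysMap (kerSys α) (Nat.le_add_right n c)).app U z
    change (cokernel.π (cmp.app (op n))).app U z₀ = 0
    have hz : (kerSysι α n).app U z₀ ∈ ⨅ d, rg U n d := by
      rw [← hU, hErg]
      refine ⟨(kerSysι α (n + c)).app U z, ?_, ?_⟩
      · exact congr(($(kernel.condition (α.app (op (n + c))))).app (U : X.Opens) z)
      · exact (congr(($(sysMap_comp_app (kerSysInc α) (Nat.le_add_right n c))).app (U : X.Opens) z)).symm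
    obtain ⟨y, hy, hyz⟩ := hlift U n (n + c + c) (by omega) _ ((Submodule.mem_iInf _).1 hz)
    obtain ⟨e, he⟩ : (sysMap G (Nat.le_add_right (n + c) c)).app U y ∈
        LinearMap.range (QCohMod.appₗ (ε (n + c)) (U : X.Opens)) := by rw [hErg]; exact ⟨y, hy, rfl⟩
    have : (κ n).app U ((πK n).app U e) = z₀ := by
      apply QCohMod.app_injective_of_mono (kerSysι α n) U
      refine (congrArg ((kerSysι α n).app U) (congr(($(hκ n)).app (U : X.Opens) e))).trans ?_
      refine (congr(($(hψ n)).app (U : X.Opens) e)).trans ?_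
      refine (congrArg ((sysMap G (Nat.le_add_right n c)).app U) he).trans ?_
      exact (sysMap_app_comp G _ _ _ y).trans hyz
    rw [← this]
    exact congr(($(cokernel.condition (cmp.app (op n)))).app (U : X.Opens) ((πK n).app U e))
  refine ⟨K, cmp ≫ kerSysInc α, hK, by rw [Category.assoc, kerSysInc_comp, comp_zero], fun W hW u hu => ?_⟩
  obtain ⟨l, hl⟩ := exists_kerSys_lift α u hu
  obtain ⟨v, hv, huniq⟩ := existsUnique_proLift cmp (isSys_of_isCohFormal hW) hK.2.1 c c hker' hcok l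
  refine ⟨v, show v ≫ cmp ≫ kerSysInc α = u by rw [← Category.assoc, hv, hl], fun v' hv' => huniq v' ?_⟩
  refine NatTrans.ext (funext fun ⟨n⟩ => (cancel_mono (kerSysι α n)).1 ?_)
  have e1 := congr($hv' |>.app (op n))
  have e2 := congr($hl |>.app (op n))
  exact ((Category.assoc _ _ _).trans e1).trans e2.symm

/-- Coherent formal modules have kernels. -/
theorem hasKernels_cohFormalCat [AlgebraicGeometry.IsNoetherian X] : HasKernels (Formal2.CohFormalCat I X) := by
  refine ⟨fun {G H} α => ?_⟩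
  obtain ⟨K, ι, hK, h0, hu⟩ := exists_formalKernel G.property H.property α.hom
  let K' : Formal2.CohFormalCat I X := ⟨K, hK⟩
  let ι' : K' ⟶ G := ObjectProperty.homMk ι
  have h0' : ι' ≫ α = 0 := ObjectProperty.hom_ext _ h0
  refine HasLimit.mk ⟨KernelFork.ofι ι' h0', ?_⟩
  refine KernelFork.IsLimit.ofι ι' h0'
    (fun {W} k hk => ObjectProperty.homMk (hu W.obj W.property k.hom congr($hk |>.hom)).exists.choose)
    (fun {W} k hk => ObjectProperty.hom_ext _ (hu W.obj W.property k.hom congr($hk |>.hom)).exists.choose_spec)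
    (fun {W} k hk b hb => ObjectProperty.hom_ext _
      ((hu W.obj W.property k.hom congr($hk |>.hom)).unique congr($hb |>.hom)
        (hu W.obj W.property k.hom congr($hk |>.hom)).exists.choose_spec))

end Sys

end Groth.CohC3
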