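import Groth.Agent.Calg1.Completion
import Mathlib.RingTheory.AdicCompletion.Algebra
import Mathlib.RingTheory.AdicCompletion.Completeness
import Mathlib.RingTheory.Filtration

/-! Formal modules over a Noetherian ring as modules over the completion. -/

universe u v

namespace Groth.CohC3

variable {R : Type u} [CommRing R] {J : Ideal R}

/-- An inverse system `G l` of modules with `G j ⧸ J^(i+1) = G i`. -/
structure FMod (J : Ideal R) (G : ℕ → Type v) [∀ l, AddCommGroup (G l)] [∀ l, Module R (G l)] where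
  tr : ∀ {i j : ℕ}, i ≤ j → G j →ₗ[R] G i
  tr_tr : ∀ {i j k : ℕ} (h : i ≤ j) (h' : j ≤ k) (x : G k), tr h (tr h' x) = tr (h.trans h') x
  surj : ∀ {i j : ℕ} (h : i ≤ j), Function.Surjective (tr h)
  ker_le : ∀ {i j : ℕ} (h : i ≤ j) (x : G j), tr h x = 0 → x ∈ (J ^ (i + 1) • ⊤ : Submodule R (G j))
  killed : ∀ (l : ℕ) (r : R), r ∈ J ^ (l + 1) → ∀ x : G l, r • x = 0

namespace FMod

variable {G : ℕ → Type v} [∀ l, AddCommGroup (G l)] [∀ l, Module R (G l)] (S : FMod J G)

include S in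
lemma pow_smul_eq_bot (l : ℕ) : (J ^ (l + 1) • ⊤ : Submodule R (G l)) = ⊥ :=
  eq_bot_iff.2 (Submodule.smul_le.2 fun r hr x _ => by simp [S.killed l r hr x])

lemma tr_self (l : ℕ) (x : G l) : S.tr le_rfl x = x := by
  obtain ⟨y, rfl⟩ := S.surj (le_refl l) x
  exact S.tr_tr _ _ y

/-- Compatible generators. -/
structure Gens (p : ℕ) where
  g : ∀ l, Fin p → G l
  compat : ∀ {i j : ℕ} (h : i ≤ j) a, S.tr h (g j a) = g i a
  span : ∀ l, Submodule.span R (Set.range (g l)) = ⊤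

/-- Finite generation in degree zero gives compatible generators. -/
theorem exists_gens [Module.Finite R (G 0)] : ∃ p, Nonempty (S.Gens p) := by
  obtain ⟨p, e, he⟩ := Module.Finite.exists_fin (R := R) (M := G 0)
  choose up hup using fun l (x : G l) => S.surj (Nat.le_succ l) x
  let g : ∀ l, Fin p → G l := fun l => Nat.rec (motive := fun l => Fin p → G l) e (fun l gl a => up l (gl a)) l
  have hg : ∀ {i j : ℕ} (h : i ≤ j) a, S.tr h (g j a) = g i a := by
    intro i j h a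
    induction j, h using Nat.le_induction with
    | base => exact S.tr_self _ _
    | succ j h ih => rw [← S.tr_tr h (Nat.le_succ j), show S.tr (Nat.le_succ j) (g (j + 1) a) = g j a from hup j _, ih]
  refine ⟨p, ⟨⟨g, hg, fun l => ?_⟩⟩⟩
  set P := Submodule.span R (Set.range (g l))
  have hstep : (⊤ : Submodule R (G l)) ≤ P ⊔ J • ⊤ := fun y _ => by
    have hy : S.tr (Nat.zero_le l) y ∈ P.map (S.tr (Nat.zero_le l)) := by
      rw [Submodule.map_span, ← Set.range_comp, show S.tr (Nat.zero_le l) ∘ g l = e from funext (hg _), he]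
      trivial
    obtain ⟨z, hz, hzy⟩ := hy
    have h1 := S.ker_le (Nat.zero_le l) (y - z) (by rw [map_sub, hzy, sub_self])
    rw [zero_add, pow_one] at h1
    simpa using Submodule.add_mem_sup hz h1
  have hpow : ∀ k, (⊤ : Submodule R (G l)) ≤ P ⊔ J ^ k • ⊤ := by
    intro k
    induction k with
    | zero => simp
    | succ k ih =>
      refine ih.trans (sup_le le_sup_left ?_)
      refine (Submodule.smul_mono le_rfl hstep).trans ?_
      rw [Submodule.smul_sup, ← Submodule.mul_smul, ← pow_succ]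
      exact sup_le_sup_right Submodule.smul_le_right _
  refine eq_top_iff.2 ((hpow (l + 1)).trans ?_)
  rw [S.pow_smul_eq_bot, sup_bot_eq]

namespace Gens

variable {S} {p : ℕ} (𝒢 : S.Gens p)

local notation "R̂" => AdicCompletion J R

/-- A representative of an element of the completion modulo `J^n`. -/
noncomputable def rep (n : ℕ) (x : R̂) : R :=
  (Ideal.Quotient.mk_surjective (AdicCompletion.evalₐ J n x)).choose

lemma mk_rep (n : ℕ) (x : R̂) : Ideal.Quotient.mk (J ^ n) (rep n x) = AdicCompletion.evalₐ J n x :=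
  (Ideal.Quotient.mk_surjective (AdicCompletion.evalₐ J n x)).choose_spec

/-- The value at level `l` of a combination over the completion. -/
noncomputable def val (l : ℕ) (v : Fin p → R̂) : G l := ∑ a, rep (l + 1) (v a) • 𝒢.g l a

lemma val_eq (l : ℕ) (v : Fin p → R̂) (r : Fin p → R)
    (h : ∀ a, Ideal.Quotient.mk (J ^ (l + 1)) (r a) = AdicCompletion.evalₐ J (l + 1) (v a)) :
    𝒢.val l v = ∑ a, r a • 𝒢.g l a := by
  rw [← sub_eq_zero, val, ← Finset.sum_sub_distrib]
  refine Finset.sum_eq_zero fun a _ => ?_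
  rw [← sub_smul]
  refine S.killed l _ ?_ _
  rw [← Ideal.Quotient.eq, mk_rep, h]

lemma val_add (l : ℕ) (v w : Fin p → R̂) : 𝒢.val l (v + w) = 𝒢.val l v + 𝒢.val l w := by
  rw [val_eq 𝒢 l (v + w) (fun a => rep (l + 1) (v a) + rep (l + 1) (w a))
    (fun a => by rw [map_add, mk_rep, mk_rep, Pi.add_apply, map_add])]
  simp only [val, add_smul, Finset.sum_add_distrib]

lemma val_smul (l : ℕ) (x : R̂) (v : Fin p → R̂) : 𝒢.val l (x • v) = rep (l + 1) x • 𝒢.val l v := by
  rw [val_eq 𝒢 l (x • v) (fun a => rep (l + 1) x * rep (l + 1) (v a))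
    (fun a => by rw [map_mul, mk_rep, mk_rep, Pi.smul_apply, smul_eq_mul, map_mul])]
  simp only [val, Finset.smul_sum, mul_smul]

lemma val_algebraMap_smul (l : ℕ) (r : R) (v : Fin p → R̂) :
    𝒢.val l (algebraMap R R̂ r • v) = r • 𝒢.val l v := by
  rw [val_eq 𝒢 l (algebraMap R R̂ r • v) (fun a => r * rep (l + 1) (v a))
    (fun a => by
      rw [map_mul, mk_rep, Pi.smul_apply, smul_eq_mul, map_mul, AlgHom.commutes]
      rfl)]
  simp only [val, Finset.smul_sum, mul_smul]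

lemma val_zero (l : ℕ) : 𝒢.val l 0 = 0 := by
  rw [val_eq 𝒢 l 0 0 (fun a => by simp)]
  simp

lemma val_neg (l : ℕ) (v : Fin p → R̂) : 𝒢.val l (-v) = -𝒢.val l v :=
  eq_neg_of_add_eq_zero_left (by rw [← val_add, neg_add_cancel, val_zero])

lemma val_sub (l : ℕ) (v w : Fin p → R̂) : 𝒢.val l (v - w) = 𝒢.val l v - 𝒢.val l w := by
  rw [sub_eq_add_neg, val_add, val_neg, ← sub_eq_add_neg]

lemma val_surjective (l : ℕ) : Function.Surjective (𝒢.val l) := fun x => by
  obtain ⟨r, hr⟩ := (Submodule.mem_span_range_iff_exists_fun R).1 (show x ∈ Submodule.span R (Set.range (𝒢.g l)) by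
    rw [𝒢.span]; trivial)
  refine ⟨fun a => algebraMap R R̂ (r a), ?_⟩
  rw [val_eq 𝒢 l _ r (fun a => by rw [AlgHom.commutes]; rfl), hr]

lemma tr_val {i j : ℕ} (h : i ≤ j) (v : Fin p → R̂) : S.tr h (𝒢.val j v) = 𝒢.val i v := by
  rw [val_eq 𝒢 i v (fun a => rep (j + 1) (v a)) (fun a => ?_)]
  · simp only [val, map_sum, map_smul, 𝒢.compat]
  · obtain ⟨f, hf⟩ := AdicCompletion.mk_surjective J R (v a)
    have h1 := mk_rep (J := J) (j + 1) (v a)
    rw [← hf, AdicCompletion.evalₐ_mk] at h1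
    rw [← hf, AdicCompletion.evalₐ_mk, ← AdicCompletion.Ideal.mk_eq_mk J (show i + 1 ≤ j + 1 by omega) f]
    exact Ideal.Quotient.eq.2 (Ideal.pow_le_pow_right (by omega) (Ideal.Quotient.eq.1 h1))

lemma sub_mem_of_tr {i j : ℕ} (h : i ≤ j) (x : G j) (hx : S.tr h x = 0) :
    ∃ w : Fin p → R, (∀ a, w a ∈ J ^ (i + 1)) ∧ ∑ a, w a • 𝒢.g j a = x := by
  have h1 := S.ker_le h x hx
  rw [← 𝒢.span] at h1
  refine Submodule.smul_induction_on h1 (fun r hr y hy => ?_) (fun y z hy hz => ?_)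
  · obtain ⟨c, rfl⟩ := (Submodule.mem_span_range_iff_exists_fun R).1 hy
    exact ⟨fun a => r * c a, fun a => Ideal.mul_mem_right _ _ hr, by simp [Finset.smul_sum, mul_smul]⟩
  · obtain ⟨c, hc, rfl⟩ := hy
    obtain ⟨d, hd, rfl⟩ := hz
    exact ⟨c + d, fun a => add_mem (hc a) (hd a), by simp [add_smul, Finset.sum_add_distrib]⟩

/-- A compatible family from level `m` on comes from the completion, extending a given representative. -/
theorem exists_val_eq (m : ℕ) (x : ∀ l, G l) (hx : ∀ l, m ≤ l → S.tr (Nat.le_succ l) (x (l + 1)) = x l)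
    (u : Fin p → R) (hu : ∑ a, u a • 𝒢.g m a = x m) :
    ∃ v : Fin p → R̂, (∀ l, m ≤ l → 𝒢.val l v = x l) ∧
      ∀ a, AdicCompletion.evalₐ J (m + 1) (v a) = Ideal.Quotient.mk (J ^ (m + 1)) (u a) := by
  have step : ∀ k (r : Fin p → R), ∑ a, r a • 𝒢.g (m + k) a = x (m + k) →
      ∃ r' : Fin p → R, ∑ a, r' a • 𝒢.g (m + k + 1) a = x (m + k + 1) ∧ ∀ a, r' a - r a ∈ J ^ (m + k + 1) := by
    intro k r hr
    obtain ⟨w, hw, hw'⟩ := 𝒢.sub_mem_of_tr (Nat.le_succ (m + k)) (x (m + k + 1) - ∑ a, r a • 𝒢.g (m + k + 1) a)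
      (by
        rw [map_sub, hx _ (Nat.le_add_right m k)]
        simp only [map_sum, map_smul, 𝒢.compat, hr, sub_self])
    exact ⟨r + w, by simp [add_smul, Finset.sum_add_distrib, hw'], fun a => by simpa using hw a⟩
  choose nxt hnxt hdiff using step
  let Y : ∀ k, {r : Fin p → R // ∑ a, r a • 𝒢.g (m + k) a = x (m + k)} := fun k =>
    Nat.rec (motive := fun k => {r : Fin p → R // ∑ a, r a • 𝒢.g (m + k) a = x (m + k)})
      ⟨u, hu⟩ (fun k r => ⟨nxt k r.1 r.2, hnxt k r.1 r.2⟩) k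
  have hcauchy : ∀ a n, (Y (n - (m + 1))).1 a ≡ (Y (n + 1 - (m + 1))).1 a
      [SMOD (J ^ n • ⊤ : Submodule R R)] := by
    intro a n
    by_cases hn : n ≤ m
    · rw [show n - (m + 1) = 0 by omega, show n + 1 - (m + 1) = 0 by omega]
    · obtain ⟨k, rfl⟩ := Nat.exists_eq_add_of_le (show m + 1 ≤ n by omega)
      rw [show m + 1 + k - (m + 1) = k by omega, show m + 1 + k + 1 - (m + 1) = k + 1 by omega,
        SModEq.sub_mem, smul_eq_mul, Ideal.mul_top, show m + 1 + k = m + k + 1 by omega]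
      exact neg_sub ((Y (k + 1)).1 a) _ ▸ neg_mem (hdiff k (Y k).1 (Y k).2 a)
  let v : Fin p → R̂ := fun a => AdicCompletion.mk J R (AdicCompletion.AdicCauchySequence.mk J R _ (hcauchy a))
  have hv : ∀ a n, AdicCompletion.evalₐ J n (v a) = Ideal.Quotient.mk (J ^ n) ((Y (n - (m + 1))).1 a) :=
    fun a n => AdicCompletion.evalₐ_mk J n _
  refine ⟨v, fun l hl => ?_, fun a => by rw [hv, Nat.sub_self]; rfl⟩
  obtain ⟨k, rfl⟩ := Nat.exists_eq_add_of_le hl
  rw [val_eq 𝒢 (m + k) v (Y k).1 (fun a => by rw [hv, show m + k + 1 - (m + 1) = k by omega])]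
  exact (Y k).2



include 𝒢 in
/-- Two-fold Artin–Rees: the sections killed by a power of `K` meet `K^j` only pro-trivially. -/
theorem exists_pro_disjoint [IsNoetherianRing R] (P : ∀ l, Submodule R (G l))
    (hPtr : ∀ {i j : ℕ} (h : i ≤ j) x, x ∈ P j → S.tr h x ∈ P i)
    (hPsurj : ∀ (l : ℕ) x, x ∈ P l → ∃ y ∈ P (l + 1), S.tr (Nat.le_succ l) y = x)
    (K : Ideal R) (e : ℕ) (hK : ∀ l, ∀ r ∈ K ^ e, ∀ x ∈ P l, r • x = 0) :
    ∃ j₀ c, ∀ j, j₀ ≤ j → ∀ n m (h : n ≤ m), n + c ≤ m →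
      ∀ y ∈ P m, y ∈ (K ^ j • ⊤ : Submodule R (G m)) → S.tr h y = 0 := by
  have hfg : J.FG := IsNoetherian.noetherian J
  have : IsNoetherianRing R̂ := Groth.Calg1.isNoetherianRing_adicCompletion J hfg
  let Z : Submodule R̂ (Fin p → R̂) :=
    { carrier := {v | ∀ l, 𝒢.val l v = 0}
      add_mem' := fun hv hw l => by rw [val_add, hv, hw, add_zero]
      zero_mem' := fun l => val_zero 𝒢 l
      smul_mem' := fun x v hv l => by rw [val_smul, hv, smul_zero] }
  let P' : Submodule R̂ (Fin p → R̂) :=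
    { carrier := {v | ∀ l, 𝒢.val l v ∈ P l}
      add_mem' := fun hv hw l => by rw [val_add]; exact add_mem (hv l) (hw l)
      zero_mem' := fun l => by rw [val_zero]; exact zero_mem _
      smul_mem' := fun x v hv l => by rw [val_smul]; exact Submodule.smul_mem _ _ (hv l) }
  let π := Z.mkQ
  let JJ := J.map (algebraMap R R̂)
  let KK := K.map (algebraMap R R̂)
  let Q := P'.map π
  have hZP : Z ≤ P' := fun v hv l => by rw [hv l]; exact zero_mem _
  -- `K^e` kills `Q`
  have hKQ : KK ^ e • Q = ⊥ := by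
    rw [eq_bot_iff, ← Ideal.map_pow]
    refine Submodule.smul_le.2 fun x hx y hy => ?_
    obtain ⟨v, hv, rfl⟩ := hy
    induction hx using Submodule.span_induction with
    | mem z hz =>
      obtain ⟨r, hr, rfl⟩ := hz
      rw [← map_smul, Submodule.mem_bot]
      exact (Submodule.Quotient.mk_eq_zero Z).2 fun l => by rw [val_algebraMap_smul, hK l r hr _ (hv l)]
    | zero => simp
    | add a b _ _ ha hb => rw [add_smul]; exact add_mem ha hb
    | smul a b _ hb => rw [smul_eq_mul, mul_smul]; exact Submodule.smul_mem _ _ hb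
  -- first Artin–Rees
  obtain ⟨c₁, hc₁⟩ := Ideal.exists_pow_inf_eq_pow_smul KK Q
  have hdisj : ∀ j, c₁ + e ≤ j → KK ^ j • ⊤ ⊓ Q = ⊥ := by
    intro j hj
    rw [hc₁ j (by omega), eq_bot_iff, ← hKQ]
    exact Submodule.smul_mono (Ideal.pow_le_pow_right (by omega)) inf_le_right
  refine ⟨c₁ + e, ?_⟩
  -- second Artin–Rees, in the quotient by `K^(c₁+e)`
  let E : Submodule R̂ ((Fin p → R̂) ⧸ Z) := KK ^ (c₁ + e) • ⊤
  obtain ⟨c, hc⟩ := Ideal.exists_pow_inf_eq_pow_smul JJ (Q.map E.mkQ)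
  refine ⟨c, fun j hj n m h hnm y hyP hyK => ?_⟩
  -- lift `y` into `P'`
  obtain ⟨v, hv, hvy⟩ : ∃ v ∈ P', 𝒢.val m v = y := by
    choose up hup htr using fun l (x : P l) => hPsurj l x.1 x.2
    let Y : ∀ k, P (m + k) := fun k => Nat.rec (motive := fun k => P (m + k)) ⟨y, hyP⟩
      (fun k x => ⟨up (m + k) x, hup (m + k) x⟩) k
    let x : ∀ l, G l := fun l => if hl : m ≤ l then
      S.tr (show l ≤ m + (l - m) by omega) (Y (l - m)).1 else 0
    have hY : ∀ k, S.tr (Nat.le_succ (m + k)) (Y (k + 1)).1 = (Y k).1 := fun k => htr (m + k) (Y k)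
    have hxk : ∀ k, x (m + k) = (Y k).1 := fun k => by
      have e : ∀ i (_ : i = k) (hi : m + k ≤ m + i), S.tr hi (Y i).1 = (Y k).1 := by
        rintro i rfl hi
        exact S.tr_self _ _
      simp only [x, Nat.le_add_right, dite_true]
      exact e _ (by omega) _
    obtain ⟨r, hr⟩ := (Submodule.mem_span_range_iff_exists_fun R).1
      (show y ∈ Submodule.span R (Set.range (𝒢.g m)) by rw [𝒢.span]; trivial)
    obtain ⟨v, hv, -⟩ := 𝒢.exists_val_eq m x (fun l hl => by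
      obtain ⟨k, rfl⟩ := Nat.exists_eq_add_of_le hl
      have h0 := hxk (k + 1)
      change x (m + k + 1) = _ at h0
      rw [h0, hxk]
      exact hY k) r (hr.trans (hxk 0).symm)
    refine ⟨v, fun l => ?_, (hv m le_rfl).trans (hxk 0)⟩
    rw [← tr_val 𝒢 (Nat.le_add_left l m) v, hv (m + l) (Nat.le_add_right m l), hxk]
    exact hPtr _ _ (Y l).2
  obtain ⟨k, hk, hky⟩ : ∃ k ∈ (KK ^ (c₁ + e) • ⊤ : Submodule R̂ (Fin p → R̂)), 𝒢.val m k = y := by
    refine Submodule.smul_induction_on (Submodule.smul_mono_left (Ideal.pow_le_pow_right hj) hyK)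
      (fun r hr z _ => ?_) fun a b ⟨ka, ha, ha'⟩ ⟨kb, hb, hb'⟩ => ⟨ka + kb, add_mem ha hb, by rw [val_add, ha', hb']⟩
    obtain ⟨w, rfl⟩ := 𝒢.val_surjective m z
    refine ⟨algebraMap R R̂ r • w, Submodule.smul_mem_smul ?_ trivial, val_algebraMap_smul 𝒢 m r w⟩
    rw [← Ideal.map_pow]
    exact Ideal.mem_map_of_mem _ hr
  -- `v - k` lies in `Z + J^(m+1)`
  obtain ⟨z, hz, hdiff⟩ : ∃ z ∈ Z, v - k - z ∈ (JJ ^ (m + 1) • ⊤ : Submodule R̂ (Fin p → R̂)) := by
    set w := v - k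
    have hw : 𝒢.val m w = 0 := by rw [val_sub, hvy, hky, sub_self]
    obtain ⟨w', hw', hw''⟩ := 𝒢.exists_val_eq m (fun l => 𝒢.val l w) (fun l _ => tr_val 𝒢 _ w) 0
      (by simp [hw])
    refine ⟨w - w', fun l => ?_, ?_⟩
    · rw [← tr_val 𝒢 (Nat.le_add_left l m), val_sub, hw' (m + l) (Nat.le_add_right m l), sub_self, map_zero]
    rw [sub_sub_cancel]
    have hmem : ∀ a, w' a ∈ JJ ^ (m + 1) := fun a => by
      have h0 : AdicCompletion.eval J R (m + 1) (w' a) = 0 := by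
        rw [← AdicCompletion.factor_evalₐ_eq_eval J (w' a) (show J ^ (m + 1) ≤ J ^ (m + 1) • (⊤ : Ideal R) by simp),
          hw'', Pi.zero_apply, map_zero, map_zero]
      have h1 : w' a ∈ J ^ (m + 1) • (⊤ : Submodule R R̂) := by
        rw [AdicCompletion.pow_smul_top_eq_ker_eval hfg]; exact h0
      rw [← Ideal.map_pow]
      refine Submodule.smul_induction_on h1 (fun r hr x _ => ?_) fun _ _ => add_mem
      rw [Algebra.smul_def]
      exact Ideal.mul_mem_right _ _ (Ideal.mem_map_of_mem _ hr)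
    rw [pi_eq_sum_univ w' (R := R̂)]
    exact Submodule.sum_mem _ fun a _ => Submodule.smul_mem_smul (hmem a) trivial
  -- conclude
  have hvQ : π v ∈ Q := ⟨v, hv, rfl⟩
  have hvJ : E.mkQ (π v) ∈ JJ ^ (m + 1) • ⊤ ⊓ Q.map E.mkQ := by
    refine ⟨?_, π v, hvQ, rfl⟩
    have e1 : E.mkQ (π v) = E.mkQ (π k) + E.mkQ (π z) + E.mkQ (π (v - k - z)) := by
      simp only [map_sub]; abel
    have hk' : E.mkQ (π k) = 0 := (Submodule.Quotient.mk_eq_zero E).2 (by
      have : π k ∈ (KK ^ (c₁ + e) • ⊤ : Submodule R̂ (Fin p → R̂)).map π := ⟨k, hk, rfl⟩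
      rw [Submodule.map_smul''] at this
      exact Submodule.smul_mono le_rfl le_top this)
    have hz' : π z = 0 := (Submodule.Quotient.mk_eq_zero Z).2 hz
    rw [e1, hk', hz', map_zero, add_zero, zero_add]
    have : E.mkQ (π (v - k - z)) ∈ ((JJ ^ (m + 1) • ⊤ : Submodule R̂ (Fin p → R̂)).map π).map E.mkQ :=
      ⟨_, ⟨_, hdiff, rfl⟩, rfl⟩
    rw [Submodule.map_smul'', Submodule.map_smul''] at this
    exact Submodule.smul_mono le_rfl le_top this
  rw [hc (m + 1) (by omega)] at hvJ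
  have h5 : E.mkQ (π v) ∈ (JJ ^ (n + 1) • Q).map E.mkQ := by
    rw [Submodule.map_smul'']
    exact Submodule.smul_mono (Ideal.pow_le_pow_right (by omega)) inf_le_right hvJ
  obtain ⟨q, hq, hqv⟩ := h5
  have h6 : π v - q ∈ KK ^ (c₁ + e) • ⊤ ⊓ Q :=
    ⟨(Submodule.Quotient.eq E).1 hqv.symm, sub_mem hvQ (Submodule.smul_le_right hq)⟩
  rw [hdisj _ le_rfl, Submodule.mem_bot, sub_eq_zero] at h6
  rw [← h6] at hq
  -- `J^(n+1)` dies at level `n`
  obtain ⟨v', hv', hv'eq⟩ : π v ∈ (JJ ^ (n + 1) • P').map π := by rwa [Submodule.map_smul'']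
  have hval : 𝒢.val n v = 𝒢.val n v' := by
    rw [← sub_eq_zero, ← val_sub]
    exact (Submodule.Quotient.eq Z).1 hv'eq.symm n
  rw [← hvy, tr_val, hval]
  refine Submodule.smul_induction_on hv' (fun x hx w hw => ?_) fun a b ha hb => by rw [val_add, ha, hb, add_zero]
  rw [← Ideal.map_pow] at hx
  clear hw
  induction hx using Submodule.span_induction generalizing w with
  | mem t ht =>
    obtain ⟨r, hr, rfl⟩ := ht
    rw [val_algebraMap_smul]
    exact S.killed n r hr _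
  | zero => rw [zero_smul, val_zero]
  | add a b _ _ ha hb => rw [add_smul, val_add, ha, hb, add_zero]
  | smul a b _ hb => rw [smul_eq_mul, mul_comm, mul_smul]; exact hb _

end Gens

end FMod

end Groth.CohC3
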