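import Groth.Agent.CohC3.ProKernel

/-! Maps of completions when source or target is killed by a power of the ideal. -/

universe u

open CategoryTheory CategoryTheory.Limits AlgebraicGeometry Opposite TopologicalSpace

namespace Groth.CohC3

variable {A : Type u} [CommRing A] {X : Scheme.{u}} [X.Over (Spec (CommRingCat.of A))]

/-- Maps of completions come from unique maps if one of the modules is killed by a power of `I`. -/
theorem existsUnique_hom_of_killed [IsNoetherian X] (I : Ideal A) {F G : X.Modules} (hF : Coh.IsCoh F)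
    (hG : Coh.IsCoh G) (c : ℕ) (h : Formal.KilledBy (I ^ c) F ∨ Formal.KilledBy (I ^ c) G)
    (ψ : Formal.completion I F ⟶ Formal.completion I G) :
    ∃! φ : F ⟶ G, ∀ n : ℕ, Formal.modPowπ I (n + 1) F ≫ ψ.app (op n) = φ ≫ Formal.modPowπ I (n + 1) G := by
  let χ : ∀ n, F ⟶ (Formal.completion I G).obj (op n) := fun n => Formal.modPowπ I (n + 1) F ≫ ψ.app (op n)
  have hχ : ∀ {i j : ℕ} (hij : i ≤ j), χ j ≫ sysMap (Formal.completion I G) hij = χ i := fun {i j} hij => by
    refine (Category.assoc _ _ _).trans ?_
    refine (congrArg (Formal.modPowπ I (j + 1) F ≫ ·) (ψ.naturality (homOfLE hij).op).symm).trans ?_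
    exact (Category.assoc _ _ _).symm.trans (congrArg (· ≫ ψ.app (op i)) (modPowπ_sysMap I F hij))
  change ∃! φ : F ⟶ G, ∀ n, χ n = φ ≫ Formal.modPowπ I (n + 1) G
  rcases h with hK | hK
  · have := hF.1
    have := hG.1
    obtain ⟨k, a, ha, htest⟩ := exists_testVec X (I ^ c)
    let w := smulVec a G
    have hpw := isCoh_pw k hG
    have := hpw.1
    have hT : Coh.IsCoh (kernel w) := QCohMod.isCoh_kernel w hG
    have hTK : Formal.KilledBy (I ^ c) (kernel w) := killedBy_kernel_smulVec htest G
    obtain ⟨d₁, hd₁⟩ := exists_pro_kernel I hG hpw w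
    obtain ⟨d₂, hd₂⟩ := exists_pro_mono I hT hG (kernel.ι w)
    let g : ∀ n, kernel w ⟶ (Formal.completion I G).obj (op n) := fun n =>
      kernel.ι w ≫ Formal.modPowπ I (n + 1) G
    set N := c + d₂ with hN
    have hmono : ∀ n, N ≤ n → Mono (g n) := fun n hn => by
      have := hT.1
      have : ((Formal.completion I G).obj (op n)).IsQuasicoherent := isQCoh_of_isQuot (isQuot_modPowπ I (n + 1) G)
      refine Preadditive.mono_of_kernel_zero (hom_eq_zero_of_cover (kernel.ι (g n)) fun x => ?_)
      obtain ⟨U, hxU, hU⟩ := hd₂ x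
      refine ⟨U, U.2, hxU, fun s => ?_⟩
      have h0 := hU c n hn ((kernel.ι (g n)).app U s) congr(($(kernel.condition (g n))).app (U : X.Opens) s)
      have : IsIso (Formal.modPowπ I (c + 1) (kernel w)) :=
        (isQuot_modPowπ I (c + 1) (kernel w)).isIso_of_killedBy fun b hb =>
          hTK b (Ideal.pow_le_pow_right (Nat.le_succ c) hb)
      exact CohTwo.app_injective (Formal.modPowπ I (c + 1) (kernel w)) _ (h0.trans (map_zero _).symm)
    have hlift : ∀ n, N ≤ n → ∃ l : F ⟶ kernel w, l ≫ g n = χ n := fun n hn => by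
      have := hmono n hn
      refine ⟨Abelian.monoLift (g n) (χ n) (hom_eq_zero_of_cover _ fun x => ?_), Abelian.monoLift_comp _ _ _⟩
      obtain ⟨U, hxU, hU⟩ := hd₁ x
      refine ⟨U, U.2, hxU, fun s => ?_⟩
      obtain ⟨q, hq⟩ := (isQuot_modPowπ I (n + d₁ + 1) G).app_surjective U.2 ((χ (n + d₁)).app U s)
      obtain ⟨t, ht⟩ := hU n (n + d₁) le_rfl q (modPowπ_pw_app_eq_zero fun i => by
        rw [app_comp_apply (smulVec a G), biproduct.lift_π, smulMod_app, Scheme.Modules.Hom.app_smul, hq]
        refine ((χ (n + d₁)).app_smul _ _).symm.trans ?_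
        rw [show baseApp X (U : X.Opens) (a i) • s = 0 from congr(($(hK (a i) (ha i))).app (U : X.Opens) s)]
        exact map_zero _)
      have e : (g n).app U t = (χ n).app U s := by
        refine ht.trans ?_
        rw [← congr(($(modPowπ_sysMap I G (Nat.le_add_right n d₁))).app (U : X.Opens) q)]
        exact (congrArg ((sysMap (Formal.completion I G) (Nat.le_add_right n d₁)).app U) hq).trans
          congr(($(hχ (Nat.le_add_right n d₁))).app (U : X.Opens) s)
      rw [Scheme.Modules.Hom.comp_app, ConcreteCategory.comp_apply, ← e, app_comp_apply, cokernel.condition]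
      rfl
    choose l hl using hlift
    refine ⟨l N le_rfl ≫ kernel.ι w, fun n => ?_, fun φ hφ => ?_⟩
    · have hm : N ≤ max n N := le_max_right _ _
      have := hmono N le_rfl
      have e : l (max n N) hm = l N le_rfl := by
        rw [← cancel_mono (g N), hl, ← hχ hm, ← hl (max n N) hm]
        refine Eq.symm ((Category.assoc _ _ _).trans (congrArg (l (max n N) hm ≫ ·) ?_))
        exact (Category.assoc _ _ _).trans (congrArg (kernel.ι w ≫ ·) (modPowπ_sysMap I G hm))
      rw [← e, ← hχ (le_max_left n N), ← hl (max n N) hm]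
      refine (Category.assoc _ _ _).trans (Eq.trans ?_ (Category.assoc _ _ _).symm)
      exact congrArg (l (max n N) hm ≫ ·) ((Category.assoc _ _ _).trans
        (congrArg (kernel.ι w ≫ ·) (modPowπ_sysMap I G (le_max_left n N))))
    · have hφw : φ ≫ w = 0 := comp_smulVec_eq_zero ha φ fun b hb => by
        rw [mem_annHom, hK b hb, zero_comp]
      have := hmono N le_rfl
      rw [← kernel.lift_ι w φ hφw, cancel_mono, ← cancel_mono (g N), hl]
      exact ((Category.assoc _ _ _).symm.trans ((congrArg (· ≫ Formal.modPowπ I (N + 1) G)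
        (kernel.lift_ι w φ hφw)).trans (hφ N).symm))
  · have hc : IsIso (Formal.modPowπ I (c + 1) G) :=
      (isQuot_modPowπ I (c + 1) G).isIso_of_killedBy fun b hb => hK b (Ideal.pow_le_pow_right (Nat.le_succ c) hb)
    let ι' : Formal.modPow I (c + 1) G ⟶ G := inv (Formal.modPowπ I (c + 1) G)
    let φ : F ⟶ G := χ c ≫ ι'
    have h1 : φ ≫ Formal.modPowπ I (c + 1) G = χ c :=
      (Category.assoc _ _ _).trans ((congrArg (χ c ≫ ·)
        (IsIso.inv_hom_id (Formal.modPowπ I (c + 1) G))).trans (Category.comp_id (χ c)))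
    refine ⟨φ, fun n => ?_, fun φ' hφ' => ?_⟩
    · have hm : c ≤ max n c := le_max_right _ _
      have : IsIso (Formal.modPowπ I (max n c + 1) G) :=
        (isQuot_modPowπ I (max n c + 1) G).isIso_of_killedBy fun b hb =>
          hK b (Ideal.pow_le_pow_right (by omega) hb)
      have : IsIso (sysMap (Formal.completion I G) hm) :=
        IsIso.of_isIso_fac_left (f := Formal.modPowπ I (max n c + 1) G)
          (h := Formal.modPowπ I (c + 1) G) (hh := hc) (modPowπ_sysMap I G hm)
      have e : φ ≫ Formal.modPowπ I (max n c + 1) G = χ (max n c) := by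
        refine (cancel_mono (sysMap (Formal.completion I G) hm)).1 ?_
        exact (Category.assoc _ _ _).trans ((congrArg (φ ≫ ·) (modPowπ_sysMap I G hm)).trans
          (h1.trans (hχ hm).symm))
      rw [← hχ (le_max_left n c), ← e, ← modPowπ_sysMap I G (le_max_left n c)]
      exact Category.assoc _ _ _
    · rw [← cancel_mono (Formal.modPowπ I (c + 1) G)]
      exact (hφ' c).symm.trans h1.symm

end Groth.CohC3
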