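import Groth.Agent.VarietyBC.GGen
import Groth.Agent.CohC3.ProKernel
import Groth.Agent.QCohMod.SupportPullback
import Groth.Agent.RefRank.HomSec
import Groth.Agent.CohTwo.CohInduction
import Groth.Agent.CohTwo.SupportLocal
import Groth.Agent.Ega2Proj.QuasiAffineAmple

/-! Finitely many global sections generate a globally generated coherent module. -/

universe u

open CategoryTheory CategoryTheory.Limits AlgebraicGeometry Opposite TopologicalSpace

namespace Groth.CohC3

variable {X : Scheme.{u}} [IsNoetherian X] {Q : X.Modules}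

/-- The map of finitely many global sections. -/
noncomputable abbrev secHom (T : Finset Γ(Q, ⊤)) : pw T.card (Coh.structureModule X) ⟶ Q :=
  biproduct.desc fun i => Groth.PicAux.homOfSection (T.equivFin.symm i).1

lemma germ_mem_range_secHom (T : Finset Γ(Q, ⊤)) (x : X) {s : Γ(Q, ⊤)} (hs : s ∈ T) :
    QCohMod.germ Q x (Set.mem_univ x : x ∈ (⊤ : X.Opens)) s ∈ LinearMap.range (RefHull.stalkMapₗ (secHom T) x) := by
  refine ⟨QCohMod.germ _ x (Set.mem_univ x : x ∈ (⊤ : X.Opens))
    ((biproduct.ι (fun _ : Fin T.card => Coh.structureModule X) (T.equivFin ⟨s, hs⟩)).app ⊤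
      (Groth.PicAux.oneSec X ⊤)), ?_⟩
  refine (RefHull.stalkMapₗ_germ (secHom T) x (Set.mem_univ x : x ∈ (⊤ : X.Opens)) _).trans ?_
  congr 1
  rw [app_comp_apply, biproduct.ι_desc, Equiv.symm_apply_apply, Groth.PicAux.homOfSection_one]

/-- Finitely many global sections suffice. -/
theorem exists_epi_secHom (hQ : Coh.IsCoh Q) (hg : Curv2.IsGloballyGenerated Q) :
    ∃ T : Finset Γ(Q, ⊤), Epi (secHom T) := by
  classical
  have := hQ.1
  have hO : Coh.IsCoh (Coh.structureModule X) :=
    ⟨QCohMod.isQCoh_unit X, Groth.Ega2Proj.isFT_of_isInvertible (Groth.Ega2Proj.isInvertible_structure X)⟩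
  have hloc : ∀ x : X, ∃ T : Finset Γ(Q, ⊤), x ∉ CohB1.support (cokernel (secHom T)) := fun x => by
    have hfg : (⊤ : Submodule (X.presheaf.stalk x) (Q.presheaf.stalk x)).FG :=
      (QCohMod.finite_stalk Q hQ.2 x).fg_top
    rw [← Groth.VarietyBC.GGen.spansStalks hg x, Submodule.fg_span_iff_fg_span_finset_subset] at hfg
    obtain ⟨F, hF, hspan⟩ := hfg
    choose g hg' using fun v : F => hF v.2
    refine ⟨Finset.univ.image g, CohTwo.notMem_support_cokernel _ x ?_⟩
    suffices LinearMap.range (RefHull.stalkMapₗ (secHom (Finset.univ.image g)) x) = ⊤ from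
      fun t => this.ge (trivial : t ∈ ⊤)
    refine eq_top_iff.2 ?_
    rw [← Groth.VarietyBC.GGen.spansStalks hg x, hspan, Submodule.span_le]
    intro v hv
    obtain ⟨w, hw⟩ := germ_mem_range_secHom (Finset.univ.image g) x (Finset.mem_image_of_mem g (Finset.mem_univ ⟨v, hv⟩))
    exact ⟨w, hw.trans (hg' ⟨v, hv⟩)⟩
  choose T hT using hloc
  have hcoh : ∀ x, Coh.IsCoh (cokernel (secHom (T x))) := fun x =>
    have := (isCoh_pw (T x).card hO).1
    QCohMod.isCoh_cokernel _ hQ
  obtain ⟨F, hF⟩ := CompactSpace.isCompact_univ.elim_finite_subcover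
    (fun x => (CohB1.support (cokernel (secHom (T x))))ᶜ)
    (fun x => (CohTwo.isClosed_support _ (hcoh x)).isOpen_compl)
    (fun x _ => Set.mem_iUnion.2 ⟨x, hT x⟩)
  refine ⟨F.biUnion T, (QCohMod.epi_iff_stalk _).2 fun y t => ?_⟩
  obtain ⟨x, hxF, hy⟩ := Set.mem_iUnion₂.1 (hF (Set.mem_univ y))
  have hsub : Subsingleton ↑((QCohMod.stalk y).obj (cokernel (secHom (T x)))) := not_not.1 hy
  obtain ⟨s, hs⟩ : ∃ s, (QCohMod.stalk y).map (secHom (T x)) s = t := by
    have h1 : ((ShortComplex.mk (secHom (T x)) (cokernel.π _) (cokernel.condition _)).map (QCohMod.stalk y)).Exact :=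
      (ShortComplex.exact_of_g_is_cokernel _ (cokernelIsCokernel (secHom (T x)))).map (QCohMod.stalk y)
    exact (ShortComplex.ab_exact_iff _).1 h1 t (hsub.elim _ _)
  let u : pw (T x).card (Coh.structureModule X) ⟶ pw (F.biUnion T).card (Coh.structureModule X) :=
    biproduct.desc fun i => biproduct.ι (fun _ : Fin (F.biUnion T).card => Coh.structureModule X)
      ((F.biUnion T).equivFin ⟨((T x).equivFin.symm i).1, Finset.mem_biUnion.2 ⟨x, hxF, ((T x).equivFin.symm i).2⟩⟩)
  have hu : u ≫ secHom (F.biUnion T) = secHom (T x) := biproduct.hom_ext' _ _ fun i => by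
    simp [u, secHom]
  exact ⟨(QCohMod.stalk y).map u s, by rw [← ConcreteCategory.comp_apply, ← Functor.map_comp, hu, hs]⟩

end Groth.CohC3
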