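import Groth.Agent.CohC3.GradedCoh
import Groth.Agent.CohC3.Completion

/-! The sequence of kernels of the transition maps of a formal module. -/

universe u

open CategoryTheory CategoryTheory.Limits AlgebraicGeometry Opposite TopologicalSpace

namespace Groth.CohC3

variable {A : Type u} [CommRing A] {X : Scheme.{u}} [X.Over (Spec (CommRingCat.of A))]
  {I : Ideal A} {G : ℕᵒᵖ ⥤ X.Modules} (hG : IsSys I G)

/-- The kernel of a transition map. -/
noncomputable abbrev grObj (G : ℕᵒᵖ ⥤ X.Modules) (n : ℕ) : X.Modules :=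
  kernel (sysMap G (Nat.le_succ n))

lemma mul_le_annHom_smulMod {M : X.Modules} {J : Ideal A} (hM : Formal.KilledBy J M) {K : Ideal A}
    {a : A} (ha : ∀ b ∈ K, a * b ∈ J) : K ≤ annHom (Formal.smulMod A M a) := fun b hb => by
  rw [mem_annHom, ← smulMod_mul]
  exact hM _ (ha b hb)

include hG in
lemma exists_raiseSys {a : A} (ha : a ∈ I) (n : ℕ) :
    ∃ ψ : G.obj (op n) ⟶ G.obj (op (n + 1)), sysMap G (Nat.le_succ n) ≫ ψ = Formal.smulMod A _ a :=
  (hG.isQuot_succ n).desc _ (mul_le_annHom_smulMod (hG.killed (n + 1)) fun b hb => by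
    rw [pow_succ']; exact Ideal.mul_mem_mul ha hb)

/-- Multiplication by an element of `I`, raising the level. -/
noncomputable def raiseSys {a : A} (ha : a ∈ I) (n : ℕ) : G.obj (op n) ⟶ G.obj (op (n + 1)) :=
  (exists_raiseSys hG ha n).choose

@[reassoc]
lemma sysMap_raiseSys {a : A} (ha : a ∈ I) (n : ℕ) :
    sysMap G (Nat.le_succ n) ≫ raiseSys hG ha n = Formal.smulMod A _ a :=
  (exists_raiseSys hG ha n).choose_spec

@[reassoc]
lemma raiseSys_sysMap {a : A} (ha : a ∈ I) (n : ℕ) :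
    raiseSys hG ha n ≫ sysMap G (Nat.le_succ n) = Formal.smulMod A _ a :=
  (hG.isQuot_succ n).hom_ext (by rw [sysMap_raiseSys_assoc, smulMod_naturality])

include hG in
lemma kernelι_smulMod {a : A} (ha : a ∈ I) (n : ℕ) :
    kernel.ι (sysMap G (Nat.le_succ n)) ≫ Formal.smulMod A _ a = 0 := by
  rw [← sysMap_raiseSys hG ha n, kernel.condition_assoc, zero_comp]

/-- The operators on the kernels. -/
noncomputable def grOp {a : A} (ha : a ∈ I) (n : ℕ) : grObj G n ⟶ grObj G (n + 1) :=
  kernel.lift _ (kernel.ι (sysMap G (Nat.le_succ n)) ≫ raiseSys hG ha (n + 1))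
    (by rw [Category.assoc, raiseSys_sysMap, kernelι_smulMod hG ha])

@[reassoc]
lemma grOp_ι {a : A} (ha : a ∈ I) (n : ℕ) :
    grOp hG ha n ≫ kernel.ι (sysMap G (Nat.le_succ (n + 1))) =
      kernel.ι (sysMap G (Nat.le_succ n)) ≫ raiseSys hG ha (n + 1) :=
  kernel.lift_ι _ _ _

lemma raiseSys_comm {a b : A} (ha : a ∈ I) (hb : b ∈ I) (n : ℕ) :
    raiseSys hG ha n ≫ raiseSys hG hb (n + 1) = raiseSys hG hb n ≫ raiseSys hG ha (n + 1) := by
  have := ((hG.isQuot (show n ≤ n + 1 + 1 by omega))).epi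
  have key : ∀ {a b : A} (ha : a ∈ I) (hb : b ∈ I),
      sysMap G (show n ≤ n + 1 + 1 by omega) ≫ raiseSys hG ha n ≫ raiseSys hG hb (n + 1) =
        Formal.smulMod A _ a ≫ Formal.smulMod A _ b := by
    intro a b ha hb
    rw [← sysMap_comp G (Nat.le_succ n) (Nat.le_succ (n + 1)), Category.assoc, sysMap_raiseSys_assoc,
      ← Category.assoc, smulMod_naturality, Category.assoc, sysMap_raiseSys]
  rw [← cancel_epi (sysMap G (show n ≤ n + 1 + 1 by omega)), key ha hb, key hb ha, ← smulMod_mul,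
    ← smulMod_mul, mul_comm]

variable {r : ℕ} (t : Fin r → A) (ht : ∀ i, t i ∈ I)

/-- The kernels as a sequence with the generators of `I` as operators. -/
noncomputable abbrev grSeq : GSeq X r where
  obj := grObj G
  op i n := grOp hG (ht i) n
  comm i j n := by
    rw [← cancel_mono (kernel.ι (sysMap G (Nat.le_succ (n + 1 + 1))))]
    simp only [Category.assoc, grOp_ι, grOp_ι_assoc, raiseSys_comm hG (ht i) (ht j)]

variable [AlgebraicGeometry.IsNoetherian X] (hGc : ∀ n, Coh.IsCoh (G.obj (op n)))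

include hGc in
lemma isCoh_grObj (n : ℕ) : Coh.IsCoh (grObj G n) :=
  have := (hGc n).1
  QCohMod.isCoh_kernel _ (hGc (n + 1))

include hGc in
lemma gen_grSeq (hspan : Ideal.span (Set.range t) = I) : (grSeq hG t ht).Gen := by
  refine ⟨0, fun n _ => ?_⟩
  have := fun n => (hGc n).1
  have := fun n => (isCoh_grObj hGc n).1
  have : (⨁ fun _ : Fin r => grObj G n).IsQuasicoherent := (isCoh_pw r (isCoh_grObj hGc n)).1
  refine epi_of_cover _ fun x => ?_
  obtain ⟨U, hU, hx⟩ := QCohMod.exists_affine_mem x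
  refine ⟨U, hU, hx, fun y => ?_⟩
  let ψ := (biproduct.desc fun i => grOp hG (ht i) n) ≫ kernel.ι (sysMap G (Nat.le_succ (n + 1)))
  suffices ∀ m ∈ (Ideal.map (baseApp X U) (I ^ (n + 1 + 1))) • (⊤ : Submodule Γ(X, U) Γ(G.obj (op (n + 1 + 1)), U)),
      m ∈ LinearMap.range (QCohMod.appₗ ψ U) by
    obtain ⟨z, hz⟩ := this ((kernel.ι (sysMap G (Nat.le_succ (n + 1)))).app U y)
      (((hG.isQuot_succ (n + 1)).app_eq_zero_iff _ hU).1
        (congr(($(kernel.condition (sysMap G (Nat.le_succ (n + 1))))).app U y)))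
    exact ⟨z, CohTwo.app_injective (kernel.ι (sysMap G (Nat.le_succ (n + 1)))) U hz⟩
  intro m hm
  rw [pow_succ', Ideal.map_mul, ← hspan, Ideal.map_span, Submodule.mul_smul] at hm
  refine Submodule.smul_induction_on hm (fun a ha w hw => ?_) (fun a b ha hb => add_mem ha hb)
  rw [hspan] at hw
  induction ha using Submodule.span_induction with
  | zero => rw [zero_smul]; exact zero_mem _
  | add a b _ _ ha hb => rw [add_smul]; exact add_mem ha hb
  | smul c a _ ha => rw [smul_eq_mul, mul_smul]; exact Submodule.smul_mem _ _ ha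
  | mem a ha =>
    obtain ⟨_, ⟨i, rfl⟩, rfl⟩ := ha
    have hw' : (sysMap G (Nat.le_succ n)).app U ((sysMap G (Nat.le_succ (n + 1))).app U w) = 0 := by
      rw [sysMap_app_comp]
      exact ((hG.isQuot (show n ≤ n + 1 + 1 by omega)).app_eq_zero_iff w hU).2 hw
    obtain ⟨w', hw''⟩ := QCohMod.exists_app_eq_of_mono_exact
      (S := ShortComplex.mk (kernel.ι (sysMap G (Nat.le_succ n))) (sysMap G (Nat.le_succ n)) (kernel.condition _))
      (ShortComplex.exact_of_f_is_kernel _ (kernelIsKernel _)) U _ hw'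
    refine ⟨(biproduct.ι (fun _ : Fin r => grObj G n) i).app U w', ?_⟩
    have e : biproduct.ι (fun _ : Fin r => grObj G n) i ≫ ψ =
        kernel.ι (sysMap G (Nat.le_succ n)) ≫ raiseSys hG (ht i) (n + 1) :=
      (biproduct.ι_desc_assoc _ _ _).trans (grOp_ι hG (ht i) n)
    refine (congr(($e).app U w')).trans ?_
    refine (congrArg ((raiseSys hG (ht i) (n + 1)).app U) hw'').trans ?_
    exact congr(($(sysMap_raiseSys hG (ht i) (n + 1))).app U w)

end Groth.CohC3
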