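import Mathlib

/-! Sequences of modules generated, from some degree on, by commuting operators of degree one. -/

universe u v

namespace Groth.CohC3

open DirectSum MvPolynomial

variable {R : Type u} [CommRing R] {r : ℕ} {V : ℕ → Type v} [∀ n, AddCommGroup (V n)]
  [∀ n, Module R (V n)] (op : Fin r → ∀ n, V n →ₗ[R] V (n + 1))

/-- The total operator. -/
noncomputable def totalOp (i : Fin r) : Module.End R (⨁ n, V n) :=
  DirectSum.toModule R ℕ _ fun n => (DirectSum.lof R ℕ V (n + 1)).comp (op i n)

lemma totalOp_lof (i : Fin r) (n : ℕ) (x : V n) :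
    totalOp op i (DirectSum.lof R ℕ V n x) = DirectSum.lof R ℕ V (n + 1) (op i n x) :=
  DirectSum.toModule_lof R n x

lemma component_totalOp_succ (i : Fin r) (n : ℕ) (x : ⨁ n, V n) :
    DirectSum.component R ℕ V (n + 1) (totalOp op i x) = op i n (DirectSum.component R ℕ V n x) := by
  induction x using DirectSum.induction_on with
  | zero => simp
  | add x y hx hy => rw [map_add, map_add, hx, hy, map_add, map_add]
  | of m x =>
    change DirectSum.component R ℕ V (n + 1) (totalOp op i (DirectSum.lof R ℕ V m x)) =
      op i n (DirectSum.component R ℕ V n (DirectSum.lof R ℕ V m x))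
    rw [totalOp_lof]
    by_cases h : m = n
    · subst h; rw [DirectSum.component.lof_self, DirectSum.component.lof_self]
    · rw [DirectSum.component.of, dif_neg (fun e : m + 1 = n + 1 => h (Nat.succ_injective e)),
        DirectSum.component.of, dif_neg h, map_zero]

lemma component_totalOp_zero (i : Fin r) (x : ⨁ n, V n) :
    DirectSum.component R ℕ V 0 (totalOp op i x) = 0 := by
  induction x using DirectSum.induction_on with
  | zero => simp
  | add x y hx hy => rw [map_add, map_add, hx, hy, add_zero]
  | of m x =>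
    change DirectSum.component R ℕ V 0 (totalOp op i (DirectSum.lof R ℕ V m x)) = 0
    rw [totalOp_lof, DirectSum.component.of, dif_neg (Nat.succ_ne_zero m)]

variable (hcomm : ∀ i j n (x : V n), op i (n + 1) (op j n x) = op j (n + 1) (op i n x))

include hcomm in
lemma totalOp_comm (a : Module.End R (⨁ n, V n)) (ha : a ∈ Set.range (totalOp op))
    (b : Module.End R (⨁ n, V n)) (hb : b ∈ Set.range (totalOp op)) : a * b = b * a := by
  obtain ⟨i, rfl⟩ := ha
  obtain ⟨j, rfl⟩ := hb
  refine DirectSum.linearMap_ext _ fun n => LinearMap.ext fun x => ?_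
  simp only [LinearMap.comp_apply, Module.End.mul_apply, totalOp_lof, hcomm i j n x]

include hcomm in
/-- **Hilbert basis for operator sequences**: in a finitely generated sequence over a Noetherian
ring every stable subsequence is finitely generated. -/
theorem exists_bound_of_stable [IsNoetherianRing R] [∀ n, Module.Finite R (V n)] (d : ℕ)
    (hgen : ∀ n, d ≤ n → (⊤ : Submodule R (V (n + 1))) ≤ ⨆ i, LinearMap.range (op i n))
    (S : ∀ n, Submodule R (V n)) (hS : ∀ i n, (S n).map (op i n) ≤ S (n + 1)) :
    ∃ d', ∀ n, d' ≤ n → S (n + 1) ≤ ⨆ i, (S n).map (op i n) := by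
  classical
  letI : CommRing (Algebra.adjoin R (Set.range (totalOp op))) :=
    Algebra.adjoinCommRingOfComm R (totalOp_comm op hcomm)
  let ρ : MvPolynomial (Fin r) R →ₐ[R] Algebra.adjoin R (Set.range (totalOp op)) :=
    MvPolynomial.aeval fun i => ⟨totalOp op i, Algebra.subset_adjoin ⟨i, rfl⟩⟩
  letI : Module (MvPolynomial (Fin r) R) (⨁ n, V n) :=
    Module.compHom _ ((Algebra.adjoin R (Set.range (totalOp op))).val.comp ρ).toRingHom
  have hC : ∀ (a : R) (x : ⨁ n, V n), (MvPolynomial.C a : MvPolynomial (Fin r) R) • x = a • x := fun a x => by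
    change ((Algebra.adjoin R (Set.range (totalOp op))).val (ρ (MvPolynomial.C a))) x = a • x
    rw [← MvPolynomial.algebraMap_eq, AlgHom.commutes, AlgHom.commutes]
    rfl
  have hX : ∀ (i : Fin r) (x : ⨁ n, V n), (MvPolynomial.X i : MvPolynomial (Fin r) R) • x = totalOp op i x := fun i x => by
    change ((Algebra.adjoin R (Set.range (totalOp op))).val (ρ (MvPolynomial.X i))) x = _
    simp [ρ]
  -- submodules stable under scalars and the operators
  let mk : ∀ (Q : Submodule R (⨁ n, V n)), (∀ i, ∀ x ∈ Q, totalOp op i x ∈ Q) →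
      Submodule (MvPolynomial (Fin r) R) (⨁ n, V n) := fun Q hQ =>
    { carrier := Q
      zero_mem' := Q.zero_mem
      add_mem' := Q.add_mem
      smul_mem' := fun p x hx => by
        induction p using MvPolynomial.induction_on generalizing x with
        | C a => rw [hC]; exact Q.smul_mem a hx
        | add p q hp hq => rw [add_smul]; exact Q.add_mem (hp x hx) (hq x hx)
        | mul_X p i hp => rw [mul_smul, hX]; exact hp _ (hQ i x hx) }
  -- finite generation
  choose G hG using fun n => (Module.Finite.fg_top : (⊤ : Submodule R (V n)).FG)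
  have hfin : Module.Finite (MvPolynomial (Fin r) R) (⨁ n, V n) := by
    refine ⟨⟨(Finset.range (d + 1)).biUnion fun n => (G n).image (DirectSum.lof R ℕ V n), eq_top_iff.2 fun x _ => ?_⟩⟩
    set W := Submodule.span (MvPolynomial (Fin r) R)
      ((((Finset.range (d + 1)).biUnion fun n => (G n).image (DirectSum.lof R ℕ V n)) : Finset _) : Set (⨁ n, V n))
    have hsmul : ∀ (a : R) (z : ⨁ n, V n), z ∈ W → a • z ∈ W := fun a z hz => by
      rw [← hC]; exact W.smul_mem _ hz
    have key : ∀ n (z : V n), DirectSum.lof R ℕ V n z ∈ W := by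
      intro n
      induction n with
      | zero =>
        intro z
        refine Submodule.span_induction (p := fun z _ => DirectSum.lof R ℕ V 0 z ∈ W) (fun g hg => ?_)
          (by rw [map_zero]; exact W.zero_mem) (fun a b _ _ ha hb => by rw [map_add]; exact W.add_mem ha hb)
          (fun a b _ hb => by rw [map_smul]; exact hsmul a _ hb) ((hG 0).ge (trivial : z ∈ (⊤ : Submodule R (V 0))))
        exact Submodule.subset_span (Finset.mem_biUnion.2 ⟨0, Finset.mem_range.2 (Nat.succ_pos d), Finset.mem_image_of_mem _ hg⟩)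
      | succ n ih =>
        intro z
        by_cases hn : d ≤ n
        · refine Submodule.iSup_induction _ (motive := fun z => DirectSum.lof R ℕ V (n + 1) z ∈ W)
            (hgen n hn (trivial : z ∈ (⊤ : Submodule R (V (n + 1))))) ?_
            (by rw [map_zero]; exact W.zero_mem) fun a b ha hb => by rw [map_add]; exact W.add_mem ha hb
          rintro i _ ⟨z', rfl⟩
          rw [← totalOp_lof, ← hX]
          exact W.smul_mem _ (ih z')
        · refine Submodule.span_induction (p := fun z _ => DirectSum.lof R ℕ V (n + 1) z ∈ W) (fun g hg => ?_)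
            (by rw [map_zero]; exact W.zero_mem) (fun a b _ _ ha hb => by rw [map_add]; exact W.add_mem ha hb)
            (fun a b _ hb => by rw [map_smul]; exact hsmul a _ hb) ((hG (n + 1)).ge (trivial : z ∈ (⊤ : Submodule R (V (n + 1)))))
          exact Submodule.subset_span (Finset.mem_biUnion.2 ⟨n + 1, Finset.mem_range.2 (by omega), Finset.mem_image_of_mem _ hg⟩)
    induction x using DirectSum.induction_on with
    | zero => exact W.zero_mem
    | add a b ha hb => exact W.add_mem (ha trivial) (hb trivial)
    | of n z => exact key n z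
  let S₀ : Submodule R (⨁ n, V n) := ⨅ n, (S n).comap (DirectSum.component R ℕ V n)
  have hS₀ : ∀ i, ∀ x ∈ S₀, totalOp op i x ∈ S₀ := fun i x hx => by
    simp only [S₀, Submodule.mem_iInf, Submodule.mem_comap] at hx ⊢
    intro n
    rcases n with _ | n
    · rw [component_totalOp_zero]; exact zero_mem _
    · rw [component_totalOp_succ]; exact hS i n (Submodule.mem_map_of_mem (hx n))
  haveI := isNoetherian_of_isNoetherianRing_of_finite (MvPolynomial (Fin r) R) (⨁ n, V n)
  obtain ⟨F, hF⟩ := IsNoetherian.noetherian (mk S₀ hS₀)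
  obtain ⟨d', hd'⟩ : ∃ d', ∀ x ∈ F, ∀ n, d' ≤ n → DirectSum.component R ℕ V n x = 0 := by
    refine ⟨F.sup fun x => (DFinsupp.support x).sup (· + 1), fun x hx n hn => ?_⟩
    by_contra hne
    have h1 : n + 1 ≤ (DFinsupp.support x).sup (· + 1) :=
      Finset.le_sup (f := (· + 1)) (DFinsupp.mem_support_iff.2 hne)
    have h2 : n + 1 ≤ F.sup fun x => (DFinsupp.support x).sup (· + 1) :=
      h1.trans (Finset.le_sup (f := fun x => (DFinsupp.support x).sup (· + 1)) hx)
    omega
  let Q : Submodule R (⨁ n, V n) :=
    S₀ ⊓ ⨅ n : {n // d' ≤ n}, (⨆ i, (S n.1).map (op i n.1)).comap (DirectSum.component R ℕ V (n.1 + 1))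
  have hQ : ∀ i, ∀ x ∈ Q, totalOp op i x ∈ Q := fun i x hx => by
    obtain ⟨hx1, -⟩ := Submodule.mem_inf.1 hx
    refine Submodule.mem_inf.2 ⟨hS₀ i x hx1, ?_⟩
    simp only [Submodule.mem_iInf, Submodule.mem_comap]
    rintro ⟨n, hn⟩
    rw [component_totalOp_succ]
    simp only [S₀, Submodule.mem_iInf, Submodule.mem_comap] at hx1
    exact Submodule.mem_iSup_of_mem i (Submodule.mem_map_of_mem (hx1 n))
  have hle : mk S₀ hS₀ ≤ mk Q hQ := by
    rw [← hF]
    refine Submodule.span_le.2 fun x hx => ?_
    have hx0 : x ∈ mk S₀ hS₀ := hF ▸ Submodule.subset_span hx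
    refine Submodule.mem_inf.2 ⟨hx0, ?_⟩
    simp only [Submodule.mem_iInf, Submodule.mem_comap]
    rintro ⟨n, hn⟩
    rw [hd' x hx (n + 1) (by omega)]
    exact zero_mem _
  refine ⟨d', fun n hn y hy => ?_⟩
  have hy0 : DirectSum.lof R ℕ V (n + 1) y ∈ S₀ := by
    simp only [S₀, Submodule.mem_iInf, Submodule.mem_comap]
    intro m
    rw [DirectSum.component.of]
    split_ifs with h
    · subst h; exact hy
    · exact zero_mem _
  have := (Submodule.mem_inf.1 (hle hy0)).2
  simp only [Submodule.mem_iInf, Submodule.mem_comap] at this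
  simpa [DirectSum.component.lof_self] using this ⟨n, hn⟩

end Groth.CohC3
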