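import Groth.Agent.CohC3.Completion

/-! Algebraizing a formal module mapping to a completion with small kernel and cokernel. -/

universe u

open CategoryTheory CategoryTheory.Limits AlgebraicGeometry Opposite TopologicalSpace

namespace Groth.CohC3

variable {A : Type u} [CommRing A] {X : Scheme.{u}} [X.Over (Spec (CommRingCat.of A))]

lemma pullback_sec_exists {M N P : X.Modules} (f : M ⟶ P) (g : N ⟶ P) (U : X.Opens) (x : Γ(M, U))
    (y : Γ(N, U)) (h : f.app U x = g.app U y) :
    ∃ z : Γ(pullback f g, U), (pullback.fst f g).app U z = x ∧ (pullback.snd f g).app U z = y := by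
  have : PreservesLimitsOfSize.{0, 0} (QCohMod.sec U) := preservesLimitsOfSize_shrink _
  exact Types.exists_of_isPullback
    ((IsPullback.of_hasPullback f g).map (QCohMod.sec U ⋙ forget AddCommGrpCat.{u})) x y h

lemma pullback_sec_ext {M N P : X.Modules} (f : M ⟶ P) (g : N ⟶ P) (U : X.Opens)
    {z w : Γ(pullback f g, U)} (h₁ : (pullback.fst f g).app U z = (pullback.fst f g).app U w)
    (h₂ : (pullback.snd f g).app U z = (pullback.snd f g).app U w) : z = w := by
  have : PreservesLimitsOfSize.{0, 0} (QCohMod.sec U) := preservesLimitsOfSize_shrink _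
  exact Types.ext_of_isPullback
    ((IsPullback.of_hasPullback f g).map (QCohMod.sec U ⋙ forget AddCommGrpCat.{u})) h₁ h₂

omit [X.Over (Spec (CommRingCat.of A))] in
lemma biprod_sec_ext' {M N : X.Modules} (V : X.Opens) {x y : Γ(M ⊞ N, V)}
    (h₁ : (biprod.fst : M ⊞ N ⟶ M).app V x = (biprod.fst : M ⊞ N ⟶ M).app V y)
    (h₂ : (biprod.snd : M ⊞ N ⟶ N).app V x = (biprod.snd : M ⊞ N ⟶ N).app V y) : x = y := by
  have key : ∀ z : Γ(M ⊞ N, V), z = (biprod.inl : M ⟶ M ⊞ N).app V ((biprod.fst : M ⊞ N ⟶ M).app V z) +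
      (biprod.inr : N ⟶ M ⊞ N).app V ((biprod.snd : M ⊞ N ⟶ N).app V z) := fun z =>
    (congr(($(biprod.total (X := M) (Y := N))).app V z)).symm
  rw [key x, key y, h₁, h₂]

omit [X.Over (Spec (CommRingCat.of A))] in
lemma biprod_sec_ext {M N P : X.Modules} (f : P ⟶ M) (g : P ⟶ N) (V : X.Opens) {k : Γ(P, V)}
    (h₁ : (biprod.fst : M ⊞ N ⟶ M).app V ((biprod.lift f g).app V k) = (biprod.fst : M ⊞ N ⟶ M).app V 0)
    (h₂ : (biprod.snd : M ⊞ N ⟶ N).app V ((biprod.lift f g).app V k) = (biprod.snd : M ⊞ N ⟶ N).app V 0) :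
    (biprod.lift f g).app V k = 0 :=
  biprod_sec_ext' V h₁ h₂

/-- A submodule surjecting onto `F_0` is everything. -/
lemma IsSys.eq_top_of_surj {I : Ideal A} {F : ℕᵒᵖ ⥤ X.Modules} (h : IsSys I F)
    (hq : ∀ n, (F.obj (op n)).IsQuasicoherent) {U : X.Opens} (hU : IsAffineOpen U) (n : ℕ)
    (P : Submodule Γ(X, U) Γ(F.obj (op n), U))
    (hP : ∀ y₀, ∃ y ∈ P, (sysMap F (Nat.zero_le n)).app U y = y₀) : P = ⊤ := by
  have := hq n
  set J := I.map (baseApp X U)
  have hstep : (⊤ : Submodule Γ(X, U) Γ(F.obj (op n), U)) ≤ P ⊔ J • ⊤ := fun y _ => by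
    obtain ⟨z, hzP, hz⟩ := hP ((sysMap F (Nat.zero_le n)).app U y)
    have : y - z ∈ J • (⊤ : Submodule Γ(X, U) Γ(F.obj (op n), U)) := by
      have h' := ((h.isQuot (Nat.zero_le n)).app_eq_zero_iff (y - z) hU).1
        (by rw [map_sub, hz, sub_self])
      rwa [zero_add, pow_one] at h'
    simpa using Submodule.add_mem_sup hzP this
  have hpow : ∀ k, (⊤ : Submodule Γ(X, U) Γ(F.obj (op n), U)) ≤ P ⊔ J ^ k • ⊤ := by
    intro k
    induction k with
    | zero => simp
    | succ k ih =>
      refine ih.trans (sup_le le_sup_left ?_)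
      refine (Submodule.smul_mono le_rfl hstep).trans ?_
      rw [Submodule.smul_sup, ← Submodule.mul_smul, ← pow_succ]
      exact sup_le_sup_right Submodule.smul_le_right _
  refine eq_top_iff.2 ((hpow (n + 1)).trans (sup_le le_rfl ?_))
  refine Submodule.smul_le.2 fun r hr y _ => ?_
  rw [← Ideal.map_pow] at hr
  rw [h.smul_eq_zero n U hr y]
  exact zero_mem _

namespace Lifting

variable {I : Ideal A} {F : ℕᵒᵖ ⥤ X.Modules} {G : X.Modules} (α : F ⟶ Formal.completion I G)

/-- `G ⟶ lim G/I^(n+1)G`. -/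
noncomputable abbrev toLim (I : Ideal A) (G : X.Modules) : G ⟶ limit (Formal.completion I G) :=
  limit.lift _ ⟨G, toCompletion I G⟩

/-- The algebraization of `F`. -/
noncomputable abbrev obj : X.Modules := pullback (limMap α) (toLim I G)

/-- Its projections to `F_n`. -/
noncomputable abbrev proj (n : ℕ) : obj α ⟶ F.obj (op n) := pullback.fst _ _ ≫ limit.π F (op n)

/-- Its map to `G`. -/
noncomputable abbrev toG : obj α ⟶ G := pullback.snd _ _

@[reassoc]
lemma toLim_π (n : ℕ) :
    toLim I G ≫ limit.π (Formal.completion I G) (op n) = Formal.modPowπ I (n + 1) G :=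
  limit.lift_π _ _

@[reassoc]
lemma proj_comp (n : ℕ) : proj α n ≫ α.app (op n) = toG α ≫ Formal.modPowπ I (n + 1) G := by
  rw [proj, Category.assoc, ← limMap_π, pullback.condition_assoc, toLim_π]
  rfl

lemma comp_proj_comp_eq_zero {W : X.Modules} (k : W ⟶ obj α) (hk : k ≫ toG α = 0) (n : ℕ) :
    k ≫ proj α n ≫ α.app (op n) = 0 := by
  refine (congrArg (fun φ => k ≫ φ) (proj_comp α n)).trans ?_
  refine (Category.assoc k (toG α) _).symm.trans ?_
  rw [hk]
  exact zero_comp

lemma proj_sysMap {i j : ℕ} (h : i ≤ j) : proj α j ≫ sysMap F h = proj α i := by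
  rw [proj, Category.assoc, limit.w]

lemma proj_app_sysMap {i j : ℕ} (h : i ≤ j) (U : X.Opens) (l : Γ(obj α, U)) :
    (sysMap F h).app U ((proj α j).app U l) = (proj α i).app U l :=
  congr(($(proj_sysMap α h)).app U l)

lemma proj_comp_app (n : ℕ) (U : X.Opens) (l : Γ(obj α, U)) :
    (α.app (op n)).app U ((proj α n).app U l) =
      (Formal.modPowπ I (n + 1) G).app U ((toG α).app U l) :=
  congr(($(proj_comp α n)).app U l)

variable {K : Ideal A}

section Inverse

variable (hK : ∀ n, K ≤ annHom (kernel.ι (α.app (op n))) ∧ K ≤ annHom (cokernel.π (α.app (op n))))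
  {b c : A} (hb : b ∈ K) (hc : c ∈ K)

/-- The approximate inverse of `α`, termwise. -/
noncomputable def inv (n : ℕ) : (Formal.completion I G).obj (op n) ⟶ F.obj (op n) :=
  aInv (α.app (op n)) ((hK n).1 hb) ((hK n).2 hc)

lemma inv_naturality {i j : ℕ} (h : i ≤ j) :
    inv α hK hb hc j ≫ sysMap F h = sysMap (Formal.completion I G) h ≫ inv α hK hb hc i :=
  aInv_naturality _ _ _ _ (α.naturality (homOfLE h).op).symm _ _ _ _

/-- The approximate inverse of `lim α`. -/
noncomputable def limInv : limit (Formal.completion I G) ⟶ limit F :=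
  limit.lift F ⟨limit (Formal.completion I G),
    NatTrans.ofOpSequence (fun n => limit.π _ (op n) ≫ inv α hK hb hc n) fun n => by
      refine (Category.id_comp _).trans ?_
      change _ = (_ ≫ _) ≫ sysMap F (Nat.le_succ n)
      rw [Category.assoc, inv_naturality, ← Category.assoc, limit.w]⟩

lemma limInv_limMap :
    limInv α hK hb hc ≫ limMap α = Formal.smulMod A (limit (Formal.completion I G)) (b * c) := by
  refine limit.hom_ext fun ⟨n⟩ => ?_
  rw [Category.assoc, limMap_π, ← Category.assoc, limInv, limit.lift_π]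
  change (limit.π _ (op n) ≫ inv α hK hb hc n) ≫ α.app (op n) = _
  rw [Category.assoc, inv, aInv_comp, smulMod_naturality]

/-- A partial section of `toG`. -/
noncomputable def lift : G ⟶ obj α :=
  pullback.lift (toLim I G ≫ limInv α hK hb hc) (Formal.smulMod A G (b * c))
    (by rw [Category.assoc, limInv_limMap, smulMod_naturality])

include hK in
lemma mul_le_annHom_cokernel : K * K ≤ annHom (cokernel.π (toG α)) := by
  refine Ideal.mul_le.2 fun b hb c hc => ?_
  rw [mem_annHom, ← pullback.lift_snd (f := limMap α) (g := toLim I G)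
    (toLim I G ≫ limInv α hK hb hc) (Formal.smulMod A G (b * c))
    (by rw [Category.assoc, limInv_limMap, smulMod_naturality]), Category.assoc, cokernel.condition,
    comp_zero]

include hK in
lemma le_annHom_kernel : K ≤ annHom (kernel.ι (toG α)) := by
  intro b hb
  rw [mem_annHom, ← smulMod_naturality]
  refine pullback.hom_ext (limit.hom_ext fun ⟨n⟩ => ?_) ?_
  · rw [zero_comp, zero_comp, Category.assoc, Category.assoc]
    change kernel.ι (toG α) ≫ Formal.smulMod A (obj α) b ≫ proj α n = 0
    rw [← smulMod_naturality (proj α n), ← Category.assoc]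
    refine smul_comp_eq_zero_of_mem (α.app (op n)) ((hK n).1 hb) _ ?_
    rw [Category.assoc]
    exact comp_proj_comp_eq_zero α _ (kernel.condition _) n
  · rw [zero_comp, Category.assoc, ← smulMod_naturality, ← Category.assoc, kernel.condition, zero_comp]

end Inverse

section Affine

variable (hK : ∀ n, K ≤ annHom (kernel.ι (α.app (op n))) ∧ K ≤ annHom (cokernel.π (α.app (op n))))
  {U : X.Opens} (hU : IsAffineOpen U)

local notation "JJ" => Ideal.map (baseApp X U) I

include hK in
lemma smul_le_range_limMap :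
    ((K * K).map (baseApp X U)) • (⊤ : Submodule Γ(X, U) Γ(limit (Formal.completion I G), U)) ≤
      LinearMap.range (QCohMod.appₗ (limMap α) U) := by
  refine Submodule.smul_le.2 fun r hr x _ => ?_
  induction hr using Submodule.span_induction with
  | mem z hz =>
    obtain ⟨a, ha, rfl⟩ := hz
    refine Submodule.mul_induction_on (C := fun a => baseApp X U a • x ∈ LinearMap.range (QCohMod.appₗ (limMap α) U))
      ha (fun b hb c hc => ?_) fun p q hp hq => ?_
    · exact ⟨(limInv α hK hb hc).app U x, congr(($(limInv_limMap α hK hb hc)).app U x)⟩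
    · rw [map_add, add_smul]; exact add_mem hp hq
  | zero => rw [zero_smul]; exact zero_mem _
  | add p q _ _ hp hq => rw [add_smul]; exact add_mem hp hq
  | smul r p _ hp => rw [smul_eq_mul, mul_smul]; exact Submodule.smul_mem _ _ hp

include hK in
lemma smul_le_range_toG :
    ((K * K).map (baseApp X U)) • (⊤ : Submodule Γ(X, U) Γ(G, U)) ≤
      LinearMap.range (QCohMod.appₗ (toG α) U) := by
  refine Submodule.smul_le.2 fun r hr x _ => ?_
  induction hr using Submodule.span_induction with
  | mem z hz =>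
    obtain ⟨a, ha, rfl⟩ := hz
    refine Submodule.mul_induction_on (C := fun a => baseApp X U a • x ∈ LinearMap.range (QCohMod.appₗ (toG α) U))
      ha (fun b hb c hc => ?_) fun p q hp hq => ?_
    · refine ⟨(lift α hK hb hc).app U x, ?_⟩
      exact congr(($(pullback.lift_snd (f := limMap α) (g := toLim I G)
        (toLim I G ≫ limInv α hK hb hc) (Formal.smulMod A G (b * c))
        (by rw [Category.assoc, limInv_limMap, smulMod_naturality]))).app U x)
    · rw [map_add, add_smul]; exact add_mem hp hq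
  | zero => rw [zero_smul]; exact zero_mem _
  | add p q _ _ hp hq => rw [add_smul]; exact add_mem hp hq
  | smul r p _ hp => rw [smul_eq_mul, mul_smul]; exact Submodule.smul_mem _ _ hp

variable {t : ℕ} (hKI : K = I ^ (t + 1))

include hK hKI in
lemma exists_lift_of_mem (k : ℕ) (g : Γ(G, U))
    (hg : g ∈ JJ ^ (k + (2 * t + 2)) • (⊤ : Submodule Γ(X, U) Γ(G, U))) :
    ∃ l ∈ JJ ^ k • (⊤ : Submodule Γ(X, U) Γ(obj α, U)), (toG α).app U l = g := by
  rw [pow_add, Submodule.mul_smul] at hg
  have hKK : (K * K).map (baseApp X U) = JJ ^ (2 * t + 2) := by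
    rw [hKI, ← pow_add, Ideal.map_pow]
    congr 1; omega
  have := Submodule.smul_mono (le_refl (JJ ^ k)) (hKK ▸ smul_le_range_toG α hK (U := U)) hg
  rwa [LinearMap.range_eq_map, ← Submodule.map_smul''] at this

variable [IsNoetherian X] (hG : Coh.IsCoh G) (hF : IsSys I F) (hFc : ∀ n, Coh.IsCoh (F.obj (op n)))

include hK hKI hU hG hF hFc in
lemma proj_zero_surjective : Function.Surjective ((proj α 0).app U) := by
  intro x
  have hq := fun n => (hFc n).1
  have := hG.1
  have hqc : ∀ n, ((Formal.completion I G).obj (op n)).IsQuasicoherent :=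
    fun n => isQCoh_of_isQuot (isQuot_modPowπ I (n + 1) G)
  have : IsNoetherianRing Γ(X, U) := IsLocallyNoetherian.component_noetherian ⟨U, hU⟩
  obtain ⟨h, rfl⟩ := limit_π_app_surjective F U 0 (fun m _ => hF.app_surjective hq hU (Nat.le_succ m)) x
  set s := 2 * t + 2
  obtain ⟨g, hg⟩ := (isQuot_modPowπ I (s + 1) G).app_surjective hU
    ((limit.π (Formal.completion I G) (op s)).app U ((limMap α).app U h))
  set d := (limMap α).app U h - (toLim I G).app U g
  have hd : (limit.π (Formal.completion I G) (op s)).app U d = 0 := by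
    simp only [d]
    rw [map_sub, app_comp_apply (toLim I G), toLim_π]
    exact sub_eq_zero.2 hg.symm
  have hd' := (isSys_completion I G).mem_of_π_eq_zero' (n := s) (IsNoetherian.noetherian _) hqc hU d hd
  rw [Ideal.map_pow, show s + 1 = 1 + s by omega, pow_add, pow_one, Submodule.mul_smul] at hd'
  have hKK : (K * K).map (baseApp X U) = JJ ^ s := by
    rw [hKI, ← pow_add, Ideal.map_pow]
    congr 1; omega
  have h2 := Submodule.smul_mono (le_refl JJ) (hKK ▸ smul_le_range_limMap α hK (U := U)) hd'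
  rw [LinearMap.range_eq_map, ← Submodule.map_smul''] at h2
  obtain ⟨δ, hδ, hδd⟩ := h2
  obtain ⟨l, hl, -⟩ := pullback_sec_exists (limMap α) (toLim I G) U (h - δ) g (by
    rw [map_sub, show (limMap α).app U δ = d from hδd]
    simp [d])
  refine ⟨l, ?_⟩
  rw [proj, Scheme.Modules.Hom.comp_app, ConcreteCategory.comp_apply, hl, map_sub,
    app_eq_zero_of_mem_smul (limit.π F (op 0)) (s := δ) (le_annHom_of_killedBy (hF.killed 0) _)
      (by rwa [zero_add, pow_one]), sub_zero]

include hK hKI hU hG hF hFc in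
lemma proj_surjective (n : ℕ) : Function.Surjective ((proj α n).app U) := by
  refine LinearMap.range_eq_top.1 (hF.eq_top_of_surj (fun n => (hFc n).1) hU n
    (LinearMap.range (QCohMod.appₗ (proj α n) U)) fun y₀ => ?_)
  obtain ⟨l, rfl⟩ := proj_zero_surjective α hK hU hKI hG hF hFc y₀
  exact ⟨_, ⟨l, rfl⟩, proj_app_sysMap α (Nat.zero_le n) U l⟩

include hK hKI hU hG hF hFc in
/-- Uniformity on an affine open. -/
lemma exists_bound : ∃ N, ∀ l m (hl : N ≤ l) (hm : l + N ≤ m) (y : Γ(F.obj (op m), U)),
    (α.app (op m)).app U y = 0 → (sysMap F (hl.trans ((Nat.le_add_right l N).trans hm))).app U y = 0 →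
      (sysMap F ((Nat.le_add_right l N).trans hm)).app U y = 0 := by
  classical
  have hq := fun n => (hFc n).1
  have := hG.1
  have : IsNoetherianRing Γ(X, U) := IsLocallyNoetherian.component_noetherian ⟨U, hU⟩
  have := ((QCohMod.isCoh_iff _).1 (hFc 0)).2 U hU
  have := ((QCohMod.isCoh_iff _).1 hG).2 U hU
  obtain ⟨r, e, he⟩ := Module.Finite.exists_fin' Γ(X, U) Γ(F.obj (op 0), U)
  choose L hL using fun i => proj_zero_surjective α hK hU hKI hG hF hFc (e (Pi.single i 1))
  let φ : (Fin r → Γ(X, U)) →ₗ[Γ(X, U)] Γ(obj α, U) := Fintype.linearCombination Γ(X, U) L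
  have he0 : ∀ q, (proj α 0).app U (φ q) = e q := fun q => by
    have : (QCohMod.appₗ (proj α 0) U).comp φ = e := by
      refine (Pi.basisFun Γ(X, U) (Fin r)).ext fun i => ?_
      simp [φ]
      exact hL i
    exact congr($this q)
  have hsurj : ∀ m, LinearMap.range ((QCohMod.appₗ (proj α m) U).comp φ) = ⊤ := fun m =>
    hF.eq_top_of_surj hq hU m _ fun y₀ => by
      obtain ⟨q, rfl⟩ := he y₀
      exact ⟨_, ⟨q, rfl⟩, (proj_app_sysMap α _ U _).trans (he0 q)⟩
  let ψ : (Fin r → Γ(X, U)) →ₗ[Γ(X, U)] Γ(G, U) := (QCohMod.appₗ (toG α) U).comp φ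
  obtain ⟨c, hc⟩ := exists_artinRees JJ ψ
  obtain ⟨c', hc'⟩ := exists_artinRees JJ (LinearMap.ker ψ).subtype
  refine ⟨t + c' + c, fun l m hl hm y hy hyN => ?_⟩
  set N := t + c' + c
  have := hq m
  have hyN' := ((hF.isQuot (hl.trans ((Nat.le_add_right l N).trans hm))).app_eq_zero_iff y hU).1 hyN
  rw [Ideal.map_pow, ← hsurj m, LinearMap.range_eq_map, ← Submodule.map_smul''] at hyN'
  obtain ⟨q, hqN, rfl⟩ := hyN'
  have hψ : ψ q ∈ (JJ ^ (m + 1) • ⊤ : Submodule Γ(X, U) Γ(G, U)) := by
    rw [← Ideal.map_pow]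
    refine ((isQuot_modPowπ I (m + 1) G).app_eq_zero_iff (ψ q) hU).1 ?_
    exact ((proj_comp_app α m U (φ q)).symm.trans hy)
  obtain ⟨q', hq', hqq'⟩ := hc (n := l + 1) (by omega) q hψ
  have hp : q - q' ∈ (JJ ^ (N + 1) • ⊤ : Submodule Γ(X, U) (Fin r → Γ(X, U))) :=
    sub_mem hqN (Submodule.smul_mono_left (Ideal.pow_le_pow_right (by omega)) hq')
  obtain ⟨p, hp', hpq⟩ := hc' (n := t + 1) (by omega)
    ⟨q - q', by rw [LinearMap.mem_ker, map_sub, hqq', sub_self]⟩ hp
  have hker : ∀ z : LinearMap.ker ψ, ∀ a ∈ K, baseApp X U a • (proj α m).app U (φ z) = 0 := by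
    intro z a ha
    have hz : (α.app (op m)).app U ((proj α m).app U (φ z)) = 0 := by
      refine (proj_comp_app α m U (φ z)).trans ?_
      rw [show (toG α).app U (φ z) = 0 from z.2]
      exact map_zero _
    obtain ⟨w, hw⟩ := QCohMod.exists_app_eq_of_mono_exact
      (S := ShortComplex.mk (kernel.ι (α.app (op m))) (α.app (op m)) (kernel.condition _))
      (ShortComplex.exact_of_f_is_kernel _ (kernelIsKernel _)) U _ hz
    rw [← hw]
    exact baseApp_smul_app_eq_zero _ U ((hK m).1 ha) w
  have h0 : (proj α m).app U (φ (q - q')) = 0 := by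
    rw [show q - q' = (p : Fin r → Γ(X, U)) from hpq.symm]
    refine Submodule.smul_induction_on (p := fun z => (proj α m).app U (φ (z : LinearMap.ker ψ)) = 0) hp'
      (fun a ha z _ => ?_) fun z w hz hw => by rw [Submodule.coe_add, map_add, map_add, hz, hw, add_zero]
    rw [SetLike.val_smul, map_smul, Scheme.Modules.Hom.app_smul]
    rw [← Ideal.map_pow, ← hKI] at ha
    induction ha using Submodule.span_induction with
    | mem x hx =>
      obtain ⟨b, hb, rfl⟩ := hx
      exact hker z b hb
    | zero => rw [zero_smul]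
    | add u v _ _ hu hv => rw [add_smul, hu, hv, add_zero]
    | smul u v _ hv => rw [smul_eq_mul, mul_smul, hv, smul_zero]
  rw [map_sub, map_sub, sub_eq_zero] at h0
  change (sysMap F _).app U ((proj α m).app U (φ q)) = 0
  rw [h0, proj_app_sysMap]
  refine Submodule.smul_induction_on (p := fun z => (proj α l).app U (φ z) = 0) hq'
    (fun a ha z _ => ?_) fun z w hz hw => by rw [map_add, map_add, hz, hw, add_zero]
  rw [map_smul, Scheme.Modules.Hom.app_smul]
  exact hF.smul_eq_zero l U (by rw [Ideal.map_pow]; exact ha) _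

end Affine

section Global

variable [IsNoetherian X] (hK : ∀ n, K ≤ annHom (kernel.ι (α.app (op n))) ∧ K ≤ annHom (cokernel.π (α.app (op n))))
  {t : ℕ} (hKI : K = I ^ (t + 1)) (hG : Coh.IsCoh G) (hF : IsSys I F)
  (hFc : ∀ n, Coh.IsCoh (F.obj (op n)))

include hK hKI hG hF hFc in
lemma exists_global_bound : ∃ N, ∀ (V : X.Opens) (k : Γ(obj α, V)),
    (toG α).app V k = 0 → (proj α N).app V k = 0 → k = 0 := by
  obtain ⟨N, hN⟩ := exists_uniform X (fun U c => ∀ l m (hl : c ≤ l) (hm : l + c ≤ m)
    (y : Γ(F.obj (op m), (U : X.Opens))), (α.app (op m)).app U y = 0 →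
      (sysMap F (hl.trans ((Nat.le_add_right l c).trans hm))).app U y = 0 →
      (sysMap F ((Nat.le_add_right l c).trans hm)).app U y = 0)
    (fun U i j hij hi l m hl hm y hy hyc => hi l m (hij.trans hl) (by omega) y hy (by
      rw [← sysMap_app_comp F hij (hl.trans ((Nat.le_add_right l j).trans hm)), hyc, map_zero]))
    (fun U => exists_bound α hK U.2 hKI hG hF hFc)
  refine ⟨N, fun V k hk hkN => ?_⟩
  have key : ∀ l (hl : N ≤ l), (proj α l).app V k = 0 := by
    intro l hl
    set m := l + N
    have hlm : l ≤ m := Nat.le_add_right l N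
    let w := biprod.lift (α.app (op m)) (sysMap F (hl.trans hlm))
    have := (hFc m).1
    have := (hFc N).1
    have := hG.1
    have : ((Formal.completion I G).obj (op m)).IsQuasicoherent := isQCoh_of_isQuot (isQuot_modPowπ I (m + 1) G)
    have hz : kernel.ι w ≫ sysMap F hlm = 0 := by
      refine hom_eq_zero_of_cover _ fun x => ?_
      obtain ⟨U, hxU, hU⟩ := hN x
      refine ⟨U, U.2, hxU, fun s => hU l m hl le_rfl ((kernel.ι w).app U s) ?_ ?_⟩
      · have := congr(($(kernel.condition w) ≫ biprod.fst).app U s)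
        rw [Category.assoc, biprod.lift_fst, zero_comp] at this
        exact this
      · have := congr(($(kernel.condition w) ≫ biprod.snd).app U s)
        rw [Category.assoc, biprod.lift_snd, zero_comp] at this
        exact this
    have hw : kernel.ι (biprod.lift (toG α) (proj α N)) ≫ proj α m ≫ w = 0 := by
      refine biprod.hom_ext _ _ ?_ ?_
      · rw [zero_comp, Category.assoc, Category.assoc, biprod.lift_fst]
        have := congr($(kernel.condition (biprod.lift (toG α) (proj α N))) ≫ biprod.fst)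
        rw [Category.assoc, biprod.lift_fst, zero_comp] at this
        exact comp_proj_comp_eq_zero α _ this m
      · rw [zero_comp, Category.assoc, Category.assoc, biprod.lift_snd, proj_sysMap]
        have := congr($(kernel.condition (biprod.lift (toG α) (proj α N))) ≫ biprod.snd)
        rwa [Category.assoc, biprod.lift_snd, zero_comp] at this
    obtain ⟨k', hk'⟩ := QCohMod.exists_app_eq_of_mono_exact
      (S := ShortComplex.mk (kernel.ι (biprod.lift (toG α) (proj α N))) _ (kernel.condition _))
      (ShortComplex.exact_of_f_is_kernel _ (kernelIsKernel _)) V k (biprod_sec_ext _ _ V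
        (by rw [app_comp_apply, biprod.lift_fst, hk, map_zero])
        (by rw [app_comp_apply, biprod.lift_snd, hkN, map_zero]))
    rw [← hk', app_comp_apply]
    have : kernel.ι (biprod.lift (toG α) (proj α N)) ≫ proj α l = 0 := by
      rw [← proj_sysMap α hlm, ← Category.assoc]
      obtain ⟨k₂, hk₂⟩ := kernel.lift' w (kernel.ι (biprod.lift (toG α) (proj α N)) ≫ proj α m)
        (by rw [Category.assoc]; exact hw)
      rw [← hk₂, Category.assoc, hz, comp_zero]
    rw [this]; rfl
  refine pullback_sec_ext _ _ V (limit_sec_ext F V fun ⟨n⟩ => ?_) (by rw [hk, map_zero])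
  rw [map_zero, map_zero]
  change (proj α n).app V k = 0
  rw [← proj_app_sysMap α (le_max_left n N) V k, key _ (le_max_right n N), map_zero]

include hK hKI hG hF hFc in
theorem isCoh_obj : Coh.IsCoh (obj α) := by
  obtain ⟨N, hN⟩ := exists_global_bound α hK hKI hG hF hFc
  set m := N + (2 * t + 2)
  have hNm : N ≤ m := Nat.le_add_right _ _
  have := (hFc m).1
  have := (hFc N).1
  have := hG.1
  have : ((Formal.completion I G).obj (op m)).IsQuasicoherent := isQCoh_of_isQuot (isQuot_modPowπ I (m + 1) G)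
  let ι : obj α ⟶ F.obj (op N) ⊞ G := biprod.lift (proj α N) (toG α)
  have : Mono ι := by
    refine (CohTwo.mono_iff_app_injective _).2 fun V x y hxy => sub_eq_zero.1 (hN V _ ?_ ?_)
    · have := congrArg (fun z => (biprod.snd : F.obj (op N) ⊞ G ⟶ G).app V z) hxy
      simp only [ι, app_comp_apply, biprod.lift_snd] at this
      rw [map_sub, this, sub_self]
    · have := congrArg (fun z => (biprod.fst : F.obj (op N) ⊞ G ⟶ F.obj (op N)).app V z) hxy
      simp only [ι, app_comp_apply, biprod.lift_fst] at this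
      rw [map_sub, this, sub_self]
  let w : pullback (α.app (op m)) (Formal.modPowπ I (m + 1) G) ⟶ F.obj (op N) ⊞ G :=
    biprod.lift (pullback.fst _ _ ≫ sysMap F hNm) (pullback.snd _ _)
  let r : obj α ⟶ pullback (α.app (op m)) (Formal.modPowπ I (m + 1) G) :=
    pullback.lift (proj α m) (toG α) (proj_comp α m)
  have hr : r ≫ w = ι := biprod.hom_ext _ _
    (by
      rw [Category.assoc, biprod.lift_fst, biprod.lift_fst, ← Category.assoc]
      exact (congrArg (fun φ => φ ≫ sysMap F hNm) (pullback.lift_fst _ _ _)).trans (proj_sysMap α hNm))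
    (by
      rw [Category.assoc, biprod.lift_snd, biprod.lift_snd]
      exact pullback.lift_snd _ _ _)
  let e : obj α ⟶ Abelian.image w := r ≫ Abelian.factorThruImage w
  have he : e ≫ Abelian.image.ι w = ι := by rw [Category.assoc, Abelian.image.fac, hr]
  have hIm : Coh.IsCoh (Abelian.image w) := by
    have hb := QCohMod.isCoh_biprod (hFc N) hG
    have := hb.1
    exact QCohMod.isCoh_kernel _ hb
  have := hIm.1
  have : Mono e := mono_of_mono_fac he
  have : Epi e := QCohMod.epi_of_affine_surjective e fun V hV z => by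
    obtain ⟨y, rfl⟩ := QCohMod.app_surjective_of_epi (Abelian.factorThruImage w) hV z
    obtain ⟨l', hl'⟩ := proj_surjective α hK hV hKI hG hF hFc m ((pullback.fst (α.app (op m)) (Formal.modPowπ I (m + 1) G)).app V y)
    have hd : (Formal.modPowπ I (m + 1) G).app V
        ((pullback.snd (α.app (op m)) (Formal.modPowπ I (m + 1) G)).app V y - (toG α).app V l') = 0 := by
      rw [map_sub, ← proj_comp_app, hl', app_comp_apply, app_comp_apply, pullback.condition]
      exact sub_self _
    have hd' := ((isQuot_modPowπ I (m + 1) G).app_eq_zero_iff _ hV).1 hd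
    have em : (Ideal.map (baseApp X V) I) ^ (m + 1) = (Ideal.map (baseApp X V) I) ^ ((N + 1) + (2 * t + 2)) := by
      congr 1; omega
    rw [Ideal.map_pow, em] at hd'
    obtain ⟨δ, hδ, hδg⟩ := exists_lift_of_mem α hK hKI (N + 1) _ hd'
    refine ⟨l' + δ, CohTwo.app_injective (Abelian.image.ι w) V ?_⟩
    rw [app_comp_apply, he, app_comp_apply, Abelian.image.fac]
    refine biprod_sec_ext' V ?_ ?_
    · rw [app_comp_apply, biprod.lift_fst, app_comp_apply, biprod.lift_fst, map_add,
        app_eq_zero_of_mem_smul (proj α N) (s := δ) (le_annHom_of_killedBy (hF.killed N) _)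
          (by rwa [Ideal.map_pow]), add_zero, ← proj_app_sysMap α hNm, hl']
      rfl
    · rw [app_comp_apply, biprod.lift_snd, app_comp_apply, biprod.lift_snd, map_add, hδg, add_sub_cancel]
  have : IsIso e := isIso_of_mono_of_epi e
  exact QCohMod.isCoh_of_iso (asIso e).symm hIm

include hK hKI hG hF hFc in
theorem isQuot_proj (n : ℕ) : IsQuot (I ^ (n + 1)) (proj α n) := by
  obtain ⟨N, hN⟩ := exists_global_bound α hK hKI hG hF hFc
  refine isQuot_of_affine _ (le_annHom_of_killedBy (hF.killed n) _)
    (fun U hU => proj_surjective α hK hU hKI hG hF hFc n) fun U hU l hl => ?_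
  set M := max n N
  set m := M + (2 * t + 2)
  have := (hFc m).1
  have := hG.1
  have h1 := ((hF.isQuot (show n ≤ m by omega)).app_eq_zero_iff ((proj α m).app U l) hU).1
    (by rw [proj_app_sysMap, hl])
  have hr : LinearMap.range (QCohMod.appₗ (proj α m) U) = ⊤ :=
    LinearMap.range_eq_top.2 fun y => proj_surjective α hK hU hKI hG hF hFc m y
  rw [← hr, LinearMap.range_eq_map, ← Submodule.map_smul''] at h1
  obtain ⟨l₁, hl₁, hl₁'⟩ := h1
  have hd : (Formal.modPowπ I (m + 1) G).app U ((toG α).app U (l - l₁)) = 0 := by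
    rw [← proj_comp_app, map_sub]
    exact (congrArg _ (sub_eq_zero.2 hl₁'.symm)).trans (map_zero _)
  have hd' := ((isQuot_modPowπ I (m + 1) G).app_eq_zero_iff _ hU).1 hd
  have em : (Ideal.map (baseApp X U) I) ^ (m + 1) = (Ideal.map (baseApp X U) I) ^ ((M + 1) + (2 * t + 2)) := by
    congr 1; omega
  rw [Ideal.map_pow, em] at hd'
  obtain ⟨δ, hδ, hδg⟩ := exists_lift_of_mem α hK hKI (M + 1) _ hd'
  have hk := hN U (l - l₁ - δ) (by rw [map_sub, hδg, sub_self]) (by
    rw [map_sub, app_eq_zero_of_mem_smul (proj α N) (s := δ) (le_annHom_of_killedBy (hF.killed N) _)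
      (Submodule.smul_mono_left (by rw [Ideal.map_pow]; exact Ideal.pow_le_pow_right (by omega)) hδ),
      sub_zero, ← proj_app_sysMap α (show N ≤ m by omega), map_sub]
    exact (congrArg _ (sub_eq_zero.2 hl₁'.symm)).trans (map_zero _))
  rw [sub_sub, sub_eq_zero] at hk
  rw [hk]
  refine add_mem hl₁ (Submodule.smul_mono_left ?_ hδ)
  rw [Ideal.map_pow]
  exact Ideal.pow_le_pow_right (by omega)

end Global

end Lifting

end Groth.CohC3
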