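import Groth.Agent.QCohMod.FTCriterion
import Groth.Agent.QCohMod.Coherent
import Groth.Agent.PicAux.Sections
import Groth.Agent.Misc15.RankLe
import Groth.Prelude.Def_FlatMod2

/-! Local lifts of maps out of finite locally free modules. -/

universe u

open CategoryTheory CategoryTheory.Limits AlgebraicGeometry Opposite TopologicalSpace

namespace Groth.CohC3

variable {Y : Scheme.{u}}

/-- Sections lift locally along an epimorphism. -/
lemma exists_lift_section {G F : Y.Modules} (p : G ⟶ F) [Epi p] {U : Y.Opens} (s : Γ(F, U)) {y : Y}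
    (hy : y ∈ U) : ∃ (W : Y.Opens) (hle : W ≤ U) (t : Γ(G, W)),
      y ∈ W ∧ p.app W t = QCohMod.res F hle s := by
  obtain ⟨a, ha⟩ := (QCohMod.epi_iff_stalk p).1 inferInstance y (QCohMod.germ F y hy s)
  obtain ⟨V, hV, t, rfl⟩ := QCohMod.exists_germ G y a
  rw [QCohMod.stalk_map_germ] at ha
  obtain ⟨W, hyW, i₁, i₂, h⟩ := TopCat.Presheaf.germ_eq (F := F.presheaf) y hV hy _ _ ha
  refine ⟨W, i₂.le, QCohMod.res G i₁.le t, hyW, ?_⟩
  rw [← QCohMod.res_app]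
  exact h

lemma exists_lift_sections {G F : Y.Modules} (p : G ⟶ F) [Epi p] {U : Y.Opens} {y : Y} (hy : y ∈ U) :
    ∀ (n : ℕ) (c : Fin n → Γ(F, U)), ∃ (W : Y.Opens) (hle : W ≤ U) (t : Fin n → Γ(G, W)),
      y ∈ W ∧ ∀ i, p.app W (t i) = QCohMod.res F hle (c i) := by
  intro n
  induction n with
  | zero => exact fun _ => ⟨U, le_rfl, Fin.elim0, hy, fun i => i.elim0⟩
  | succ n ih =>
    intro c
    obtain ⟨W, hW, t, hyW, ht⟩ := ih (fun i => c i.succ)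
    obtain ⟨W', hW', t', hyW', ht'⟩ := exists_lift_section p (QCohMod.res F hW (c 0)) hyW
    refine ⟨W', hW'.trans hW, Fin.cons t' fun i => QCohMod.res G hW' (t i), hyW', fun i => ?_⟩
    refine Fin.cases ?_ (fun j => ?_) i
    · rw [Fin.cons_zero, ht', QCohMod.res_res]
    · rw [Fin.cons_succ, ← QCohMod.res_app, ht, QCohMod.res_res]

/-- A map out of a free module lifts, locally, along an epimorphism. -/
lemma exists_lift_free {G F : Y.Modules} (p : G ⟶ F) [Epi p] {n : ℕ}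
    (φ : FlatMod.freeMod Y n ⟶ F) (y : Y) :
    ∃ (W : Y.Opens) (ψ : (FlatMod.freeMod Y n).restrict W.ι ⟶ G.restrict W.ι), y ∈ W ∧
      ψ ≫ (Scheme.Modules.restrictFunctor W.ι).map p = (Scheme.Modules.restrictFunctor W.ι).map φ := by
  let O := Coh.structureModule Y
  obtain ⟨W, hW0, t, hyW, ht⟩ := exists_lift_sections p (Set.mem_univ y : y ∈ (⊤ : Y.Opens)) n
    fun i => (Sigma.ι (fun _ : Fin n => O) i ≫ φ).app ⊤ (QCohMod.oneSec ⊤)
  let R := Scheme.Modules.restrictFunctor W.ι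
  have hW : W.ι ''ᵁ ⊤ = W := by simp
  have hc := isColimitOfPreserves R (coproductIsCoproduct fun _ : Fin n => O)
  let ψ₀ : ∀ i, R.obj O ⟶ G.restrict W.ι := fun i =>
    (Scheme.Modules.restrictUnitIso W.ι).hom ≫
      QCohMod.secHom (G.restrict W.ι) ((G.restrictAppIso W.ι ⊤).inv (QCohMod.res G hW.le (t i)))
  let co : Cocone (Discrete.functor (fun _ : Fin n => O) ⋙ R) :=
    ⟨G.restrict W.ι, Discrete.natTrans fun i => ψ₀ i.as⟩
  refine ⟨W, hc.desc co, hyW, hc.hom_ext fun ⟨i⟩ => ?_⟩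
  rw [← Category.assoc, hc.fac]
  rw [← cancel_epi (Scheme.Modules.restrictUnitIso W.ι).inv]
  have e : co.ι.app ⟨i⟩ = (Scheme.Modules.restrictUnitIso W.ι).hom ≫ QCohMod.secHom (G.restrict W.ι)
      ((G.restrictAppIso W.ι ⊤).inv (QCohMod.res G hW.le (t i))) := rfl
  refine PicAux.hom_structure_ext ?_
  rw [e]
  erw [Category.assoc, Iso.inv_hom_id_assoc]
  change (R.map p).app ⊤ ((QCohMod.secHom _ _).app ⊤ (QCohMod.oneSec ⊤)) =
    (R.map φ).app ⊤ ((R.map (Sigma.ι (fun _ : Fin n => O) i)).app ⊤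
      ((Scheme.Modules.restrictUnitIso W.ι).inv.app ⊤ (QCohMod.oneSec ⊤)))
  rw [QCohMod.secHom_app_one, QCohMod.res_self]
  have hone : (Scheme.Modules.restrictUnitIso W.ι).inv.app ⊤ (QCohMod.oneSec ⊤) =
      (show Γ(O.restrict W.ι, ⊤) from (QCohMod.oneSec (W.ι ''ᵁ ⊤) : Γ(O, W.ι ''ᵁ ⊤))) := by
    exact map_one (W.ι.appIso ⊤).inv.hom
  rw [hone]
  change p.app (W.ι ''ᵁ ⊤) (QCohMod.res G hW.le (t i)) =
    φ.app (W.ι ''ᵁ ⊤) ((Sigma.ι (fun _ : Fin n => O) i).app (W.ι ''ᵁ ⊤) (QCohMod.oneSec (W.ι ''ᵁ ⊤)))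
  rw [← QCohMod.res_app, ht, QCohMod.res_res]
  change QCohMod.res F _ (φ.app ⊤ ((Sigma.ι (fun _ : Fin n => O) i).app ⊤ (QCohMod.oneSec ⊤))) = _
  rw [QCohMod.res_app, QCohMod.res_app]
  congr 2
  exact map_one (Y.presheaf.map (homOfLE _).op).hom

variable {X : Scheme.{u}}

theorem locally_lift_from_finLocFree {E F G : X.Modules} (p : G ⟶ F) [Epi p] (φ : E ⟶ F)
    (hE : FlatMod.IsFinLocFree E) (x : X) :
    ∃ (V : X.Opens) (ψ : E.restrict V.ι ⟶ G.restrict V.ι), x ∈ V ∧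
      ψ ≫ (Scheme.Modules.restrictFunctor V.ι).map p = (Scheme.Modules.restrictFunctor V.ι).map φ := by
  obtain ⟨U, n, hxU, ⟨e⟩⟩ := hE x
  let R := Scheme.Modules.restrictFunctor U.ι
  have : Epi (R.map p) := inferInstance
  obtain ⟨W, ψ₀, hxW, hψ₀⟩ := exists_lift_free (R.map p) (e.inv ≫ R.map φ) (⟨x, hxU⟩ : U)
  let k : (↑(U.ι ''ᵁ W) : Scheme.{u}) ⟶ (↑W : Scheme.{u}) := (U.ι.isoImage W).inv
  have hk : (U.ι ''ᵁ W).ι = (k ≫ W.ι) ≫ U.ι := by
    simp [k]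
  let T := Scheme.Modules.restrictFunctor W.ι
  let T' := Scheme.Modules.restrictFunctor k
  let θ : Scheme.Modules.restrictFunctor (U.ι ''ᵁ W).ι ≅ R ⋙ T ⋙ T' :=
    Scheme.Modules.restrictFunctorCongr hk ≪≫ Scheme.Modules.restrictFunctorComp (k ≫ W.ι) U.ι ≪≫
      Functor.isoWhiskerLeft R (Scheme.Modules.restrictFunctorComp k W.ι)
  refine ⟨U.ι ''ᵁ W, θ.hom.app E ≫ T'.map (T.map e.hom ≫ ψ₀) ≫ θ.inv.app G, ⟨⟨x, hxU⟩, hxW, rfl⟩, ?_⟩
  rw [Category.assoc, Category.assoc, ← θ.inv.naturality p]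
  simp only [Functor.comp_map]
  rw [← Category.assoc (T'.map _), ← Functor.map_comp, Category.assoc, hψ₀, ← Functor.map_comp,
    Iso.hom_inv_id_assoc]
  exact NatIso.naturality_2 θ φ

end Groth.CohC3
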