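import Groth.Agent.CohC3.LimitSys

/-! Image of the limit of a Mittag-Leffler system of coherent modules. -/

universe u

open CategoryTheory CategoryTheory.Limits AlgebraicGeometry Opposite TopologicalSpace

namespace Groth.CohC3

variable {X : Scheme.{u}}

lemma image_app_eq {M N : X.Modules} [M.IsQuasicoherent] [N.IsQuasicoherent] (φ : M ⟶ N)
    {U : X.Opens} (hU : IsAffineOpen U) (z : Γ(Abelian.image φ, U)) :
    ∃ m, φ.app U m = (Abelian.image.ι φ).app U z := by
  obtain ⟨m, rfl⟩ := QCohMod.app_surjective_of_epi (Abelian.factorThruImage φ) hU z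
  exact ⟨m, congr(($(Abelian.image.fac φ)).app U m).symm⟩

/-- If the image subobjects agree, the images on affine sections agree. -/
lemma range_app_eq_of_imageSubobject_eq {M M' N : X.Modules} [M.IsQuasicoherent] [M'.IsQuasicoherent]
    [N.IsQuasicoherent] (φ : M ⟶ N) (φ' : M' ⟶ N) (h : imageSubobject φ' = imageSubobject φ)
    {U : X.Opens} (hU : IsAffineOpen U) (m : Γ(M, U)) : ∃ m', φ'.app U m' = φ.app U m := by
  have hle : Abelian.image.ι φ ≫ cokernel.π φ' = 0 := by
    have h' : Subobject.mk (image.ι φ') = Subobject.mk (image.ι φ) := h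
    have e := Subobject.ofMkLEMk_comp (le_of_eq h'.symm)
    rw [← cancel_epi (Abelian.factorThruImage φ), comp_zero, ← Category.assoc, Abelian.image.fac,
      ← image.fac φ, Category.assoc, ← e, Category.assoc]
    have : image.ι φ' ≫ cokernel.π φ' = 0 := by
      rw [← cancel_epi (factorThruImage φ'), comp_zero, ← Category.assoc, image.fac, cokernel.condition]
    rw [this, comp_zero, comp_zero]
  obtain ⟨m', hm'⟩ := image_app_eq φ' hU
    ((kernel.lift (cokernel.π φ') (Abelian.image.ι φ) hle).app U ((Abelian.factorThruImage φ).app U m))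
  refine ⟨m', hm'.trans ?_⟩
  exact (congr(($(kernel.lift_ι (cokernel.π φ') (Abelian.image.ι φ) hle)).app U ((Abelian.factorThruImage φ).app U m))).trans
    congr(($(Abelian.image.fac φ)).app U m)

theorem isClosed_support_image_π_of_mittagLeffler [IsLocallyNoetherian X]
    (G : ℕᵒᵖ ⥤ X.Modules) (hG : ∀ n : ℕᵒᵖ, Coh.IsCoh (G.obj n))
    (hML : ∀ e : ℕ, ∃ (d : ℕ) (hd : e ≤ d), ∀ (d' : ℕ) (hd' : d ≤ d'),
      imageSubobject (G.map (homOfLE (hd.trans hd')).op) = imageSubobject (G.map (homOfLE hd).op))
    (e : ℕ) : IsClosed (CohB1.support (image (limit.π G (op e)))) := by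
  have hq : ∀ n, (G.obj (op n)).IsQuasicoherent := fun n => (hG _).1
  choose d hd hst using hML
  let φ := sysMap G (hd e)
  have := hq e
  have := hq (d e)
  have hcoh : Coh.IsCoh (Abelian.image φ) := QCohMod.isCoh_of_mono (Abelian.image.ι φ) (hG _)
  let q : limit G ⟶ Abelian.image φ := limit.π G (op (d e)) ≫ Abelian.factorThruImage φ
  have hqι : q ≫ Abelian.image.ι φ = limit.π G (op e) := by
    rw [Category.assoc, Abelian.image.fac]; exact limit.w G _
  have hepi : Epi q := by
    refine QCohMod.epi_of_affine_surjective q fun U hU z => ?_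
    have hext : ∀ n m, ∃ x, (sysMap G (Nat.le_succ n)).app U ((sysMap G (hd (n + 1))).app U x) =
        (sysMap G (hd n)).app U m := by
      intro n m
      have := hq n; have := hq (d n); have := hq (max (d n) (d (n + 1)))
      obtain ⟨x, hx⟩ := range_app_eq_of_imageSubobject_eq (sysMap G (hd n))
        (sysMap G ((hd n).trans (le_max_left _ (d (n + 1))))) (hst n _ (le_max_left _ _)) hU m
      refine ⟨(sysMap G (le_max_right (d n) (d (n + 1)))).app U x, ?_⟩
      rw [sysMap_app_comp, sysMap_app_comp]; exact hx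
    choose g hg using hext
    obtain ⟨m₀, hm₀⟩ := image_app_eq φ hU z
    let up : ∀ k, Γ(G.obj (op (d (e + k))), U) := fun k => Nat.rec
      (motive := fun k => Γ(G.obj (op (d (e + k))), U)) m₀ (fun k mk => g (e + k) mk) k
    have hup : ∀ k, (sysMap G (Nat.le_succ (e + k))).app U ((sysMap G (hd (e + k + 1))).app U (up (k + 1))) =
        (sysMap G (hd (e + k))).app U (up k) := fun k => hg (e + k) (up k)
    obtain ⟨y, hy⟩ := exists_limit_sec G U
      (fun i => (sysMap G (Nat.le_add_left i e)).app U ((sysMap G (hd (e + i))).app U (up i)))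
      (fun i => by
        rw [sysMap_app_comp, ← sysMap_app_comp G (Nat.le_add_left i e) (Nat.le_succ (e + i))]
        exact congrArg _ (hup i))
    refine ⟨y, QCohMod.app_injective_of_mono (Abelian.image.ι φ) U ?_⟩
    rw [← hm₀, app_comp_apply, hqι, hy e]
    have key : ∀ k, (sysMap G (Nat.le_add_right e k)).app U ((sysMap G (hd (e + k))).app U (up k)) = φ.app U m₀ := by
      intro k
      induction k with
      | zero => rw [show sysMap G (Nat.le_add_right e 0) = 𝟙 _ from sysMap_refl G e]; rfl
      | succ k ih =>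
        rw [← sysMap_app_comp G (Nat.le_add_right e k) (Nat.le_succ (e + k))]
        exact (congrArg _ (hup k)).trans ih
    exact key e
  have : StrongEpi q := strongEpi_of_epi q
  let iso : Abelian.image φ ≅ image (limit.π G (op e)) := image.isoStrongEpiMono q (Abelian.image.ι φ) hqι
  rw [← QCohMod.support_eq_of_iso iso]
  exact isClosed_support_of_isCoh _ hcoh

end Groth.CohC3
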