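import Groth.Prelude.Def_ClSub2
import Mathlib

/-! Closed subsets of sets proper over the base. -/

universe u

open CategoryTheory AlgebraicGeometry TopologicalSpace

namespace Groth.CohC3

/-- A closed subset of a set proper over the base is proper over the base. -/
theorem isProperOver_mono {X S : Scheme.{u}} {s : X ⟶ S} {T T' : Set X} (hT : ClSub.IsProperOver s T)
    (hle : T' ⊆ T) (hc : IsClosed T') : ClSub.IsProperOver s T' := by
  obtain ⟨h, hp⟩ := hT
  refine ⟨hc, ?_⟩
  have hi : Scheme.IdealSheafData.vanishingIdeal (⟨T, h⟩ : Closeds X) ≤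
      Scheme.IdealSheafData.vanishingIdeal (⟨T', hc⟩ : Closeds X) :=
    Scheme.IdealSheafData.vanishingIdeal_antimono (show (⟨T', hc⟩ : Closeds X) ≤ ⟨T, h⟩ from hle)
  rw [← Scheme.IdealSheafData.inclusion_subschemeι hi, Category.assoc]
  have : IsProper ((Scheme.IdealSheafData.vanishingIdeal (⟨T, h⟩ : Closeds X)).subschemeι ≫ s) := hp
  infer_instance

end Groth.CohC3
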