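import Groth.Agent.CohC3.PushKillerKer
import Groth.Agent.AdicLinTop.QcohRes
import Groth.Prelude.Def_Formal2

/-! The comparison of a formal module with the completion of the pushforward has kernels and
cokernels killed by a power of the ideal of the exceptional locus. -/

universe u

open CategoryTheory CategoryTheory.Limits AlgebraicGeometry Opposite TopologicalSpace

namespace Groth.CohC3

/-- Being killed by an ideal sheaf is local. -/
theorem killed_of_cover {Y : Scheme.{u}} (I : Y.IdealSheafData) (M : Y.Modules) [M.IsQuasicoherent]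
    (h : ∀ x : Y, ∃ U : Y.affineOpens, x ∈ U.1 ∧ ∀ a ∈ I.ideal U, ∀ s : Γ(M, U.1), a • s = 0) :
    ClSub.KilledByIdeal I M := by
  intro U a ha (s : Γ(M, U.1))
  change a • s = 0
  refine CohTwo.eq_of_local M _ _ fun x hx => ?_
  obtain ⟨V, hxV, hV⟩ := h x
  obtain ⟨f, g, hfg, hxf⟩ := exists_basicOpen_le_affine_inter U.2 V.2 x ⟨hx, hxV⟩
  let W : Y.affineOpens := ⟨Y.basicOpen f, U.2.basicOpen f⟩
  have hWU : W ≤ U := Y.basicOpen_le f
  have hWV : W ≤ V := by change Y.basicOpen f ≤ V.1; rw [hfg]; exact Y.basicOpen_le g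
  refine ⟨W.1, hWU, hxf, Eq.trans ?_ (map_zero _).symm⟩
  change QCohMod.res M hWU (a • s) = 0
  rw [QCohMod.res_smul]
  have haW : QCohMod.resFun Y hWU a ∈ (I.ideal V).map (QCohMod.resFun Y hWV) := by
    have h1 : QCohMod.resFun Y hWU a ∈ I.ideal W := by
      have := I.map_ideal hWU
      rw [← this]
      exact Ideal.mem_map_of_mem _ ha
    rwa [← I.map_ideal hWV] at h1
  have hgen := AdicLinTop.QcohRes.span_res M V.2 W.2 hWV (ι := Γ(M, V.1)) id
    (eq_top_iff.2 fun z _ => Submodule.subset_span ⟨z, rfl⟩)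
  generalize QCohMod.res M hWU s = t
  have ht : t ∈ Submodule.span Γ(Y, W.1) (Set.range fun z : Γ(M, V.1) => QCohMod.res M hWV z) := by
    rw [show (Submodule.span Γ(Y, W.1) (Set.range fun z : Γ(M, V.1) => QCohMod.res M hWV z)) = ⊤ from hgen]
    trivial
  generalize QCohMod.resFun Y hWU a = b at haW
  induction ht using Submodule.span_induction with
  | mem y hy =>
    obtain ⟨z, rfl⟩ := hy
    induction haW using Submodule.span_induction with
    | mem c hc =>
      obtain ⟨r, hr, rfl⟩ := hc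
      rw [← QCohMod.res_smul, hV r hr z, map_zero]
    | zero => exact zero_smul _ _
    | add c d _ _ hc hd => rw [add_smul, hc, hd, add_zero]
    | smul c d _ hd => rw [smul_eq_mul, mul_smul, hd, smul_zero]
  | zero => rw [smul_zero]
  | add u v _ _ hu hv => rw [smul_add, hu, hv, add_zero]
  | smul c u _ hu => rw [smul_comm, hu, smul_zero]

variable {A : Type u} [CommRing A] {J : Ideal A} {X Y : Scheme.{u}} [X.Over (Spec (CommRingCat.of A))]
  [Y.Over (Spec (CommRingCat.of A))] {f : X ⟶ Y} [IsProper f] [AlgebraicGeometry.IsNoetherian Y]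
  (hf : f ≫ (Y ↘ Spec (CommRingCat.of A)) = X ↘ Spec (CommRingCat.of A))

namespace PPData

variable (D : PPData J f)

include hf in
/-- A power of an equation of the exceptional locus kills kernels and cokernels on sections. -/
theorem exists_pow_kills {U : Y.Opens} (hU : IsAffineOpen U) (h : Γ(Y, U)) {V : Y.Opens}
    (hV : Y.basicOpen h ≤ V) (hiso : IsIso (f ∣_ V)) :
    ∃ e : ℕ, ∀ l,
      (∀ x : Γ(D.G.obj (op l), U), (D.α.app (op l)).app U x = 0 → h ^ e • x = 0) ∧
      ∀ y : Γ((Formal.completion J ((Scheme.Modules.pushforward f).obj D.F)).obj (op l), U),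
        ∃ x, (D.α.app (op l)).app U x = h ^ e • y := by
  have : IsNoetherianRing Γ(Y, U) := IsLocallyNoetherian.component_noetherian ⟨U, hU⟩
  obtain ⟨p, q, S, T, 𝒢, ℋ, s, a, -, hT, hℋ, ha⟩ := D.exists_gens hf hU
  obtain ⟨e₁, hc⟩ := D.exists_pow_coker hf hU 𝒢 ℋ s a hℋ ha h hV hiso hT
  obtain ⟨e₂, hk⟩ := D.exists_pow_kernel hf hU 𝒢 ℋ a ha h hV hiso
  have hc' : ∀ b, ∃ σ : Fin p → cRing J U, ∀ l, ℋ.val l (algebraMap Γ(Y, U) (cRing J U) (h ^ (e₁ + e₂)) •
      Pi.single b 1 - ∑ c, σ c • a c) = 0 := fun b => by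
    obtain ⟨σ, hσ⟩ := hc b
    refine ⟨algebraMap Γ(Y, U) (cRing J U) (h ^ e₂) • σ, fun l => ?_⟩
    have e : algebraMap Γ(Y, U) (cRing J U) (h ^ (e₁ + e₂)) • (Pi.single b 1 : Fin q → cRing J U) -
        ∑ c, (algebraMap Γ(Y, U) (cRing J U) (h ^ e₂) • σ) c • a c =
        algebraMap Γ(Y, U) (cRing J U) (h ^ e₂) •
          (algebraMap Γ(Y, U) (cRing J U) (h ^ e₁) • Pi.single b 1 - ∑ c, σ c • a c) := by
      simp only [smul_sub, Finset.smul_sum, smul_smul, Pi.smul_apply, smul_eq_mul, ← map_mul, ← pow_add, add_comm e₁]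
    rw [e, ℋ.val_algebraMap_smul, hσ, smul_zero]
  have hk' : ∀ v : Fin p → cRing J U, (∀ l, ℋ.val l (∑ c, v c • a c) = 0) →
      ∀ l, h ^ (e₁ + e₂) • 𝒢.val l v = 0 := fun v hv l => by
    rw [pow_add, mul_smul, hk v hv l, smul_zero]
  refine ⟨(e₁ + e₂) + (e₁ + e₂), fun l => ⟨fun x hx => ?_, fun y => ?_⟩⟩
  · rw [pow_add]
    exact FMod.Gens.smul_eq_zero_of_map_eq_zero 𝒢 ℋ (D.αLin U) a ha _ hc' hk' l x hx
  · rw [pow_add, mul_smul]
    exact FMod.Gens.exists_map_eq_smul 𝒢 ℋ (D.αLin U) a ha _ hc' l _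

include hf in
/-- On an affine open a power of the ideal kills kernels and cokernels. -/
theorem exists_pow_ideal (K : Y.IdealSheafData) (hiso : IsIso (f ∣_ K.support.compl)) (U : Y.affineOpens) :
    ∃ N : ℕ, ∀ r ∈ K.ideal U ^ N, ∀ l,
      (∀ x : Γ(D.G.obj (op l), U.1), (D.α.app (op l)).app U.1 x = 0 → r • x = 0) ∧
      ∀ y : Γ((Formal.completion J ((Scheme.Modules.pushforward f).obj D.F)).obj (op l), U.1),
        ∃ x, (D.α.app (op l)).app U.1 x = r • y := by
  have : IsNoetherianRing Γ(Y, U.1) := IsLocallyNoetherian.component_noetherian U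
  let Ann : Ideal Γ(Y, U.1) :=
    { carrier := {r | ∀ l,
        (∀ x : Γ(D.G.obj (op l), U.1), (D.α.app (op l)).app U.1 x = 0 → r • x = 0) ∧
        ∀ y : Γ((Formal.completion J ((Scheme.Modules.pushforward f).obj D.F)).obj (op l), U.1),
          ∃ x, (D.α.app (op l)).app U.1 x = r • y}
      add_mem' := fun {r r'} hr hr' l =>
        ⟨fun x hx => by rw [add_smul, (hr l).1 x hx, (hr' l).1 x hx, add_zero], fun y => by
          obtain ⟨x, hx⟩ := (hr l).2 y
          obtain ⟨x', hx'⟩ := (hr' l).2 y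
          exact ⟨x + x', by rw [map_add, hx, hx', add_smul]⟩⟩
      zero_mem' := fun l => ⟨fun x _ => zero_smul _ _, fun y => ⟨0, by rw [map_zero, zero_smul]⟩⟩
      smul_mem' := fun c r hr l =>
        ⟨fun x hx => by rw [smul_eq_mul, mul_smul, (hr l).1 x hx, smul_zero], fun y => by
          obtain ⟨x, hx⟩ := (hr l).2 y
          exact ⟨c • x, by rw [Scheme.Modules.Hom.app_smul, hx, smul_eq_mul, mul_smul]⟩⟩ }
  have hrad : K.ideal U ≤ Ann.radical := fun a ha => by
    have hle : Y.basicOpen a ≤ K.support.compl := fun x hx hsupp => by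
      have h1 : x ∈ Y.zeroLocus (K.ideal U : Set Γ(Y, U.1)) :=
        (Set.ext_iff.1 (K.coe_support_inter U) x).1 ⟨hsupp, Y.basicOpen_le a hx⟩ |>.1
      rw [Scheme.mem_zeroLocus_iff] at h1
      exact h1 a ha hx
    obtain ⟨e, he⟩ := D.exists_pow_kills hf U.2 a hle hiso
    exact ⟨e, he⟩
  obtain ⟨N, hN⟩ := Ideal.exists_pow_le_of_le_radical_of_fg hrad (IsNoetherian.noetherian _)
  exact ⟨N, fun r hr => hN hr⟩

include hf in
/-- The comparison has kernels and cokernels killed by a fixed power of the ideal. -/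
theorem kerCokerKilledByPow (K : Y.IdealSheafData) (hiso : IsIso (f ∣_ K.support.compl)) :
    Formal2.KerCokerKilledByPow K D.α := by
  choose N hN using fun U => D.exists_pow_ideal hf K hiso U
  obtain ⟨s, hs⟩ := isCompact_univ.elim_finite_subcover (fun U : Y.affineOpens => (U.1 : Set Y))
    (fun U => U.1.2) (fun x _ => by
      obtain ⟨U, hU, hx⟩ := QCohMod.exists_affine_mem x
      exact Set.mem_iUnion.2 ⟨⟨U, hU⟩, hx⟩)
  refine ⟨∑ U ∈ s, N U, fun n => ?_⟩
  have hH : Coh.IsCoh ((Scheme.Modules.pushforward f).obj D.F) := isCoh_pushforward hf D.hF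
  have := hH.1
  have := (D.hG.1 n).1
  have := isQCoh_completion_obj (I := J) hH n
  have hpow : ∀ U ∈ s, ∀ a ∈ (K ^ ((∑ U ∈ s, N U) + 1)).ideal U, a ∈ K.ideal U ^ N U := fun U hU a ha => by
    rw [Scheme.IdealSheafData.ideal_pow] at ha
    exact Ideal.pow_le_pow_right (Nat.le_succ_of_le (Finset.single_le_sum (fun _ _ => Nat.zero_le _) hU)) ha
  constructor
  · refine killed_of_cover _ _ fun x => ?_
    obtain ⟨U, hU, hxU⟩ := Set.mem_iUnion₂.1 (hs (Set.mem_univ x))
    refine ⟨U, hxU, fun a ha m => ?_⟩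
    apply QCohMod.app_injective_of_mono (kernel.ι (D.α.app (op n))) U.1
    rw [Scheme.Modules.Hom.app_smul, map_zero]
    exact (hN U a (hpow U hU a ha) n).1 _ congr(($(kernel.condition (D.α.app (op n)))).app U.1 m)
  · refine killed_of_cover _ _ fun x => ?_
    obtain ⟨U, hU, hxU⟩ := Set.mem_iUnion₂.1 (hs (Set.mem_univ x))
    refine ⟨U, hxU, fun a ha m => ?_⟩
    obtain ⟨y, rfl⟩ := QCohMod.app_surjective_of_epi (cokernel.π (D.α.app (op n))) U.2 m
    obtain ⟨z, hz⟩ := (hN U a (hpow U hU a ha) n).2 y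
    rw [← Scheme.Modules.Hom.app_smul, ← hz]
    exact congr(($(cokernel.condition (D.α.app (op n)))).app U.1 z)

end PPData

end Groth.CohC3
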