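import Groth.Agent.CohC3.PushKillerLevels

/-! The cokernel of the comparison of a formal module with the pushforward is killed by powers of
equations of the exceptional locus. -/

universe u

open CategoryTheory CategoryTheory.Limits AlgebraicGeometry Opposite TopologicalSpace
open Groth.CohBase.FlatBC (psec psec_smul psec_map psec_res psec_apply)

namespace Groth.CohC3

section General

variable {T X : Scheme.{u}} (k : T ⟶ X)

/-- Pulled back sections generate over affine opens. -/
lemma span_psec_eq_top (M : X.Modules) [M.IsQuasicoherent] {V : X.Opens} (hV : IsAffineOpen V)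
    {W : T.Opens} (hW : IsAffineOpen W) (e : W ≤ k ⁻¹ᵁ V) :
    Submodule.span Γ(T, W) (Set.range (psec k M e)) = ⊤ := by
  rw [eq_top_iff]
  rintro z -
  letI := QCohMod.sectionsAlg k e
  obtain ⟨w, rfl⟩ := (QCohMod.pullSecTensor_bijective k M e hV hW).2 z
  induction w using TensorProduct.induction_on with
  | zero => rw [map_zero]; exact zero_mem _
  | tmul b m =>
    rw [QCohMod.pullSecTensor_tmul]
    exact Submodule.smul_mem _ _ (Submodule.subset_span ⟨m, rfl⟩)
  | add a b ha hb => rw [map_add]; exact add_mem ha hb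

/-- Pulled back sections of generators generate. -/
lemma span_psec_of_span (M : X.Modules) [M.IsQuasicoherent] {V : X.Opens} (hV : IsAffineOpen V)
    {W : T.Opens} (hW : IsAffineOpen W) (e : W ≤ k ⁻¹ᵁ V) {s : Set Γ(M, V)}
    (hs : Submodule.span Γ(X, V) s = ⊤) :
    Submodule.span Γ(T, W) (psec k M e '' s) = ⊤ := by
  rw [eq_top_iff, ← span_psec_eq_top k M hV hW e, Submodule.span_le]
  rintro _ ⟨m, rfl⟩
  have hm : m ∈ Submodule.span Γ(X, V) s := by rw [hs]; trivial
  induction hm using Submodule.span_induction with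
  | mem x hx => exact Submodule.subset_span ⟨x, hx, rfl⟩
  | zero => rw [map_zero]; exact zero_mem _
  | add a b _ _ ha hb => rw [map_add]; exact add_mem ha hb
  | smul c a _ ha => rw [psec_smul]; exact Submodule.smul_mem _ _ ha

end General

section Csum

variable {A : Type u} [CommRing A] {J : Ideal A} {X Y : Scheme.{u}} [X.Over (Spec (CommRingCat.of A))]
  [Y.Over (Spec (CommRingCat.of A))] {f : X ⟶ Y} [IsProper f] {U : Y.Opens} {hU : IsAffineOpen U}
  {F : X.Modules} {q : ℕ} (s : Fin q → Γ(F, f ⁻¹ᵁ U))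

lemma csum_add (v w : Fin q → cRing J U) :
    csum J f hU F s (v + w) = csum J f hU F s v + csum J f hU F s w := by
  simp only [csum, Pi.add_apply, map_add, add_smul, Finset.sum_add_distrib]

lemma csum_smul (c : cRing J U) (v : Fin q → cRing J U) :
    csum J f hU F s (c • v) = baseApp (cX J f hU) ⊤ c • csum J f hU F s v := by
  simp only [csum, Finset.smul_sum, Pi.smul_apply, smul_eq_mul, map_mul, mul_smul]

lemma csum_zero : csum J f hU F s 0 = 0 := by simp [csum]

lemma csum_sum {p : ℕ} (c : Fin p → cRing J U) (v : Fin p → Fin q → cRing J U) :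
    csum J f hU F s (∑ a, c a • v a) = ∑ a, baseApp (cX J f hU) ⊤ (c a) • csum J f hU F s (v a) := by
  simp only [← csum_smul]
  refine map_sum (AddMonoidHom.mk' (csum J f hU F s) (csum_add s)) _ _

end Csum

variable {A : Type u} [CommRing A] {J : Ideal A} {X Y : Scheme.{u}} [X.Over (Spec (CommRingCat.of A))]
  [Y.Over (Spec (CommRingCat.of A))] {f : X ⟶ Y} [IsProper f] [IsNoetherian Y]
  (hf : f ≫ (Y ↘ Spec (CommRingCat.of A)) = X ↘ Spec (CommRingCat.of A))

/-- Data: a formal module, an algebraization of its pullback, the comparison maps. -/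
structure PPData (J : Ideal A) (f : X ⟶ Y) where
  G : ℕᵒᵖ ⥤ Y.Modules
  hG : Formal.IsCohFormal J G
  F : X.Modules
  hF : Coh.IsCoh F
  β : (G ⋙ Scheme.Modules.pullback f) ≅ Formal.completion J F
  α : G ⟶ Formal.completion J ((Scheme.Modules.pushforward f).obj F)
  cmp : Formal.completion J ((Scheme.Modules.pushforward f).obj F) ⟶ pushSys f J F
  hcmp : ∀ n, Formal.modPowπ J (n + 1) _ ≫ cmp.app (op n) =
    (Scheme.Modules.pushforward f).map (Formal.modPowπ J (n + 1) F)
  hαc : ∀ n, α.app (op n) ≫ cmp.app (op n) =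
    (Scheme.Modules.pullbackPushforwardAdjunction f).unit.app (G.obj (op n)) ≫
      (Scheme.Modules.pushforward f).map (β.hom.app (op n))

namespace PPData

variable (D : PPData J f) {U : Y.Opens} (hU : IsAffineOpen U)

lemma cmp_app (n : ℕ) (s : Γ(D.F, f ⁻¹ᵁ U)) :
    (D.cmp.app (op n)).app U ((Formal.modPowπ J (n + 1) ((Scheme.Modules.pushforward f).obj D.F)).app U
      (show Γ((Scheme.Modules.pushforward f).obj D.F, U) from s)) =
      (Formal.modPowπ J (n + 1) D.F).app (f ⁻¹ᵁ U) s :=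
  congr(($(D.hcmp n)).app U s)

lemma cmp_α_app (n : ℕ) (x : Γ(D.G.obj (op n), U)) :
    (D.cmp.app (op n)).app U ((D.α.app (op n)).app U x) =
      (D.β.hom.app (op n)).app (f ⁻¹ᵁ U) (PicAux.pullSec f (D.G.obj (op n)) x) :=
  congr(($(D.hαc n)).app U x)

include hf hU in
/-- Generators on an affine open for the source and target and a lift of `α` to the completion. -/
theorem exists_gens :
    ∃ (p q : ℕ) (S : FMod (J.map (baseApp Y U)) (fun l => Γ(D.G.obj (op l), U)))
      (T : FMod (J.map (baseApp Y U))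
        (fun l => Γ((Formal.completion J ((Scheme.Modules.pushforward f).obj D.F)).obj (op l), U)))
      (𝒢 : S.Gens p) (ℋ : T.Gens q) (s : Fin q → Γ(D.F, f ⁻¹ᵁ U)) (a : Fin p → Fin q → cRing J U),
      (∀ {i j : ℕ} (h : i ≤ j) x, S.tr h x = (sysMap D.G h).app U x) ∧
      (∀ {i j : ℕ} (h : i ≤ j) x, T.tr h x =
        (sysMap (Formal.completion J ((Scheme.Modules.pushforward f).obj D.F)) h).app U x) ∧
      (∀ l b, ℋ.g l b = (Formal.modPowπ J (l + 1) ((Scheme.Modules.pushforward f).obj D.F)).app U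
        (show Γ((Scheme.Modules.pushforward f).obj D.F, U) from s b)) ∧
      ∀ l c, (D.α.app (op l)).app U (𝒢.g l c) = ℋ.val l (a c) := by
  classical
  set H := (Scheme.Modules.pushforward f).obj D.F
  have hH : Coh.IsCoh H := isCoh_pushforward hf D.hF
  have hHq := fun n => isQCoh_completion_obj (I := J) hH n
  have hGq := fun n => (D.hG.1 n).1
  have hsG := isSys_of_isCohFormal D.hG
  have : Module.Finite Γ(Y, U) Γ(D.G.obj (op 0), U) := ((QCohMod.isCoh_iff _).1 (D.hG.1 0)).2 U hU
  have := ((QCohMod.isCoh_iff _).1 hH).2 U hU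
  let S := fmodOfSys hsG hGq hU
  let T := fmodOfSys (isSys_completion J H) hHq hU
  obtain ⟨p, ⟨𝒢⟩⟩ := S.exists_gens
  obtain ⟨q, s, hs⟩ := Module.Finite.exists_fin (R := Γ(Y, U)) (M := Γ(H, U))
  have := hH.1
  let ℋ : T.Gens q :=
    { g := fun l b => (Formal.modPowπ J (l + 1) H).app U (s b)
      compat := fun {i j} h b => congr(($(modPowπ_sysMap J H h)).app U (s b))
      span := fun l => by
        rw [eq_top_iff]
        rintro y -
        obtain ⟨m, rfl⟩ := (isQuot_modPowπ J (l + 1) H).app_surjective hU y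
        have hm : m ∈ Submodule.span Γ(Y, U) (Set.range s) := by rw [hs]; trivial
        induction hm using Submodule.span_induction with
        | mem x hx =>
          obtain ⟨b, rfl⟩ := hx
          exact Submodule.subset_span ⟨b, rfl⟩
        | zero => rw [map_zero]; exact zero_mem _
        | add a b _ _ ha hb => rw [map_add]; exact add_mem ha hb
        | smul c a _ ha => rw [Scheme.Modules.Hom.app_smul]; exact Submodule.smul_mem _ _ ha }
  have hcompat : ∀ c l, T.tr (Nat.le_succ l) ((D.α.app (op (l + 1))).app U (𝒢.g (l + 1) c)) =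
      (D.α.app (op l)).app U (𝒢.g l c) := fun c l => by
    rw [← 𝒢.compat (Nat.le_succ l) c]
    exact congr(($((D.α.naturality (homOfLE (Nat.le_succ l)).op).symm)).app U (𝒢.g (l + 1) c))
  have hex : ∀ c, ∃ v : Fin q → cRing J U, ∀ l, (D.α.app (op l)).app U (𝒢.g l c) = ℋ.val l v := fun c => by
    obtain ⟨r, hr⟩ := (Submodule.mem_span_range_iff_exists_fun Γ(Y, U)).1
      (show (D.α.app (op 0)).app U (𝒢.g 0 c) ∈ Submodule.span Γ(Y, U) (Set.range (ℋ.g 0)) by
        rw [ℋ.span]; trivial)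
    obtain ⟨v, hv, -⟩ := ℋ.exists_val_eq 0 (fun l => (D.α.app (op l)).app U (𝒢.g l c))
      (fun l _ => hcompat c l) r hr
    exact ⟨v, fun l => (hv l (Nat.zero_le l)).symm⟩
  choose a ha using hex
  exact ⟨p, q, S, T, 𝒢, ℋ, s, a, fun h x => rfl, fun h x => rfl, fun l b => rfl, fun l c => ha c l⟩

variable {p q : ℕ} {S : FMod (J.map (baseApp Y U)) (fun l => Γ(D.G.obj (op l), U))}
  {T : FMod (J.map (baseApp Y U))
    (fun l => Γ((Formal.completion J ((Scheme.Modules.pushforward f).obj D.F)).obj (op l), U))}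
  (𝒢 : S.Gens p) (ℋ : T.Gens q) (s : Fin q → Γ(D.F, f ⁻¹ᵁ U)) (a : Fin p → Fin q → cRing J U)
  (hℋ : ∀ l b, ℋ.g l b = (Formal.modPowπ J (l + 1) ((Scheme.Modules.pushforward f).obj D.F)).app U
    (show Γ((Scheme.Modules.pushforward f).obj D.F, U) from s b))
  (ha : ∀ l c, (D.α.app (op l)).app U (𝒢.g l c) = ℋ.val l (a c))

include hf hℋ in
/-- The image of a combination in the pullback of the level `l`. -/
lemma csum_level_cmp (l : ℕ) (v : Fin q → cRing J U) :
    ((Scheme.Modules.pullback (ck J f hU)).map (Formal.modPowπ J (l + 1) D.F)).app ⊤ (csum J f hU D.F s v) =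
      csec J f hU (Formal.modPow J (l + 1) D.F) ((D.cmp.app (op l)).app U (ℋ.val l v)) := by
  rw [csum_level f hf hU _ (isQuot_modPowπ J (l + 1) D.F).killedBy s v
    (fun b => FMod.Gens.rep (l + 1) (v b)) (fun b => FMod.Gens.mk_rep (l + 1) (v b))]
  congr 1
  rw [map_sum, FMod.Gens.val, map_sum]
  refine Finset.sum_congr rfl fun b _ => ?_
  rw [hℋ, Scheme.Modules.Hom.app_smul, Scheme.Modules.Hom.app_smul]
  exact (congrArg (fun t : Γ(Formal.modPow J (l + 1) D.F, f ⁻¹ᵁ U) => f.app U (FMod.Gens.rep (l + 1) (v b)) • t) (D.cmp_app l (s b))).symm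

include hf hℋ in
/-- Combinations vanishing in the base change vanish at all levels. -/
theorem val_eq_zero_of_csum_eq_zero
    (hT : ∀ {i j : ℕ} (h : i ≤ j) x, T.tr h x =
      (sysMap (Formal.completion J ((Scheme.Modules.pushforward f).obj D.F)) h).app U x)
    (v : Fin q → cRing J U) (hv : csum J f hU D.F s v = 0) (l : ℕ) : ℋ.val l v = 0 := by
  set H := (Scheme.Modules.pushforward f).obj D.F
  have hH : Coh.IsCoh H := isCoh_pushforward hf D.hF
  have := hH.1
  obtain ⟨-, c, hc, -⟩ := exists_push_bounds (J := J) f hf D.hF hU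
  have hFq := isQCoh_completion_obj (I := J) D.hF (l + c)
  have h1 : (D.cmp.app (op (l + c))).app U (ℋ.val (l + c) v) = 0 := by
    refine @csec_injective_of_killed A _ J X Y _ _ f hf U hU (Formal.modPow J (l + c + 1) D.F) hFq (l + c + 1)
      (isQuot_modPowπ J (l + c + 1) D.F).killedBy _ ?_
    rw [← D.csum_level_cmp hf hU ℋ s hℋ, hv, map_zero]
  obtain ⟨h', hh'⟩ := (isQuot_modPowπ J (l + c + 1) H).app_surjective hU (ℋ.val (l + c) v)
  have h2 : (Formal.modPowπ J (l + c + 1) D.F).app (f ⁻¹ᵁ U) h' = 0 := by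
    rw [← D.cmp_app (l + c) h']
    exact (congrArg (fun t => (D.cmp.app (op (l + c))).app U t) hh').trans h1
  have h3 := hc (l + 1) h' (by
    rw [← modPowπ_qTr D.F (Ideal.pow_le_pow_right (show l + 1 + c ≤ l + c + 1 by omega) :
      J ^ (l + c + 1) ≤ J ^ (l + 1 + c)), ← app_comp_apply, h2, map_zero])
  rw [← ℋ.tr_val (Nat.le_add_right l c) v, hT, ← hh']
  refine (congr(($(modPowπ_sysMap J H (Nat.le_add_right l c))).app U h')).trans ?_
  refine ((isQuot_modPowπ J (l + 1) H).app_eq_zero_iff h' hU).2 ?_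
  rwa [Ideal.map_pow]

include hf hℋ ha in
/-- The sections `α(g_c)` generate the base change of `F`. -/
theorem epi_freeHom : Epi (freeHom (fun c => csum J f hU D.F s (a c))) := by
  letI : (cX J f hU).Over (Spec (CommRingCat.of A)) := ⟨ck J f hU ≫ (X ↘ Spec (CommRingCat.of A))⟩
  have := isNoetherianRing_cRing J hU
  have := isAdicComplete_cRing J hU
  have := isNoetherian_of_proper (cRing J U) (cX J f hU)
  set F'' := (Scheme.Modules.pullback (ck J f hU)).obj D.F
  have := D.hF.1
  have hF'' : Coh.IsCoh F'' := ⟨QCohMod.isQCoh_pullback_obj _ D.F, QCohMod.isFT_pullback _ _ D.hF.2⟩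
  have := hF''.1
  set Φ := freeHom (fun c => csum J f hU D.F s (a c))
  have := (isCoh_freeP (cX J f hU) p).1
  refine Preadditive.epi_of_isZero_cokernel Φ (sections_eq_zero_of_top_le_smul (I := cIdeal J U)
    (QCohMod.isCoh_cokernel Φ hF'') fun x => ?_)
  have hxU : ck J f hU x ∈ f ⁻¹ᵁ U := ck_preimage_top J f hU trivial
  obtain ⟨_, ⟨V, hV, rfl⟩, hxV, hVU⟩ := X.isBasis_affineOpens.exists_subset_of_mem_open hxU (f ⁻¹ᵁ U).2
  obtain ⟨_, ⟨W, hW, rfl⟩, hxW, hWV⟩ := (cX J f hU).isBasis_affineOpens.exists_subset_of_mem_open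
    (show x ∈ ck J f hU ⁻¹ᵁ V from hxV) (ck J f hU ⁻¹ᵁ V).2
  refine ⟨W, hW, hxW, fun y _ => ?_⟩
  have := (isCoh_modPow' D.hF J (0 + 1)).1
  have := (D.hG.1 0).1
  -- the images of the generators span the fibre modulo `J`
  set F₁ := (Scheme.Modules.pullback (ck J f hU)).obj (Formal.modPow J (0 + 1) D.F)
  let p₁ : F'' ⟶ F₁ := (Scheme.Modules.pullback (ck J f hU)).map (Formal.modPowπ J (0 + 1) D.F)
  have hgen : Submodule.span Γ(X, V) (Set.range fun c => QCohMod.res (Formal.modPow J (0 + 1) D.F) hVU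
      ((D.cmp.app (op 0)).app U ((D.α.app (op 0)).app U (𝒢.g 0 c)))) = ⊤ := by
    have h1 := span_psec_of_span f (D.G.obj (op 0)) hU hV hVU (𝒢.span 0)
    rw [eq_top_iff]
    rintro z -
    have hz : (inv (D.β.hom.app (op 0))).app V z ∈ Submodule.span Γ(X, V)
        (psec f (D.G.obj (op 0)) hVU '' Set.range (𝒢.g 0)) := by rw [h1]; trivial
    have hz' : (D.β.hom.app (op 0)).app V ((inv (D.β.hom.app (op 0))).app V z) = z :=
      congr(($(IsIso.inv_hom_id (D.β.hom.app (op 0)))).app V z)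
    rw [← hz']
    generalize (inv (D.β.hom.app (op 0))).app V z = w at hz
    induction hz using Submodule.span_induction with
    | mem t ht =>
      obtain ⟨_, ⟨c, rfl⟩, rfl⟩ := ht
      refine Submodule.subset_span ⟨c, ?_⟩
      change QCohMod.res _ hVU _ = _
      rw [D.cmp_α_app 0 (𝒢.g 0 c), psec_apply]
      exact QCohMod.res_app (D.β.hom.app (op 0)) hVU _
    | zero => rw [map_zero]; exact zero_mem _
    | add u v _ _ hu hv => rw [map_add]; exact add_mem hu hv
    | smul r u _ hu => rw [Scheme.Modules.Hom.app_smul]; exact Submodule.smul_mem _ _ hu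
  have hspan := span_psec_of_span (ck J f hU) (Formal.modPow J (0 + 1) D.F) hV hW hWV hgen
  obtain ⟨z, rfl⟩ := QCohMod.app_surjective_of_epi (cokernel.π Φ) hW y
  -- lift
  have hmem : p₁.app W z ∈ Submodule.span Γ(cX J f hU, W)
      (Set.range fun c => p₁.app W (QCohMod.res F'' le_top (csum J f hU D.F s (a c)))) := by
    have h1 : p₁.app W z ∈ (⊤ : Submodule Γ(cX J f hU, W) Γ(F₁, W)) := trivial
    rw [← hspan] at h1
    refine Submodule.span_mono ?_ h1
    rintro _ ⟨_, ⟨c, rfl⟩, rfl⟩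
    refine ⟨c, ?_⟩
    change p₁.app W (QCohMod.res F'' le_top (csum J f hU D.F s (a c))) = psec _ _ _ (QCohMod.res _ hVU _)
    rw [← QCohMod.res_app, D.csum_level_cmp hf hU ℋ s hℋ 0, ← ha]
    exact psec_res (ck J f hU) (Formal.modPow J (0 + 1) D.F) (ck_preimage_top J f hU) hWV hVU le_top
      ((D.cmp.app (op 0)).app U ((D.α.app (op 0)).app U (𝒢.g 0 c)))
  obtain ⟨r, hr⟩ := (Submodule.mem_span_range_iff_exists_fun Γ(cX J f hU, W)).1 hmem
  have h0 : p₁.app W (z - Φ.app W (vec W r)) = 0 := by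
    rw [freeHom_vec, map_sub, map_sum, sub_eq_zero]
    simp only [Scheme.Modules.Hom.app_smul]
    exact hr.symm
  have hq : IsQuot (A := cRing J U) (cIdeal J U) p₁ := by
    have := ((isQuot_modPowπ J (0 + 1) D.F).map_adj
      (Scheme.Modules.pullbackPushforwardAdjunction (ck J f hU)) rfl).changeBase (R := cRing J U)
      (ψ := (algebraMap Γ(Y, U) (cRing J U)).comp (baseApp Y U)) (toGlobal_ck J f hU hf)
    rwa [Ideal.map_pow, zero_add, pow_one] at this
  have h1 := (hq.app_eq_zero_iff _ hW).1 h0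
  have h2 : (cokernel.π Φ).app W z = (cokernel.π Φ).app W (z - Φ.app W (vec W r)) := by
    rw [map_sub, show (cokernel.π Φ).app W (Φ.app W (vec W r)) = 0 from
      congr(($(cokernel.condition Φ)).app W (vec W r)), sub_zero]
  rw [h2]
  exact app_mem_smul (cokernel.π Φ) W _ h1

variable (J f) in
omit [IsProper f] [AlgebraicGeometry.IsNoetherian Y] [X.Over (Spec (CommRingCat.of A))] in
lemma cπ_preimage_cD (h : Γ(Y, U)) : cπ J f hU ⁻¹ᵁ cD J U h =
    (cX J f hU).basicOpen (baseApp (cX J f hU) ⊤ (algebraMap Γ(Y, U) (cRing J U) h)) := by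
  rw [cD, Scheme.Hom.preimage_basicOpen]
  exact congrArg (cX J f hU).basicOpen (congr($((cX J f hU).presheaf.map_id _)
    ((cπ J f hU).app ⊤ ((Scheme.ΓSpecIso (CommRingCat.of (cRing J U))).inv (algebraMap Γ(Y, U) (cRing J U) h))))).symm

include hf hU hℋ ha in
/-- A power of `h` carries every generator of the target into the image of `α`. -/
theorem exists_pow_coker (h : Γ(Y, U)) {V : Y.Opens} (hV : Y.basicOpen h ≤ V) (hiso : IsIso (f ∣_ V))
    (hT : ∀ {i j : ℕ} (h : i ≤ j) x, T.tr h x =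
      (sysMap (Formal.completion J ((Scheme.Modules.pushforward f).obj D.F)) h).app U x) :
    ∃ e : ℕ, ∀ b, ∃ σ : Fin p → cRing J U, ∀ l,
      ℋ.val l (algebraMap Γ(Y, U) (cRing J U) (h ^ e) • Pi.single b 1 - ∑ c, σ c • a c) = 0 := by
  classical
  have := D.epi_freeHom hf hU 𝒢 ℋ s a hℋ ha
  set Φ := freeHom (fun c => csum J f hU D.F s (a c))
  have := isNoetherianRing_cRing J hU
  have := isNoetherian_of_proper (cRing J U) (cX J f hU)
  have := D.hF.1
  have := (isCoh_freeP (cX J f hU) p).1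
  have hisoD := isIso_cπ_restrict (f := f) (J := J) hU h hV hiso
  set D'' := cπ J f hU ⁻¹ᵁ cD J U h
  have hD'' : IsAffineOpen D'' := by
    have : IsAffine (cD J U h).toScheme := ((isAffineOpen_top _).basicOpen _)
    exact IsAffine.of_isIso (cπ J f hU ∣_ cD J U h)
  set hh := algebraMap Γ(Y, U) (cRing J U) h
  -- each generator of the target
  have hb : ∀ b : Fin q, ∃ (e : ℕ) (σ : Fin p → cRing J U),
      csum J f hU D.F s (hh ^ e • Pi.single b 1 - ∑ c, σ c • a c) = 0 := fun b => by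
    obtain ⟨z, hz⟩ := QCohMod.app_surjective_of_epi Φ hD''
      (QCohMod.res _ (le_top : D'' ≤ ⊤) (csum J f hU D.F s (Pi.single b 1)))
    obtain ⟨c, rfl⟩ := vec_surjective D'' z
    choose N σ hσ using fun i => exists_pow_mul_eq_baseApp f hU h hisoD (c i)
    set N' := ∑ i, N i
    have h1 : ∀ i, baseApp (cX J f hU) D'' (hh ^ N') * c i =
        baseApp (cX J f hU) D'' (hh ^ (N' - N i) * σ i) := fun i => by
      have hle : N i ≤ N' := Finset.single_le_sum (fun _ _ => Nat.zero_le _) (Finset.mem_univ i)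
      rw [map_mul, ← hσ, ← mul_assoc, ← map_mul, ← pow_add, Nat.sub_add_cancel hle]
    set w := hh ^ N' • Pi.single b 1 - ∑ i, (hh ^ (N' - N i) * σ i) • a i
    have hw : QCohMod.res _ (le_top : D'' ≤ ⊤) (csum J f hU D.F s w) = 0 := by
      have : csum J f hU D.F s (hh ^ N' • Pi.single b 1) =
          csum J f hU D.F s w + ∑ i, baseApp (cX J f hU) ⊤ (hh ^ (N' - N i) * σ i) • csum J f hU D.F s (a i) := by
        rw [← csum_sum, ← csum_add, sub_add_cancel]
      rw [eq_sub_of_add_eq this.symm, map_sub, map_sum, csum_smul, QCohMod.res_smul, sub_eq_zero, ← hz,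
        freeHom_vec, Finset.smul_sum]
      refine Finset.sum_congr rfl fun i _ => ?_
      rw [QCohMod.res_smul, smul_smul, baseApp_res (le_top : D'' ≤ ⊤), h1, baseApp_res (le_top : D'' ≤ ⊤)]
    have hw' : QCohMod.res _ ((cX J f hU).basicOpen_le (baseApp (cX J f hU) ⊤ hh))
        (csum J f hU D.F s w) = 0 := by
      rw [← QCohMod.res_res _ (le_top : D'' ≤ ⊤) (cπ_preimage_cD J f hU h).ge, hw, map_zero]
    obtain ⟨M, hM⟩ := QCohMod.exists_pow_smul_eq_zero_of_isCompact
      ((Scheme.Modules.pullback (ck J f hU)).obj D.F) isCompact_univ _ _ hw'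
    refine ⟨M + N', fun i => hh ^ M * (hh ^ (N' - N i) * σ i), ?_⟩
    have : hh ^ (M + N') • Pi.single b 1 - ∑ i, (hh ^ M * (hh ^ (N' - N i) * σ i)) • a i = hh ^ M • w := by
      simp only [w, smul_sub, Finset.smul_sum, smul_smul, pow_add]
    rw [this, csum_smul, map_pow]
    exact hM
  choose e σ hσ using hb
  refine ⟨∑ b, e b, fun b => ⟨hh ^ (∑ b, e b - e b) • σ b, fun l => ?_⟩⟩
  have hle : e b ≤ ∑ b, e b := Finset.single_le_sum (fun _ _ => Nat.zero_le _) (Finset.mem_univ b)
  have e1 : algebraMap Γ(Y, U) (cRing J U) (h ^ (∑ b, e b)) • (Pi.single b 1 : Fin q → cRing J U) -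
      ∑ c, (hh ^ (∑ b, e b - e b) • σ b) c • a c =
        hh ^ (∑ b, e b - e b) • (hh ^ e b • Pi.single b 1 - ∑ c, σ b c • a c) := by
    simp only [smul_sub, Finset.smul_sum, smul_smul, Pi.smul_apply, smul_eq_mul, ← pow_add,
      Nat.sub_add_cancel hle, map_pow, hh]
  rw [e1, ℋ.val_smul, D.val_eq_zero_of_csum_eq_zero hf hU ℋ s hℋ hT _ (hσ b) l, smul_zero]

end PPData

end Groth.CohC3
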