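import Groth.Agent.CohC3.PushKillerCoker
import Groth.Agent.CohC3.FormalModuleKill

/-! The kernel of the comparison of a formal module with the pushforward is killed by powers of
equations of the exceptional locus. -/

universe u

open CategoryTheory CategoryTheory.Limits AlgebraicGeometry Opposite TopologicalSpace
open Groth.CohBase.FlatBC (psec psec_smul psec_map psec_res psec_apply)

namespace Groth.CohC3

section VecQ

variable {W₀ : Scheme.{u}} {p k : ℕ}

/-- The image of a generator under the cokernel projection vanishes. -/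
lemma cokernel_π_freeHom {M : W₀.Modules} (t : Fin k → Γ(M, (⊤ : W₀.Opens))) (i : Fin k) :
    (cokernel.π (freeHom t)).app ⊤ (t i) = 0 := by
  have h : biproduct.ι (fun _ : Fin k => Coh.structureModule W₀) i ≫ freeHom t = PicAux.homOfSection (t i) :=
    biproduct.ι_desc _ _
  have h2 : PicAux.homOfSection (t i) ≫ cokernel.π (freeHom t) = 0 := by
    rw [← h, Category.assoc, cokernel.condition, comp_zero]
  have h3 := congr(($h2).app ⊤ (PicAux.oneSec W₀ ⊤))
  rwa [Scheme.Modules.Hom.comp_app, ConcreteCategory.comp_apply, PicAux.homOfSection_one] at h3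

end VecQ

variable {A : Type u} [CommRing A] {J : Ideal A} {X Y : Scheme.{u}} [X.Over (Spec (CommRingCat.of A))]
  [Y.Over (Spec (CommRingCat.of A))] {f : X ⟶ Y} [IsProper f] [AlgebraicGeometry.IsNoetherian Y]
  (hf : f ≫ (Y ↘ Spec (CommRingCat.of A)) = X ↘ Spec (CommRingCat.of A))

namespace PPData

variable (D : PPData J f) {U : Y.Opens} (hU : IsAffineOpen U)
  {p q : ℕ} {S : FMod (J.map (baseApp Y U)) (fun l => Γ(D.G.obj (op l), U))}
  {T : FMod (J.map (baseApp Y U))
    (fun l => Γ((Formal.completion J ((Scheme.Modules.pushforward f).obj D.F)).obj (op l), U))}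
  (𝒢 : S.Gens p) (ℋ : T.Gens q) (a : Fin p → Fin q → cRing J U)
  (ha : ∀ l c, (D.α.app (op l)).app U (𝒢.g l c) = ℋ.val l (a c))

/-- The comparison on sections, as a linear map. -/
noncomputable def αLin (U : Y.Opens) (l : ℕ) :
    Γ(D.G.obj (op l), U) →ₗ[Γ(Y, U)]
      Γ((Formal.completion J ((Scheme.Modules.pushforward f).obj D.F)).obj (op l), U) where
  toFun := (D.α.app (op l)).app U
  map_add' := map_add _
  map_smul' r x := Scheme.Modules.Hom.app_smul _ _ _

include hf hU ha in
/-- A power of `h` kills the combinations dying in the target at all levels. -/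
theorem exists_pow_kernel (h : Γ(Y, U)) {V : Y.Opens} (hV : Y.basicOpen h ≤ V) (hiso : IsIso (f ∣_ V)) :
    ∃ e : ℕ, ∀ v : Fin p → cRing J U, (∀ l, ℋ.val l (∑ c, v c • a c) = 0) → ∀ l, h ^ e • 𝒢.val l v = 0 := by
  classical
  letI : (cX J f hU).Over (Spec (CommRingCat.of A)) := ⟨ck J f hU ≫ (X ↘ Spec (CommRingCat.of A))⟩
  have hR : IsNoetherianRing Γ(Y, U) := IsLocallyNoetherian.component_noetherian ⟨U, hU⟩
  have := isNoetherianRing_cRing J hU
  have := isAdicComplete_cRing J hU
  have := isNoetherian_of_proper (cRing J U) (cX J f hU)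
  let Z : Submodule (cRing J U) (Fin p → cRing J U) :=
    { carrier := {v | ∀ l, 𝒢.val l v = 0}
      add_mem' := fun hv hw l => by rw [𝒢.val_add, hv, hw, add_zero]
      zero_mem' := fun l => 𝒢.val_zero l
      smul_mem' := fun x v hv l => by rw [𝒢.val_smul, hv, smul_zero] }
  let P' : Submodule (cRing J U) (Fin p → cRing J U) :=
    { carrier := {v | ∀ l, ℋ.val l (∑ c, v c • a c) = 0}
      add_mem' := fun {v w} hv hw l => by
        simp only [Pi.add_apply, add_smul, Finset.sum_add_distrib, ℋ.val_add, hv l, hw l, add_zero]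
      zero_mem' := fun l => by simp [ℋ.val_zero]
      smul_mem' := fun x v hv l => by
        simp only [Pi.smul_apply, smul_eq_mul, mul_smul, ← Finset.smul_sum, ℋ.val_smul, hv l, smul_zero] }
  obtain ⟨k, z, hz⟩ := Submodule.fg_iff_exists_fin_generating_family.1 (IsNoetherian.noetherian Z)
  -- the sections of the free module on the base change
  let sc : (Fin p → cRing J U) → ∀ W : (cX J f hU).Opens, Fin p → Γ(cX J f hU, W) :=
    fun v W c => baseApp (cX J f hU) W (v c)
  let t : Fin k → Γ(freeP (cX J f hU) p, (⊤ : (cX J f hU).Opens)) := fun i => vec ⊤ (sc (z i) ⊤)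
  set ψ := freeHom t
  set Q := cokernel ψ
  have := (isCoh_freeP (cX J f hU) p).1
  have := (isCoh_freeP (cX J f hU) k).1
  have hQ : Coh.IsCoh Q := QCohMod.isCoh_cokernel ψ (isCoh_freeP _ p)
  have := hQ.1
  let L : ∀ W : (cX J f hU).Opens, (Fin p → cRing J U) → Γ(Q, W) :=
    fun W v => (cokernel.π ψ).app W (vec W (sc v W))
  have hLadd : ∀ W v w, L W (v + w) = L W v + L W w := fun W v w => by
    change (cokernel.π ψ).app W (vec W (sc (v + w) W)) = _
    rw [show sc (v + w) W = sc v W + sc w W from funext fun c => map_add _ _ _, map_add, map_add]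
  have hLsmul : ∀ W (r : cRing J U) v, L W (r • v) = baseApp (cX J f hU) W r • L W v := fun W r v => by
    change (cokernel.π ψ).app W (vec W (sc (r • v) W)) = _
    rw [show sc (r • v) W = baseApp (cX J f hU) W r • sc v W from funext fun c => map_mul _ _ _, map_smul,
      Scheme.Modules.Hom.app_smul]
  have hLres : ∀ W v, QCohMod.res Q (le_top : W ≤ ⊤) (L ⊤ v) = L W v := fun W v => by
    change QCohMod.res Q _ ((cokernel.π ψ).app ⊤ (vec ⊤ (sc v ⊤))) = _
    rw [QCohMod.res_app, vec_res]
    exact congrArg (fun u => (cokernel.π ψ).app W (vec W u)) (funext fun c => baseApp_res _ _)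
  have hLZ : ∀ W v, v ∈ Z → L W v = 0 := fun W v hv => by
    rw [← hz] at hv
    induction hv using Submodule.span_induction with
    | mem x hx =>
      obtain ⟨i, rfl⟩ := hx
      rw [← hLres]
      exact (congrArg (QCohMod.res Q _) (cokernel_π_freeHom t i)).trans (map_zero _)
    | zero =>
      rw [← zero_smul (cRing J U) (0 : Fin p → cRing J U), hLsmul, map_zero, zero_smul]
    | add x y _ _ hx hy => rw [hLadd, hx, hy, add_zero]
    | smul r x _ hx => rw [hLsmul, hx, smul_zero]
  -- every element of `P'` dies in `Q`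
  have hvanish : ∀ v ∈ P', L ⊤ v = 0 := by
    intro v hv
    refine eq_zero_of_forall_modPow (I := cIdeal J U) hQ _ fun n => ?_
    have hq := isQuot_modPowπ (cIdeal J U) (n + 1) Q
    refine CohTwo.eq_of_local _ _ _ fun x _ => ?_
    have hxU : ck J f hU x ∈ f ⁻¹ᵁ U := ck_preimage_top J f hU trivial
    obtain ⟨_, ⟨V', hV', rfl⟩, hxV, hVU⟩ := X.isBasis_affineOpens.exists_subset_of_mem_open hxU (f ⁻¹ᵁ U).2
    obtain ⟨_, ⟨W, hW, rfl⟩, hxW, hWV⟩ := (cX J f hU).isBasis_affineOpens.exists_subset_of_mem_open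
      (show x ∈ ck J f hU ⁻¹ᵁ V' from hxV) (ck J f hU ⁻¹ᵁ V').2
    refine ⟨W, le_top, hxW, Eq.trans ?_ (map_zero _).symm⟩
    refine (QCohMod.res_app (Formal.modPowπ (cIdeal J U) (n + 1) Q) (le_top : W ≤ ⊤) (L ⊤ v)).trans ?_
    rw [hLres]
    refine (hq.app_eq_zero_iff _ hW).2 ?_
    -- pulled back to `V'` the value at level `n` dies
    have := (D.hG.1 n).1
    have hx0 : PicAux.pullSec f (D.G.obj (op n)) (𝒢.val n v) = 0 := by
      have h1 : (D.αLin U n) (𝒢.val n v) = 0 := by
        rw [FMod.Gens.map_val 𝒢 ℋ (D.αLin U) a ha]; exact hv n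
      have h2 := D.cmp_α_app n (𝒢.val n v)
      rw [show (D.α.app (op n)).app U (𝒢.val n v) = 0 from h1, map_zero] at h2
      have h3 := congr(($(IsIso.hom_inv_id (D.β.hom.app (op n)))).app (f ⁻¹ᵁ U)
        (PicAux.pullSec f (D.G.obj (op n)) (𝒢.val n v)))
      rw [Scheme.Modules.Hom.comp_app, ConcreteCategory.comp_apply, ← h2] at h3
      exact h3.symm.trans (map_zero _)
    letI := QCohMod.sectionsAlg f hVU
    have h4 : (1 : Γ(X, V')) ⊗ₜ[Γ(Y, U)] 𝒢.val n v = 0 := by
      apply (QCohMod.pullSecTensor_bijective f (D.G.obj (op n)) hVU hU hV').1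
      rw [QCohMod.pullSecTensor_tmul, one_smul, map_zero, hx0, map_zero]
    have h5 := mem_span_of_one_tmul_eq_zero (fun c => 𝒢.g n c) (𝒢.span n)
      (fun c => FMod.Gens.rep (n + 1) (v c)) h4
    -- transfer to `W`
    let κ : Γ(X, V') →+* Γ(cX J f hU, W) := ((ck J f hU).appLE V' W hWV).hom
    have hθ : ∀ r : Γ(Y, U), baseApp (cX J f hU) W (algebraMap Γ(Y, U) (cRing J U) r) =
        κ (algebraMap Γ(Y, U) Γ(X, V') r) := fun r => by
      rw [baseApp_algebraMap J f hU r W (hWV.trans ((ck J f hU).preimage_mono hVU))]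
      change _ = (ck J f hU).appLE V' W hWV ((f.app U ≫ X.presheaf.map (homOfLE hVU).op) r)
      rw [CommRingCat.comp_apply]
      exact (congr($(Scheme.Hom.map_appLE (ck J f hU) hWV (homOfLE hVU).op) (f.app U r))).symm
    let M : Submodule Γ(cX J f hU, W) Γ(Q, W) := (cIdeal J U ^ (n + 1)).map (baseApp (cX J f hU) W) • ⊤
    have hmemM : ∀ u : Fin p → cRing J U,
        (∀ c, u c ∈ ((J.map (baseApp Y U)) ^ (n + 1)).map (algebraMap Γ(Y, U) (cRing J U))) → L W u ∈ M := by
      intro u hu
      change (cokernel.π ψ).app W (vec W (sc u W)) ∈ M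
      rw [vec_apply, map_sum]
      refine Submodule.sum_mem _ fun c _ => ?_
      rw [Scheme.Modules.Hom.app_smul]
      refine Submodule.smul_mem_smul (Ideal.mem_map_of_mem _ ?_) trivial
      have := hu c
      rwa [Ideal.map_pow, Ideal.map_map] at this
    have hrel : ∀ ρ : Fin p → Γ(Y, U), ∑ c, ρ c • 𝒢.g n c = 0 →
        L W (fun c => algebraMap Γ(Y, U) (cRing J U) (ρ c)) ∈ M := by
      intro ρ hρ
      obtain ⟨y, hy, hdiff⟩ := 𝒢.exists_sub_mem_of_val_eq_zero n
        (fun c => algebraMap Γ(Y, U) (cRing J U) (ρ c))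
        (by rw [𝒢.val_eq n _ ρ fun c => by rw [AlgHom.commutes]; rfl]; exact hρ)
      have h6 := hmemM (fun c => algebraMap Γ(Y, U) (cRing J U) (ρ c) - y c) hdiff
      rw [← sub_add_cancel (fun c => algebraMap Γ(Y, U) (cRing J U) (ρ c)) y, hLadd, hLZ W y hy, add_zero]
      exact h6
    let Lr : (Fin p → Γ(X, V')) → Γ(Q, W) := fun u => (cokernel.π ψ).app W (vec W (fun c => κ (u c)))
    have hLr : ∀ u ∈ Submodule.span Γ(X, V')
        ((fun ρ : Fin p → Γ(Y, U) => fun c => algebraMap Γ(Y, U) Γ(X, V') (ρ c)) ''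
          {ρ | ∑ c, ρ c • 𝒢.g n c = 0}), Lr u ∈ M := by
      intro u hu
      induction hu using Submodule.span_induction with
      | mem x hx =>
        obtain ⟨ρ, hρ, rfl⟩ := hx
        have := hrel ρ hρ
        simp only [L, sc, hθ] at this
        exact this
      | zero =>
        change (cokernel.π ψ).app W (vec W (fun c => κ 0)) ∈ M
        rw [show (fun _ : Fin p => κ 0) = 0 from funext fun _ => map_zero κ, map_zero, map_zero]
        exact zero_mem _
      | add x y _ _ hx hy =>
        change (cokernel.π ψ).app W (vec W (fun c => κ (x c + y c))) ∈ M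
        rw [show (fun c => κ (x c + y c)) = (fun c => κ (x c)) + (fun c => κ (y c)) from
          funext fun c => map_add κ _ _, map_add, map_add]
        exact add_mem hx hy
      | smul r x _ hx =>
        change (cokernel.π ψ).app W (vec W (fun c => κ (r * x c))) ∈ M
        rw [show (fun c => κ (r * x c)) = κ r • (fun c => κ (x c)) from
          funext fun c => map_mul κ _ _, map_smul, Scheme.Modules.Hom.app_smul]
        exact Submodule.smul_mem _ _ hx
    have h7 : L W (fun c => algebraMap Γ(Y, U) (cRing J U) (FMod.Gens.rep (n + 1) (v c))) ∈ M := by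
      have := hLr _ h5
      simp only [L, sc, hθ]
      exact this
    rw [← sub_add_cancel v (fun c => algebraMap Γ(Y, U) (cRing J U) (FMod.Gens.rep (n + 1) (v c))), hLadd]
    refine add_mem (hmemM _ fun c => ?_) h7
    exact FMod.Gens.sub_algebraMap_mem (n + 1) (v c) _ (FMod.Gens.mk_rep (n + 1) (v c)).symm
  -- each element of `P'` is moved into `Z` by a power of `h`
  have hisoD := isIso_cπ_restrict (f := f) (J := J) hU h hV hiso
  set D'' := cπ J f hU ⁻¹ᵁ cD J U h
  have hD'' : IsAffineOpen D'' := by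
    have : IsAffine (cD J U h).toScheme := ((isAffineOpen_top _).basicOpen _)
    exact IsAffine.of_isIso (cπ J f hU ∣_ cD J U h)
  set hh := algebraMap Γ(Y, U) (cRing J U) h
  have hv : ∀ v ∈ P', ∃ e, hh ^ e • v ∈ Z := fun v hv => by
    have h0 : (cokernel.π ψ).app D'' (vec D'' (sc v D'')) = 0 :=
      (hLres D'' v).symm.trans ((congrArg _ (hvanish v hv)).trans (map_zero _))
    obtain ⟨w, hw⟩ := QCohMod.exists_app_eq_of_exact
      (S := ShortComplex.mk ψ (cokernel.π ψ) (cokernel.condition ψ))
      (ShortComplex.exact_of_g_is_cokernel _ (cokernelIsCokernel ψ)) hD'' _ h0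
    obtain ⟨c, rfl⟩ := vec_surjective D'' w
    have hvec : sc v D'' = ∑ i, c i • sc (z i) D'' := by
      refine vec_injective D'' ?_
      rw [map_sum, ← hw]
      refine (freeHom_vec t D'' c).trans (Finset.sum_congr rfl fun i _ => ?_)
      rw [map_smul, vec_res]
      exact congrArg (fun u => c i • vec D'' u) (funext fun j => baseApp_res _ _)
    choose N σ hσ using fun i => exists_pow_mul_eq_baseApp f hU h hisoD (c i)
    set N' := ∑ i, N i
    have h1 : ∀ i, baseApp (cX J f hU) D'' (hh ^ N') * c i =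
        baseApp (cX J f hU) D'' (hh ^ (N' - N i) * σ i) := fun i => by
      have hle : N i ≤ N' := Finset.single_le_sum (fun _ _ => Nat.zero_le _) (Finset.mem_univ i)
      rw [map_mul, ← hσ, ← mul_assoc, ← map_mul, ← pow_add, Nat.sub_add_cancel hle]
    set d := hh ^ N' • v - ∑ i, (hh ^ (N' - N i) * σ i) • z i
    have hd : ∀ j, baseApp (cX J f hU) D'' (d j) = 0 := fun j => by
      have := congrFun hvec j
      simp only [sc, Finset.sum_apply, Pi.smul_apply, smul_eq_mul] at this
      simp only [d, Pi.sub_apply, Finset.sum_apply, Pi.smul_apply, smul_eq_mul, map_sub, map_mul (baseApp (cX J f hU) D'') (hh ^ N'), map_sum, this,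
        Finset.mul_sum, sub_eq_zero]
      exact Finset.sum_congr rfl fun i _ => by rw [← mul_assoc, h1, ← map_mul]
    choose M hM using fun j => exists_pow_mul_eq_zero f hU h hisoD (d j) (hd j)
    refine ⟨∑ j, M j + N', ?_⟩
    have hzero : hh ^ (∑ j, M j) • d = 0 := funext fun j => by
      have hle : M j ≤ ∑ j, M j := Finset.single_le_sum (fun _ _ => Nat.zero_le _) (Finset.mem_univ j)
      rw [Pi.smul_apply, smul_eq_mul, ← Nat.sub_add_cancel hle, pow_add, mul_assoc, hM, mul_zero, Pi.zero_apply]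
    rw [smul_sub, sub_eq_zero, smul_smul, ← pow_add] at hzero
    rw [hzero]
    refine Submodule.smul_mem _ _ (Submodule.sum_mem _ fun i _ => Submodule.smul_mem _ _ ?_)
    rw [← hz]
    exact Submodule.subset_span ⟨i, rfl⟩
  obtain ⟨m, g, hg⟩ := Submodule.fg_iff_exists_fin_generating_family.1 (IsNoetherian.noetherian P')
  choose e he using fun i => hv (g i) (hg ▸ Submodule.subset_span ⟨i, rfl⟩)
  refine ⟨∑ i, e i, fun v hv' l => ?_⟩
  have hmem : hh ^ (∑ i, e i) • v ∈ Z := by
    have hv'' : v ∈ P' := hv'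
    clear hv'
    rw [← hg] at hv''
    induction hv'' using Submodule.span_induction with
    | mem x hx =>
      obtain ⟨i, rfl⟩ := hx
      have hle : e i ≤ ∑ i, e i := Finset.single_le_sum (fun _ _ => Nat.zero_le _) (Finset.mem_univ i)
      rw [← Nat.sub_add_cancel hle, pow_add, mul_smul]
      exact Submodule.smul_mem _ _ (he i)
    | zero => rw [smul_zero]; exact zero_mem _
    | add x y _ _ hx hy => rw [smul_add]; exact add_mem hx hy
    | smul r x _ hx => rw [smul_comm]; exact Submodule.smul_mem _ _ hx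
  have := hmem l
  rwa [← map_pow, 𝒢.val_algebraMap_smul] at this

end PPData

end Groth.CohC3
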