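import Groth.Agent.CohC3.ProLift
import Groth.Agent.CohC3.ModIdeal
import Groth.Agent.CohC3.FormalModule
import Groth.Agent.CohC3.ProKernel
import Groth.Agent.CohC3.LimitSys
import Groth.Agent.CohC3.Lifting
import Groth.Agent.CohC3.KernelSys

/-! Algebraizing a formal module mapping to a completion with kernel and cokernel killed by a power
of an ideal sheaf. -/

universe u

open CategoryTheory CategoryTheory.Limits AlgebraicGeometry Opposite TopologicalSpace

namespace Groth.CohC3

variable {A : Type u} [CommRing A] {X : Scheme.{u}} [X.Over (Spec (CommRingCat.of A))] {I : Ideal A}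

lemma isQCoh_completion_obj {M : X.Modules} (hM : Coh.IsCoh M) (n : ℕ) :
    ((Formal.completion I M).obj (op n)).IsQuasicoherent := (isCoh_modPow' hM I (n + 1)).1

lemma epi_sysMap_completion (M : X.Modules) {i j : ℕ} (h : i ≤ j) :
    Epi (sysMap (Formal.completion I M) h) := ((isSys_completion I M).isQuot h).epi

/-- The inclusion of the kernel system. -/
noncomputable def kerSysInc {C G : ℕᵒᵖ ⥤ X.Modules} (π : C ⟶ G) : kerSys π ⟶ C :=
  NatTrans.ofOpSequence (fun n => kerSysι π n) fun n => kerSysι_sysMap π n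

omit [X.Over (Spec (CommRingCat.of A))] in
lemma kerSysInc_comp {C G : ℕᵒᵖ ⥤ X.Modules} (π : C ⟶ G) : kerSysInc π ≫ π = 0 :=
  NatTrans.ext (funext fun ⟨n⟩ => kernel.condition (π.app (op n)))

omit [X.Over (Spec (CommRingCat.of A))] in
lemma exists_kerSys_lift {C G W : ℕᵒᵖ ⥤ X.Modules} (π : C ⟶ G) (u : W ⟶ C) (hu : u ≫ π = 0) :
    ∃ l : W ⟶ kerSys π, l ≫ kerSysInc π = u := by
  have h0 : ∀ n, u.app (op n) ≫ π.app (op n) = 0 := fun n => congr($hu |>.app (op n))
  let l : ∀ n, W.obj (op n) ⟶ (kerSys π).obj (op n) := fun n => kernel.lift _ (u.app (op n)) (h0 n)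
  have hl : ∀ n, l n ≫ kerSysι π n = u.app (op n) := fun n => kernel.lift_ι _ _ _
  refine ⟨NatTrans.ofOpSequence l fun n => ?_, NatTrans.ext (funext fun ⟨n⟩ => hl n)⟩
  rw [← cancel_mono (kerSysι π n)]
  change (sysMap W (Nat.le_succ n) ≫ l n) ≫ kerSysι π n =
    (l (n + 1) ≫ sysMap (kerSys π) (Nat.le_succ n)) ≫ kerSysι π n
  rw [Category.assoc, Category.assoc, hl, kerSysι_sysMap, ← Category.assoc, hl]
  exact u.naturality (homOfLE (Nat.le_succ n)).op

/-- Lift to the completion of a kernel. -/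
theorem exists_lift_kernel [IsNoetherian X] {G : ℕᵒᵖ ⥤ X.Modules} (hG : IsSys I G)
    (hGc : ∀ n, Coh.IsCoh (G.obj (op n))) {H C₀ : X.Modules} (hH : Coh.IsCoh H) (hC₀ : Coh.IsCoh C₀)
    (g : H ⟶ C₀) [Epi g] (α : G ⟶ Formal.completion I H) (hα : α ≫ mapCompl I g = 0)
    (hex : ∀ (n : ℕ) (U : X.affineOpens) (z : Γ((Formal.completion I H).obj (op n), (U : X.Opens))),
      ((mapCompl I g).app (op n)).app U z = 0 → ∃ x, (α.app (op n)).app U x = z) :
    ∃ β : G ⟶ Formal.completion I (kernel g),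
      β ≫ mapCompl I (kernel.ι g) = α ∧ ∀ n, Epi (β.app (op n)) := by
  have := hH.1
  have := hC₀.1
  have hH' : Coh.IsCoh (kernel g) := QCohMod.isCoh_kernel g hH
  have := hH'.1
  have hcq := fun n => isQCoh_completion_obj (I := I) hH n
  have hc0 := fun n => isQCoh_completion_obj (I := I) hC₀ n
  have hc' := fun n => isQCoh_completion_obj (I := I) hH' n
  obtain ⟨u, hu⟩ := exists_kerSys_lift (mapCompl I g) α hα
  obtain ⟨cmp, hcmp⟩ := exists_kerSys_lift (mapCompl I g) (mapCompl I (kernel.ι g)) (completion_hom_ext fun n => by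
    refine (modPowπ_mapCompl_assoc (I := I) (kernel.ι g) n ((mapCompl I g).app (op n))).trans ?_
    refine (Category.assoc _ _ _).trans ?_
    refine (congrArg (kernel.ι g ≫ ·) (modPowπ_mapCompl (I := I) g n)).trans ?_
    refine Eq.trans ?_ comp_zero.symm
    exact (Category.assoc _ _ _).symm.trans ((congrArg (· ≫ Formal.modPowπ I (n + 1) C₀) (kernel.condition g)).trans zero_comp))
  have hcmpn : ∀ n, cmp.app (op n) ≫ kerSysι (mapCompl I g) n = (mapCompl I (kernel.ι g)).app (op n) :=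
    fun n => congr($hcmp |>.app (op n))
  have hTq : ∀ n, ((kerSys (mapCompl I g)).obj (op n)).IsQuasicoherent := fun n => by
    have := hcq n
    have := hc0 n
    exact QCohMod.isQCoh_kernel ((mapCompl I g).app (op n))
  have hcmpe : ∀ n, Epi (cmp.app (op n)) := fun n => by
    have := hTq n
    have := hc' n
    refine epi_of_cover _ fun x => ?_
    obtain ⟨U, hU, hx⟩ := QCohMod.exists_affine_mem x
    refine ⟨U, hU, hx, fun z => ?_⟩
    obtain ⟨h, hh⟩ := (isQuot_modPowπ I (n + 1) H).app_surjective hU ((kerSysι (mapCompl I g) n).app U z)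
    have h0 : (Formal.modPowπ I (n + 1) C₀).app U (g.app U h) = 0 := by
      have e := congr(($(modPowπ_mapCompl (I := I) g n)).app U h)
      refine e.symm.trans ((congrArg (((mapCompl I g).app (op n)).app U) hh).trans ?_)
      exact congr(($(kernel.condition ((mapCompl I g).app (op n)))).app U z)
    have hsurj : LinearMap.range (QCohMod.appₗ g U) = ⊤ :=
      LinearMap.range_eq_top.2 (QCohMod.app_surjective_of_epi g hU)
    have h1 := ((isQuot_modPowπ I (n + 1) C₀).app_eq_zero_iff _ hU).1 h0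
    rw [← hsurj, LinearMap.range_eq_map, ← Submodule.map_smul''] at h1
    obtain ⟨w, hw, hwg⟩ := h1
    obtain ⟨k, hk⟩ := QCohMod.exists_app_eq_of_mono_exact
      (S := ShortComplex.mk (kernel.ι g) g (kernel.condition g))
      (ShortComplex.exact_of_f_is_kernel _ (kernelIsKernel g)) U (h - w)
      (by rw [map_sub]; exact sub_eq_zero.2 hwg.symm)
    refine ⟨(Formal.modPowπ I (n + 1) (kernel g)).app U k, QCohMod.app_injective_of_mono (kerSysι (mapCompl I g) n) U ?_⟩
    refine (congr(($(hcmpn n)).app U ((Formal.modPowπ I (n + 1) (kernel g)).app U k))).trans ?_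
    refine (congr(($(modPowπ_mapCompl (I := I) (kernel.ι g) n)).app U k)).trans ?_
    change (Formal.modPowπ I (n + 1) H).app U ((kernel.ι g).app U k) = _
    rw [show (kernel.ι g).app U k = h - w from hk, map_sub,
      ((isQuot_modPowπ I (n + 1) H).app_eq_zero_iff w hU).2 hw, sub_zero, hh]
  obtain ⟨c, hc⟩ := exists_pro_mono I hH' hH (kernel.ι g)
  have hker : ∀ n, kernel.ι (cmp.app (op (n + c))) ≫
      sysMap (Formal.completion I (kernel g)) (Nat.le_add_right n c) = 0 := fun n => by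
    have := hTq (n + c)
    have := hc' (n + c)
    refine hom_eq_zero_of_cover _ fun x => ?_
    obtain ⟨U, hx, hU⟩ := hc x
    refine ⟨U, U.2, hx, fun s => ?_⟩
    obtain ⟨q, hq⟩ := (isQuot_modPowπ I (n + c + 1) (kernel g)).app_surjective U.2
      ((kernel.ι (cmp.app (op (n + c)))).app U s)
    have h0 : (cmp.app (op (n + c))).app U ((kernel.ι (cmp.app (op (n + c)))).app U s) = 0 :=
      congr(($(kernel.condition (cmp.app (op (n + c))))).app (U : X.Opens) s)
    have h1 : (Formal.modPowπ I (n + c + 1) H).app U ((kernel.ι g).app U q) = 0 := by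
      refine (congr(($(modPowπ_mapCompl (I := I) (kernel.ι g) (n + c))).app (U : X.Opens) q)).symm.trans ?_
      refine (congr(($(hcmpn (n + c))).app (U : X.Opens) _)).symm.trans ?_
      exact (congrArg (fun t => (kerSysι (mapCompl I g) (n + c)).app U ((cmp.app (op (n + c))).app U t)) hq).trans
        ((congrArg ((kerSysι (mapCompl I g) (n + c)).app U) h0).trans (map_zero _))
    change (sysMap (Formal.completion I (kernel g)) (Nat.le_add_right n c)).app U
      ((kernel.ι (cmp.app (op (n + c)))).app U s) = 0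
    rw [← hq]
    exact (congr(($(modPowπ_sysMap I (kernel g) (Nat.le_add_right n c))).app (U : X.Opens) q)).trans
      (hU n (n + c) le_rfl q h1)
  have hue : ∀ n, Epi (u.app (op n)) := fun n => by
    have := hTq n
    have := (hGc n).1
    refine epi_of_cover _ fun x => ?_
    obtain ⟨U, hU, hx⟩ := QCohMod.exists_affine_mem x
    refine ⟨U, hU, hx, fun z => ?_⟩
    obtain ⟨y, hy⟩ := hex n ⟨U, hU⟩ ((kerSysι (mapCompl I g) n).app U z)
      congr(($(kernel.condition ((mapCompl I g).app (op n)))).app U z)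
    exact ⟨y, QCohMod.app_injective_of_mono (kerSysι (mapCompl I g) n) U
      ((congr(($(congr($hu |>.app (op n)))).app U y)).trans hy)⟩
  obtain ⟨β, hβ, -⟩ := existsUnique_proLift cmp hG (isSys_completion I (kernel g)).killed c 0 hker
    (fun n => by
      have := hcmpe n
      rw [cokernel.π_of_epi, comp_zero]) u
  exact ⟨β, by rw [← hu, ← hβ, Category.assoc, hcmp],
    fun n => epi_proLift cmp c hker hβ n (hue (n + c)) (hcmpe (n + c)) (epi_sysMap_completion _ _)⟩

section ModISys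

variable (𝒦 : X.IdealSheafData) (G : ℕᵒᵖ ⥤ X.Modules)

/-- The system `G_n ⧸ 𝒦 G_n`. -/
noncomputable def modISys : ℕᵒᵖ ⥤ X.Modules :=
  G ⋙ Scheme.Modules.pullback 𝒦.subschemeι ⋙ Scheme.Modules.pushforward 𝒦.subschemeι

/-- The projection onto it. -/
noncomputable def modISysπ : G ⟶ modISys 𝒦 G :=
  Functor.whiskerLeft G (Scheme.Modules.pullbackPushforwardAdjunction 𝒦.subschemeι).unit

omit [X.Over (Spec (CommRingCat.of A))] in
lemma modISysπ_app (n : ℕ) : (modISysπ 𝒦 G).app (op n) = modIπ 𝒦 (G.obj (op n)) := rfl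

variable {G}

lemma isCohFormal_modISys (hG : Formal.IsCohFormal I G) : Formal.IsCohFormal I (modISys 𝒦 G) := by
  have hs := isSys_of_isCohFormal hG
  have hq := fun n => (hG.1 n).1
  have hk : ∀ n, Formal.KilledBy (I ^ (n + 1)) ((modISys 𝒦 G).obj (op n)) := fun n => by
    have := hq n
    exact @killedBy_of_epi A _ X _ _ (G.obj (op n)) (modI 𝒦 (G.obj (op n))) (modIπ 𝒦 _) (epi_modIπ 𝒦 _)
      (fun a ha => by rw [mem_annHom, hs.killed n a ha, zero_comp])
  refine ⟨fun n => isCoh_modI 𝒦 (hG.1 n), hk, fun n => ?_⟩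
  have := hq n
  have := hq (n + 1)
  have : ((modISys 𝒦 G).obj (op (n + 1))).IsQuasicoherent := isQuasicoherent_modI 𝒦 _
  refine IsQuot.isIso_desc (isQuot_of_affine _ (le_annHom_of_killedBy (hk n) _) (fun U hU y => ?_)
    fun U hU y hy => ?_)
  · obtain ⟨x, hx⟩ := modIπ_app_surjective 𝒦 (G.obj (op n)) hU y
    obtain ⟨x', hx'⟩ := hs.app_surjective hq hU (Nat.le_succ n) x
    refine ⟨(modIπ 𝒦 (G.obj (op (n + 1)))).app U x', ?_⟩
    refine (congr(($((modISysπ 𝒦 G).naturality (homOfLE (Nat.le_succ n)).op)).app U x')).symm.trans ?_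
    exact (congrArg ((modIπ 𝒦 (G.obj (op n))).app U) hx').trans hx
  · obtain ⟨x, rfl⟩ := modIπ_app_surjective 𝒦 (G.obj (op (n + 1))) hU y
    have h0 : (modIπ 𝒦 (G.obj (op n))).app U ((sysMap G (Nat.le_succ n)).app U x) = 0 :=
      (congr(($((modISysπ 𝒦 G).naturality (homOfLE (Nat.le_succ n)).op)).app U x)).trans hy
    have h1 := (modIπ_app_eq_zero_iff 𝒦 _ ⟨U, hU⟩ _).1 h0
    rw [← show LinearMap.range (QCohMod.appₗ (sysMap G (Nat.le_succ n)) U) = ⊤ from
      LinearMap.range_eq_top.2 (hs.app_surjective hq hU (Nat.le_succ n)), LinearMap.range_eq_map,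
      ← Submodule.map_smul''] at h1
    obtain ⟨k, hk', hkx⟩ := h1
    have h2 := ((hs.isQuot (Nat.le_succ n)).app_eq_zero_iff (x - k) hU).1
      (by rw [map_sub]; exact sub_eq_zero.2 hkx.symm)
    have h3 : (QCohMod.appₗ (modIπ 𝒦 (G.obj (op (n + 1)))) U) (x - k) ∈ Submodule.map
        (QCohMod.appₗ (modIπ 𝒦 (G.obj (op (n + 1)))) U) _ := Submodule.mem_map_of_mem h2
    rw [Submodule.map_smul'', Submodule.map_top, (LinearMap.range_eq_top (f := QCohMod.appₗ (modIπ 𝒦 (G.obj (op (n + 1)))) U)).2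
      (modIπ_app_surjective 𝒦 (G.obj (op (n + 1))) hU)] at h3
    have h4 : (QCohMod.appₗ (modIπ 𝒦 (G.obj (op (n + 1)))) U) k = 0 :=
      (modIπ_app_eq_zero_iff 𝒦 _ ⟨U, hU⟩ _).2 hk'
    rw [map_sub, h4, sub_zero] at h3
    exact h3

end ModISys

section Affine

/-- The formal module of sections over an affine open. -/
noncomputable def fmodOfSys {G : ℕᵒᵖ ⥤ X.Modules} (hG : IsSys I G) (hq : ∀ n, (G.obj (op n)).IsQuasicoherent)
    {U : X.Opens} (hU : IsAffineOpen U) :
    FMod (I.map (baseApp X U)) (fun l => Γ(G.obj (op l), U)) where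
  tr h := QCohMod.appₗ (sysMap G h) U
  tr_tr h h' x := sysMap_app_comp G h h' U x
  surj h := hG.app_surjective hq hU h
  ker_le {i j} h x hx := by
    have := hq j
    have := ((hG.isQuot h).app_eq_zero_iff x hU).1 hx
    rwa [Ideal.map_pow] at this
  killed l r hr x := hG.smul_eq_zero l U (by rwa [Ideal.map_pow]) x

/-- A uniform exponent beyond which the kernel of `β` meets `𝒦^j G` only pro-trivially. -/
theorem exists_pro_disjoint_sys [IsNoetherian X] {G H : ℕᵒᵖ ⥤ X.Modules} (hG : IsSys I G)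
    (hGc : ∀ n, Coh.IsCoh (G.obj (op n))) (hH : IsSys I H) (hHc : ∀ n, Coh.IsCoh (H.obj (op n)))
    (β : G ⟶ H) (hβ : ∀ n, Epi (β.app (op n))) (𝒦 : X.IdealSheafData) (e : ℕ)
    (hK : ∀ n, ClSub.KilledByIdeal (𝒦 ^ e) (kernel (β.app (op n)))) :
    ∃ j, ∀ x : X, ∃ U : X.affineOpens, x ∈ (U : X.Opens) ∧ ∃ c, ∀ n m (h : n ≤ m), n + c ≤ m →
      ∀ y : Γ(G.obj (op m), (U : X.Opens)), (β.app (op m)).app U y = 0 →
        y ∈ ((𝒦 ^ j).ideal U • ⊤ : Submodule Γ(X, (U : X.Opens)) Γ(G.obj (op m), (U : X.Opens))) →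
          (sysMap G h).app U y = 0 := by
  refine exists_uniform X (fun U j => ∃ c, ∀ n m (h : n ≤ m), n + c ≤ m →
      ∀ y : Γ(G.obj (op m), (U : X.Opens)), (β.app (op m)).app U y = 0 →
        y ∈ ((𝒦 ^ j).ideal U • ⊤ : Submodule Γ(X, (U : X.Opens)) Γ(G.obj (op m), (U : X.Opens))) →
          (sysMap G h).app U y = 0) (fun U i j hij ⟨c, hc⟩ => ⟨c, fun n m h hnm y hy hyK => hc n m h hnm y hy ?_⟩)
    fun U => ?_
  · rw [Scheme.IdealSheafData.ideal_pow, Pi.pow_apply] at hyK ⊢
    exact Submodule.smul_mono_left (Ideal.pow_le_pow_right hij) hyK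
  have hq := fun n => (hGc n).1
  have hHq := fun n => (hHc n).1
  have : IsNoetherianRing Γ(X, (U : X.Opens)) := IsLocallyNoetherian.component_noetherian U
  have : Module.Finite Γ(X, (U : X.Opens)) Γ(G.obj (op 0), (U : X.Opens)) :=
    ((QCohMod.isCoh_iff _).1 (hGc 0)).2 U U.2
  let S := fmodOfSys hG hq U.2
  obtain ⟨p, ⟨𝒢⟩⟩ := S.exists_gens
  have hnat : ∀ {i j : ℕ} (h : i ≤ j) (x : Γ(G.obj (op j), (U : X.Opens))),
      (sysMap H h).app U ((β.app (op j)).app U x) = (β.app (op i)).app U ((sysMap G h).app U x) :=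
    fun h x => (congr(($(β.naturality (homOfLE h).op)).app (U : X.Opens) x)).symm
  obtain ⟨j₀, c, hc⟩ := 𝒢.exists_pro_disjoint
    (fun l => LinearMap.ker (QCohMod.appₗ (β.app (op l)) (U : X.Opens)))
    (fun {i j} h x hx => (hnat h x).symm.trans ((congrArg _ (show (β.app (op _)).app (U : X.Opens) x = 0 from hx)).trans (map_zero _)))
    (fun l x hx => by
      obtain ⟨y, hy⟩ := hG.app_surjective hq U.2 (Nat.le_succ l) x
      have h0 : (sysMap H (Nat.le_succ l)).app U ((β.app (op (l + 1))).app U y) = 0 := by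
        rw [hnat, hy]; exact hx
      have := hHq (l + 1)
      have h1 := ((hH.isQuot (Nat.le_succ l)).app_eq_zero_iff _ U.2).1 h0
      have := hq (l + 1)
      have := hβ (l + 1)
      rw [← LinearMap.range_eq_top.2 (show Function.Surjective (QCohMod.appₗ (β.app (op (l + 1))) (U : X.Opens))
        from QCohMod.app_surjective_of_epi (β.app (op (l + 1))) U.2), LinearMap.range_eq_map,
        ← Submodule.map_smul''] at h1
      obtain ⟨w, hw, hwy⟩ := h1
      refine ⟨y - w, (show (β.app (op (l + 1))).app (U : X.Opens) (y - w) = 0 by rw [map_sub]; exact sub_eq_zero.2 hwy.symm), ?_⟩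
      change (sysMap G (Nat.le_succ l)).app U (y - w) = x
      rw [map_sub, hy, ((hG.isQuot (Nat.le_succ l)).app_eq_zero_iff w U.2).2 hw, sub_zero])
    (𝒦.ideal U) e (fun l r hr x hx => by
      obtain ⟨k, hk⟩ := QCohMod.exists_app_eq_of_mono_exact
        (S := ShortComplex.mk (kernel.ι (β.app (op l))) (β.app (op l)) (kernel.condition _))
        (ShortComplex.exact_of_f_is_kernel _ (kernelIsKernel _)) (U : X.Opens) x hx
      rw [← hk]
      exact ((kernel.ι (β.app (op l))).app_smul r k).symm.trans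
        ((congrArg _ (hK l U r (by rwa [Scheme.IdealSheafData.ideal_pow]) k)).trans (map_zero _)))
  refine ⟨j₀, c, fun n m h hnm y hy hyK => hc j₀ le_rfl n m h hnm y hy ?_⟩
  rwa [Scheme.IdealSheafData.ideal_pow, Pi.pow_apply] at hyK

end Affine

end Groth.CohC3
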