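import Groth.Agent.CohC3.PushKillerPre
import Groth.Agent.CohC3.Tricky
import Groth.Agent.CohC3.PushPull

/-! Pullback to the completion: retractions modulo powers, and images at the finite levels. -/

universe u

open CategoryTheory CategoryTheory.Limits AlgebraicGeometry Opposite TopologicalSpace
open Groth.CohBase.FlatBC (psec psec_smul psec_map psec_res psec_apply)

namespace Groth.CohC3

lemma specMap_fromSpec_appLE {X : Scheme.{u}} {V : X.Opens} (hV : IsAffineOpen V) {S : CommRingCat.{u}}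
    (φ : Γ(X, V) ⟶ S) (e : (⊤ : (Spec S).Opens) ≤ (Spec.map φ ≫ hV.fromSpec) ⁻¹ᵁ V) (r : Γ(X, V)) :
    (Spec.map φ ≫ hV.fromSpec).appLE V ⊤ e r = (Scheme.ΓSpecIso S).inv (φ r) := by
  have h1 : hV.fromSpec.appLE V ⊤ hV.fromSpec_preimage_self.ge = (Scheme.ΓSpecIso Γ(X, V)).inv := by
    rw [Scheme.Hom.appLE, IsAffineOpen.fromSpec_app_self, Category.assoc, ← Functor.map_comp]
    exact (congrArg (_ ≫ ·) ((Spec Γ(X, V)).presheaf.map_id _)).trans (Category.comp_id _)
  have h2 : (Spec.map φ ≫ hV.fromSpec).appLE V ⊤ e = hV.fromSpec.appLE V ⊤ hV.fromSpec_preimage_self.ge ≫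
      (Spec.map φ).appLE ⊤ ⊤ le_rfl := by
    rw [Scheme.Hom.appLE_comp_appLE]
  rw [h2, h1]
  change (Spec.map φ).appLE ⊤ ((Spec.map φ) ⁻¹ᵁ ⊤) le_rfl _ = _
  rw [← Scheme.Hom.app_eq_appLE]
  exact (congr($(Scheme.ΓSpecIso_inv_naturality φ) r)).symm

lemma psec_eq_zero_of_eq {T X : Scheme.{u}} {i i' : T ⟶ X} (h : i' = i) {M : X.Modules} {U : X.Opens}
    {W : T.Opens} {e' : W ≤ i' ⁻¹ᵁ U} (e : W ≤ i ⁻¹ᵁ U) {m : Γ(M, U)} (h0 : psec i' M e' m = 0) :
    psec i M e m = 0 := by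
  subst h
  exact h0

lemma psec_comp_eq_zero {Z T X : Scheme.{u}} (k : Z ⟶ X) (s : T ⟶ Z) (M : X.Modules) {U : X.Opens}
    {W : Z.Opens} (e : W ≤ k ⁻¹ᵁ U) {O : T.Opens} (e' : O ≤ s ⁻¹ᵁ W) (m : Γ(M, U))
    (h : psec k M e m = 0) :
    psec (s ≫ k) M (show O ≤ (s ≫ k) ⁻¹ᵁ U from e'.trans (s.preimage_mono e)) m = 0 := by
  rw [psec_apply, ← PicAux.pullSec_comp]
  refine (QCohMod.res_app ((Scheme.Modules.pullbackComp s k).hom.app M) (e'.trans (s.preimage_mono e)) _).trans ?_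
  have h1 : QCohMod.res ((Scheme.Modules.pullback s).obj ((Scheme.Modules.pullback k).obj M))
      (e'.trans (s.preimage_mono e)) (PicAux.pullSec s _ (PicAux.pullSec k M m)) = 0 := by
    rw [← QCohMod.res_res _ (s.preimage_mono e) e']
    have := PicAux.res_pullSec s ((Scheme.Modules.pullback k).obj M) e (PicAux.pullSec k M m)
    refine (congrArg (QCohMod.res _ e') this).trans ?_
    rw [psec_apply] at h
    refine (congrArg (fun t => QCohMod.res _ e' (PicAux.pullSec s _ t)) h).trans ?_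
    rw [show PicAux.pullSec s ((Scheme.Modules.pullback k).obj M) (0 : Γ((Scheme.Modules.pullback k).obj M, W)) = 0
      from map_zero _, map_zero]
  exact (congrArg _ h1).trans (map_zero _)

section

variable {A : Type u} [CommRing A] {J : Ideal A} {X Y : Scheme.{u}} [X.Over (Spec (CommRingCat.of A))]
  [Y.Over (Spec (CommRingCat.of A))] (f : X ⟶ Y)
  (hf : f ≫ (Y ↘ Spec (CommRingCat.of A)) = X ↘ Spec (CommRingCat.of A))
  {U : Y.Opens} (hU : IsAffineOpen U)

lemma mem_smul_of_killedBy {M : X.Modules} {n : ℕ} (hM : Formal.KilledBy (J ^ n) M) (V : X.Opens)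
    {r : Γ(X, V)} (hr : r ∈ (J ^ n).map (baseApp X V)) (m : Γ(M, V)) : r • m = 0 := by
  induction hr using Submodule.span_induction with
  | mem z hz =>
    obtain ⟨a, ha, rfl⟩ := hz
    exact baseApp_smul_app_eq_zero (𝟙 M) V (le_annHom_of_killedBy hM (𝟙 M) ha) m
  | zero => exact zero_smul _ _
  | add a b _ _ ha hb => rw [add_smul, ha, hb, add_zero]
  | smul c a _ ha => rw [smul_eq_mul, mul_smul, ha, smul_zero]

include hf in
/-- Sections over `f⁻¹U` of modules killed by a power of `J` inject into the base change. -/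
theorem csec_injective_of_killed {M : X.Modules} [M.IsQuasicoherent] {n : ℕ}
    (hM : Formal.KilledBy (J ^ n) M) {m : Γ(M, f ⁻¹ᵁ U)} (hm : csec J f hU M m = 0) : m = 0 := by
  refine CohTwo.eq_of_local M _ _ fun x hx => ?_
  obtain ⟨_, ⟨V, hV, rfl⟩, hxV, hVU⟩ := X.isBasis_affineOpens.exists_subset_of_mem_open hx (f ⁻¹ᵁ U).2
  refine ⟨V, hVU, hxV, ?_⟩
  refine Eq.trans ?_ (map_zero _).symm
  let Jn : Ideal Γ(X, V) := (J ^ n).map (baseApp X V)
  let B := CommRingCat.of (Γ(X, V) ⧸ Jn)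
  let q : Γ(X, V) ⟶ B := CommRingCat.ofHom (Ideal.Quotient.mk Jn)
  let i : Spec B ⟶ X := Spec.map q ≫ hV.fromSpec
  let JR : Ideal Γ(Y, U) := J.map (baseApp Y U)
  let ψ : Γ(Y, U) →+* Γ(X, V) := (f.appLE U V hVU).hom
  have hψ : JR ^ n ≤ Jn.comap ψ := by
    rw [← Ideal.map_pow, Ideal.map_le_iff_le_comap]
    intro a ha
    have : ψ (baseApp Y U a) = baseApp X V a := by
      change (f.app U ≫ X.presheaf.map (homOfLE hVU).op) (baseApp Y U a) = _
      rw [CommRingCat.comp_apply, baseApp_preimage hf]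
      exact baseApp_res hVU a
    rw [Ideal.mem_comap, Ideal.mem_comap, this]
    exact Ideal.mem_map_of_mem _ ha
  let φ : cRing J U →+* B := (Ideal.quotientMap Jn ψ hψ).comp (AdicCompletion.evalₐ JR n).toRingHom
  let t : Spec B ⟶ Spec (CommRingCat.of (cRing J U)) := Spec.map (CommRingCat.ofHom φ)
  have hφ : (CommRingCat.ofHom (algebraMap Γ(Y, U) (cRing J U))) ≫ CommRingCat.ofHom φ = f.appLE U V hVU ≫ q := by
    ext r
    change φ (algebraMap _ _ r) = Ideal.Quotient.mk Jn (ψ r)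
    simp [φ]
  have hw : i ≫ f = t ≫ cj J hU := by
    change (Spec.map q ≫ hV.fromSpec) ≫ f = Spec.map _ ≫ Spec.map _ ≫ hU.fromSpec
    rw [Category.assoc, ← hU.SpecMap_appLE_fromSpec f hV hVU, ← Category.assoc, ← Category.assoc,
      ← Spec.map_comp, ← Spec.map_comp, hφ]
  let s : Spec B ⟶ cX J f hU := (cX_isPullback J f hU).lift i t hw
  have hs : s ≫ ck J f hU = i := IsPullback.lift_fst _ _ _ _
  have hitop : (⊤ : (Spec B).Opens) ≤ i ⁻¹ᵁ V := fun y _ => hV.range_fromSpec.le ⟨_, rfl⟩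
  have h0 : psec (s ≫ ck J f hU) M
      (show (⊤ : (Spec B).Opens) ≤ (s ≫ ck J f hU) ⁻¹ᵁ (f ⁻¹ᵁ U) from
        le_top.trans ((le_of_eq rfl).trans (s.preimage_mono (ck_preimage_top J f hU)))) m = 0 :=
    psec_comp_eq_zero (ck J f hU) s M (ck_preimage_top J f hU) (O := ⊤) le_top m hm
  have h2 : psec i M hitop (QCohMod.res M hVU m) = 0 := by
    rw [← psec_res i M (hitop.trans (i.preimage_mono hVU)) hitop hVU le_rfl, QCohMod.res_self]
    exact psec_eq_zero_of_eq hs _ h0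
  letI := QCohMod.sectionsAlg i hitop
  have halg : ∀ r, algebraMap Γ(X, V) Γ(Spec B, ⊤) r = (Scheme.ΓSpecIso B).inv (q r) :=
    fun r => specMap_fromSpec_appLE hV q hitop r
  refine one_tmul_injective (B := Γ(Spec B, ⊤)) (fun b => ?_) (fun r hr x => ?_)
    ((QCohMod.pullSecTensor_bijective i M hitop hV (isAffineOpen_top _)).1 ?_)
  · obtain ⟨r, hr⟩ := Ideal.Quotient.mk_surjective ((Scheme.ΓSpecIso B).hom b)
    refine ⟨r, (halg r).trans ?_⟩
    change (Scheme.ΓSpecIso B).inv (Ideal.Quotient.mk Jn r) = b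
    rw [hr, Iso.hom_inv_id_apply]
  · rw [halg] at hr
    have h3 := congrArg (Scheme.ΓSpecIso B).hom hr
    rw [Iso.inv_hom_id_apply, map_zero] at h3
    exact mem_smul_of_killedBy hM V (Ideal.Quotient.eq_zero_iff_mem.1 h3) x
  · rw [map_zero, QCohMod.pullSecTensor_tmul, one_smul]
    exact h2

variable [IsProper f] (J)

/-- The combination of pulled back sections with coefficients in the completion. -/
noncomputable def csum (F : X.Modules) {q : ℕ} (s : Fin q → Γ(F, f ⁻¹ᵁ U)) (v : Fin q → cRing J U) :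
    Γ((Scheme.Modules.pullback (ck J f hU)).obj F, (⊤ : (cX J f hU).Opens)) :=
  ∑ b, baseApp (cX J f hU) ⊤ (v b) • csec J f hU F (s b)

variable {J}

include hf in
/-- The image at level `n` of a combination. -/
theorem csum_level [IsLocallyNoetherian Y] {F M : X.Modules} (p : F ⟶ M) {n : ℕ} (hM : Formal.KilledBy (J ^ n) M) {q : ℕ}
    (s : Fin q → Γ(F, f ⁻¹ᵁ U)) (v : Fin q → cRing J U) (r : Fin q → Γ(Y, U))
    (hr : ∀ b, Ideal.Quotient.mk ((J.map (baseApp Y U)) ^ n) (r b) = AdicCompletion.evalₐ (J.map (baseApp Y U)) n (v b)) :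
    ((Scheme.Modules.pullback (ck J f hU)).map p).app ⊤ (csum J f hU F s v) =
      csec J f hU M (p.app (f ⁻¹ᵁ U) (∑ b, f.app U (r b) • s b)) := by
  letI : (cX J f hU).Over (Spec (CommRingCat.of A)) := ⟨ck J f hU ≫ (X ↘ Spec (CommRingCat.of A))⟩
  rw [map_sum, map_sum, csum, map_sum]
  refine Finset.sum_congr rfl fun b _ => ?_
  rw [Scheme.Modules.Hom.app_smul, Scheme.Modules.Hom.app_smul, csec_smul]
  have hq : IsQuot (A := A) (J ^ n) ((Scheme.Modules.pullback (ck J f hU)).map (𝟙 M)) :=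
    (isQuot_id hM).map_adj (Scheme.Modules.pullbackPushforwardAdjunction (ck J f hU)) rfl
  have hk : Formal.KilledBy (cIdeal J U ^ n) ((Scheme.Modules.pullback (ck J f hU)).obj M) := by
    have := (hq.changeBase (R := cRing J U) (ψ := (algebraMap Γ(Y, U) (cRing J U)).comp (baseApp Y U))
      (toGlobal_ck J f hU hf)).killedBy
    rwa [Ideal.map_pow] at this
  have hmem : v b - algebraMap Γ(Y, U) (cRing J U) (r b) ∈ cIdeal J U ^ n := by
    have : IsNoetherianRing Γ(Y, U) := IsLocallyNoetherian.component_noetherian ⟨U, hU⟩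
    have h1 : v b - algebraMap Γ(Y, U) (cRing J U) (r b) ∈
        ((J.map (baseApp Y U)) ^ n • ⊤ : Submodule Γ(Y, U) (cRing J U)) := by
      rw [AdicCompletion.pow_smul_top_eq_ker_eval (IsNoetherian.noetherian _), LinearMap.mem_ker,
        ← AdicCompletion.factor_evalₐ_eq_eval _ _ (show (J.map (baseApp Y U)) ^ n ≤
          (J.map (baseApp Y U)) ^ n • (⊤ : Ideal Γ(Y, U)) by simp), map_sub, AlgHom.commutes, ← hr b,
        show algebraMap Γ(Y, U) _ (r b) = Ideal.Quotient.mk ((J.map (baseApp Y U)) ^ n) (r b) from rfl,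
        sub_self, map_zero]
    have e : cIdeal J U ^ n = ((J.map (baseApp Y U)) ^ n).map (algebraMap Γ(Y, U) (cRing J U)) := by
      rw [Ideal.map_pow, Ideal.map_map]
    rw [e]
    refine Submodule.smul_induction_on h1 (fun c hc x _ => ?_) fun _ _ => add_mem
    rw [Algebra.smul_def]
    exact Ideal.mul_mem_right _ _ (Ideal.mem_map_of_mem _ hc)
  rw [psec_map, ← sub_eq_zero, ← sub_smul, ← map_sub]
  exact baseApp_smul_app_eq_zero (𝟙 _) _ (le_annHom_of_killedBy hk (𝟙 _) hmem) _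

end

end Groth.CohC3
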