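import Groth.Agent.CohC3.BaseChangeCompletion
import Groth.Agent.CohC3.FFConsequences
import Groth.Agent.CohC3.LimitSys
import Groth.Agent.CohC3.GenSections

/-! Lemmas for the uniform annihilation: separatedness, support, free modules, the open where the
base change is an isomorphism. -/

universe u

open CategoryTheory CategoryTheory.Limits AlgebraicGeometry Opposite TopologicalSpace
open Groth.CohBase.FlatBC (psec psec_smul psec_map psec_res psec_apply)

namespace Groth.CohC3

section Complete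

variable {S : Type u} [CommRing S] [IsNoetherianRing S] {I : Ideal S} [IsAdicComplete I S]
  {W : Scheme.{u}} [W.Over (Spec (CommRingCat.of S))] [IsProper (W ↘ Spec (CommRingCat.of S))]

/-- Global sections of a coherent module are separated for the adic topology. -/
theorem eq_zero_of_forall_modPow {M : W.Modules} (hM : Coh.IsCoh M) (x : Γ(M, (⊤ : W.Opens)))
    (h : ∀ n, (Formal.modPowπ I (n + 1) M).app ⊤ x = 0) : x = 0 := by
  have := isNoetherian_of_proper S W
  have hb := (proBij I hM (fun q => finite_HH_of_proper S W hM q) 0).toHHlim_bijective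
    (finite_HH_of_proper S W hM 0)
  obtain ⟨y, rfl⟩ := (secEquiv₀ M).surjective x
  have : y = 0 := hb.1 (Subtype.ext (funext fun n => by
    rw [map_zero]
    refine (toHHmodPow_eq I M 0 n y).trans ((secEquiv₀ _).injective ?_)
    rw [secEquiv₀_hmap, h n]
    exact (map_zero (secEquiv₀ _)).symm))
  rw [this, map_zero]

/-- A coherent module with `C = I C` on affines vanishes. -/
theorem sections_eq_zero_of_top_le_smul {C : W.Modules} (hC : Coh.IsCoh C)
    (h : ∀ x : W, ∃ V : W.Opens, IsAffineOpen V ∧ x ∈ V ∧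
      (⊤ : Submodule Γ(W, V) Γ(C, V)) ≤ I.map (baseApp W V) • ⊤) :
    IsZero C := by
  have := hC.1
  have hempty : CohB1.support C = ∅ := by
    rw [Set.eq_empty_iff_forall_notMem]
    intro x hx
    let q := W ↘ Spec (CommRingCat.of S)
    have hcl : IsClosed (q '' CohB1.support C) := q.isClosedMap _ (isClosed_support_of_isCoh C hC)
    obtain ⟨m, hm, hle⟩ := Ideal.exists_le_maximal _ (q x).isPrime.ne_top
    let z : PrimeSpectrum S := ⟨m, hm.isPrime⟩
    have hz : z ∈ q '' CohB1.support C := by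
      refine hcl.closure_subset_iff.2 ?_ ((PrimeSpectrum.le_iff_mem_closure (q x) z).1 hle)
      intro a ha
      exact ⟨x, hx, (Set.eq_of_mem_singleton ha).symm⟩
    obtain ⟨x', hx', hxz⟩ := hz
    obtain ⟨V, hV, hxV, hV'⟩ := h x'
    have := ((QCohMod.isCoh_iff C).1 hC).2 V hV
    obtain ⟨r, hr, hr0⟩ := Submodule.exists_sub_one_mem_and_smul_eq_zero_of_fg_of_le_smul _ ⊤
      (Module.Finite.fg_top) hV'
    rw [QCohMod.mem_support_iff C hV x' hxV, Module.mem_support_iff_of_finite] at hx'
    have hrp : r ∈ (hV.primeIdealOf ⟨x', hxV⟩).asIdeal :=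
      hx' (Module.mem_annihilator.2 fun s => hr0 s trivial)
    have hIp : I.map (baseApp W V) ≤ (hV.primeIdealOf ⟨x', hxV⟩).asIdeal := by
      refine Ideal.map_le_iff_le_comap.2 fun a ha => ?_
      rw [Ideal.mem_comap]
      by_contra hcon
      have hmem := (QCohMod.mem_basicOpen_iff_notMem_primeIdealOf hV (baseApp W V a) x' hxV).2 hcon
      have ham : a ∈ m := (show Ideal.jacobson (⊥ : Ideal S) ≤ m from sInf_le ⟨bot_le, hm⟩)
        (IsAdicComplete.le_jacobson_bot I ha)
      have hne : z ∉ (PrimeSpectrum.basicOpen a : TopologicalSpace.Opens (PrimeSpectrum S)) := fun hh =>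
        (PrimeSpectrum.mem_basicOpen a z).1 hh ham
      apply hne
      have h1 : x' ∈ W.basicOpen (Coh.toGlobal q a) := by
        have : W.basicOpen (baseApp W V a) = V ⊓ W.basicOpen (Coh.toGlobal q a) :=
          W.basicOpen_res _ (homOfLE (le_top : V ≤ ⊤)).op
        rw [this] at hmem
        exact hmem.2
      have h2 : W.basicOpen (Coh.toGlobal q a) = q ⁻¹ᵁ (Spec (CommRingCat.of S)).basicOpen
          ((Scheme.ΓSpecIso (CommRingCat.of S)).inv a) := (Scheme.Hom.preimage_basicOpen q _).symm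
      rw [h2, AlgebraicGeometry.basicOpen_eq_of_affine'] at h1
      rw [← hxz]
      rw [Iso.inv_hom_id_apply] at h1
      exact h1
    have h1 : (1 : Γ(W, V)) ∈ (hV.primeIdealOf ⟨x', hxV⟩).asIdeal := by
      have := sub_mem hrp (hIp hr)
      rwa [sub_sub_cancel] at this
    exact (hV.primeIdealOf ⟨x', hxV⟩).isPrime.ne_top ((Ideal.eq_top_iff_one _).2 h1)
  exact (QCohMod.isZero_iff_support_eq_empty C).2 hempty

end Complete

section Vec

variable {W : Scheme.{u}} {p : ℕ}

/-- The free module of rank `p`. -/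
noncomputable abbrev freeP (W : Scheme.{u}) (p : ℕ) : W.Modules := pw p (Coh.structureModule W)

lemma isCoh_freeP (W : Scheme.{u}) [IsNoetherian W] (p : ℕ) : Coh.IsCoh (freeP W p) :=
  isCoh_pw p ⟨QCohMod.isQCoh_unit W,
    Groth.Ega2Proj.isFT_of_isInvertible (Groth.Ega2Proj.isInvertible_structure W)⟩

/-- The section with given coordinates. -/
noncomputable def vec (V : W.Opens) : (Fin p → Γ(W, V)) →ₗ[Γ(W, V)] Γ(freeP W p, V) :=
  Fintype.linearCombination Γ(W, V) fun a =>
    (biproduct.ι (fun _ : Fin p => Coh.structureModule W) a).app V (PicAux.oneSec W V)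

lemma vec_apply (V : W.Opens) (c : Fin p → Γ(W, V)) : vec V c =
    ∑ a, c a • (biproduct.ι (fun _ : Fin p => Coh.structureModule W) a).app V (PicAux.oneSec W V) :=
  Fintype.linearCombination_apply _ _ _

lemma π_vec (V : W.Opens) (c : Fin p → Γ(W, V)) (b : Fin p) :
    (biproduct.π (fun _ : Fin p => Coh.structureModule W) b).app V (vec V c) = c b • PicAux.oneSec W V := by
  rw [vec_apply, map_sum]
  rw [Finset.sum_eq_single b]
  · rw [Scheme.Modules.Hom.app_smul, app_comp_apply, biproduct.ι_π_self]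
    rfl
  · intro a _ hab
    rw [← Scheme.Modules.Hom.app_smul, app_comp_apply, biproduct.ι_π_ne _ hab]
    rfl
  · simp

lemma vec_surjective (V : W.Opens) : Function.Surjective (vec (W := W) (p := p) V) := fun z => by
  refine ⟨fun a => PicAux.toFun ((biproduct.π (fun _ : Fin p => Coh.structureModule W) a).app V z), ?_⟩
  refine pw_sec_ext V fun b => ?_
  rw [π_vec]
  exact (PicAux.eq_toFun_smul_oneSec _).symm

lemma vec_injective (V : W.Opens) : Function.Injective (vec (W := W) (p := p) V) := fun c d h => by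
  funext b
  have h1 := congrArg (fun z => PicAux.toFun ((biproduct.π (fun _ : Fin p => Coh.structureModule W) b).app V z)) h
  simpa [π_vec, PicAux.toFun_smul, PicAux.toFun_oneSec] using h1

lemma vec_res {V V' : W.Opens} (hle : V' ≤ V) (c : Fin p → Γ(W, V)) :
    QCohMod.res (freeP W p) hle (vec V c) = vec V' (fun a => QCohMod.resFun W hle (c a)) := by
  rw [vec_apply, vec_apply, map_sum]
  refine Finset.sum_congr rfl fun a _ => ?_
  rw [QCohMod.res_smul, QCohMod.res_app]
  congr 2
  exact PicAux.res_oneSec hle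

/-- The map out of the free module given by global sections. -/
noncomputable abbrev freeHom {M : W.Modules} (t : Fin p → Γ(M, (⊤ : W.Opens))) : freeP W p ⟶ M :=
  biproduct.desc fun a => PicAux.homOfSection (t a)

lemma freeHom_vec {M : W.Modules} (t : Fin p → Γ(M, (⊤ : W.Opens))) (V : W.Opens) (c : Fin p → Γ(W, V)) :
    (freeHom t).app V (vec V c) = ∑ a, c a • QCohMod.res M (le_top : V ≤ ⊤) (t a) := by
  rw [vec_apply, map_sum]
  refine Finset.sum_congr rfl fun a _ => ?_
  rw [Scheme.Modules.Hom.app_smul, app_comp_apply, biproduct.ι_desc, PicAux.hom_structure_apply,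
    PicAux.homOfSection_one, PicAux.toFun_oneSec, one_smul]
  rfl

end Vec

section IsoPart

/-- A morphism which is an isomorphism over `D` is bijective on functions over `D`. -/
lemma bijective_app_of_isIso_restrict {X Y : Scheme.{u}} (g : X ⟶ Y) (D : Y.Opens) (h : IsIso (g ∣_ D)) :
    Function.Bijective (g.app D) := by
  have h1 : IsIso ((g ∣_ D).app ⊤) := inferInstance
  rw [morphismRestrict_app] at h1
  have h2 := @IsIso.of_isIso_comp_right _ _ _ _ _ (g.app (D.ι ''ᵁ ⊤))
    (X.presheaf.map (eqToHom (image_morphismRestrict_preimage g D ⊤)).op) inferInstance h1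
  have key : ∀ W : Y.Opens, W = D → Function.Bijective (g.app W) → Function.Bijective (g.app D) := by
    rintro W rfl h
    exact h
  exact key _ D.ι_image_top ((ConcreteCategory.isIso_iff_bijective _).1 h2)

variable {A : Type u} [CommRing A] {J : Ideal A} {X Y : Scheme.{u}} [X.Over (Spec (CommRingCat.of A))]
  [Y.Over (Spec (CommRingCat.of A))] {f : X ⟶ Y} {U : Y.Opens} (hU : IsAffineOpen U)

/-- The open of the completion where the base change is an isomorphism. -/
noncomputable abbrev cD (J : Ideal A) (U : Y.Opens) (h : Γ(Y, U)) : (Spec (CommRingCat.of (cRing J U))).Opens :=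
  (Spec (CommRingCat.of (cRing J U))).basicOpen
    ((Scheme.ΓSpecIso (CommRingCat.of (cRing J U))).inv (algebraMap Γ(Y, U) (cRing J U) h))

/-- Over `cD` the base change is an isomorphism. -/
theorem isIso_cπ_restrict (h : Γ(Y, U)) {V : Y.Opens} (hV : Y.basicOpen h ≤ V) (hiso : IsIso (f ∣_ V)) :
    IsIso (cπ J f hU ∣_ cD J U h) := by
  have hD : cD J U h ≤ cj J hU ⁻¹ᵁ V := by
    refine le_trans ?_ ((cj J hU).preimage_mono hV)
    intro x hx
    have e0 : (⊤ : (Spec (CommRingCat.of (cRing J U))).Opens) ≤ cj J hU ⁻¹ᵁ U := fun y _ =>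
      hU.range_fromSpec.le ⟨_, rfl⟩
    have : x ∈ (Spec (CommRingCat.of (cRing J U))).basicOpen ((cj J hU).appLE U ⊤ e0 h) := by
      rw [cj_appLE J hU h e0]; exact hx
    rw [Scheme.Hom.appLE, CommRingCat.comp_apply, Scheme.basicOpen_res, ← Scheme.Hom.preimage_basicOpen] at this
    exact this.2
  have s1 : IsPullback ((cπ J f hU ⁻¹ᵁ cD J U h).ι ≫ ck J f hU) (cπ J f hU ∣_ cD J U h) f
      ((cD J U h).ι ≫ cj J hU) :=
    (isPullback_morphismRestrict (cπ J f hU) (cD J U h)).flip.paste_horiz (cX_isPullback J f hU)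
  let t := IsOpenImmersion.lift V.ι ((cD J U h).ι ≫ cj J hU) (by
    rintro _ ⟨y, rfl⟩
    simpa using hD y.2)
  have ht : t ≫ V.ι = (cD J U h).ι ≫ cj J hU := IsOpenImmersion.lift_fac _ _ _
  rw [← ht] at s1
  let t' := (isPullback_morphismRestrict f V).flip.lift ((cπ J f hU ⁻¹ᵁ cD J U h).ι ≫ ck J f hU)
    ((cπ J f hU ∣_ cD J U h) ≫ t) (by rw [Category.assoc]; exact s1.w)
  have s2 : IsPullback t' (cπ J f hU ∣_ cD J U h) (f ∣_ V) t :=
    IsPullback.of_right (by rw [IsPullback.lift_fst]; exact s1) (IsPullback.lift_snd _ _ _ _)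
      (isPullback_morphismRestrict f V).flip
  exact MorphismProperty.of_isPullback (P := MorphismProperty.isomorphisms Scheme.{u}) s2 hiso

variable (f) in
/-- Functions on `cπ⁻¹ cD` come from the completion up to powers of `h`. -/
theorem exists_pow_mul_eq_baseApp (h : Γ(Y, U)) (hiso : IsIso (cπ J f hU ∣_ cD J U h))
    (c : Γ(cX J f hU, cπ J f hU ⁻¹ᵁ cD J U h)) :
    ∃ (N : ℕ) (s : cRing J U), baseApp (cX J f hU) _ (algebraMap Γ(Y, U) (cRing J U) h ^ N) * c =
      baseApp (cX J f hU) _ s := by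
  have hb := bijective_app_of_isIso_restrict (cπ J f hU) (cD J U h) hiso
  obtain ⟨d, rfl⟩ := hb.2 c
  have := (isAffineOpen_top (Spec (CommRingCat.of (cRing J U)))).isLocalization_basicOpen
    ((Scheme.ΓSpecIso (CommRingCat.of (cRing J U))).inv (algebraMap Γ(Y, U) (cRing J U) h))
  obtain ⟨⟨s, ⟨_, N, rfl⟩⟩, hs⟩ := IsLocalization.surj
    (Submonoid.powers ((Scheme.ΓSpecIso (CommRingCat.of (cRing J U))).inv (algebraMap Γ(Y, U) (cRing J U) h))) d
  refine ⟨N, (Scheme.ΓSpecIso (CommRingCat.of (cRing J U))).hom s, ?_⟩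
  have key : ∀ s' : cRing J U, baseApp (cX J f hU) (cπ J f hU ⁻¹ᵁ cD J U h) s' =
      (cπ J f hU).app (cD J U h) ((Spec (CommRingCat.of (cRing J U))).presheaf.map (homOfLE le_top).op
        ((Scheme.ΓSpecIso (CommRingCat.of (cRing J U))).inv s')) := fun s' =>
    (congr($((cπ J f hU).naturality (homOfLE (le_top : cD J U h ≤ ⊤)).op)
      ((Scheme.ΓSpecIso (CommRingCat.of (cRing J U))).inv s'))).symm
  rw [key, key, ← map_mul, Iso.hom_inv_id_apply]
  congr 1
  rw [mul_comm]
  refine Eq.trans ?_ hs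
  rw [map_pow, map_pow, map_pow]
  rfl

variable (f) in
/-- An element of the completion vanishing on `cπ⁻¹ cD` is killed by a power of `h`. -/
theorem exists_pow_mul_eq_zero (h : Γ(Y, U)) (hiso : IsIso (cπ J f hU ∣_ cD J U h)) (s : cRing J U)
    (hs : baseApp (cX J f hU) (cπ J f hU ⁻¹ᵁ cD J U h) s = 0) :
    ∃ N : ℕ, algebraMap Γ(Y, U) (cRing J U) h ^ N * s = 0 := by
  have hb := bijective_app_of_isIso_restrict (cπ J f hU) (cD J U h) hiso
  have hd : (Spec (CommRingCat.of (cRing J U))).presheaf.map (homOfLE (le_top : cD J U h ≤ ⊤)).op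
      ((Scheme.ΓSpecIso (CommRingCat.of (cRing J U))).inv s) = 0 :=
    hb.1 <| by
      rw [map_zero]
      exact (congr($((cπ J f hU).naturality (homOfLE (le_top : cD J U h ≤ ⊤)).op)
        ((Scheme.ΓSpecIso (CommRingCat.of (cRing J U))).inv s))).trans hs
  have := (isAffineOpen_top (Spec (CommRingCat.of (cRing J U)))).isLocalization_basicOpen
    ((Scheme.ΓSpecIso (CommRingCat.of (cRing J U))).inv (algebraMap Γ(Y, U) (cRing J U) h))
  obtain ⟨⟨_, N, rfl⟩, hN⟩ := (IsLocalization.map_eq_zero_iff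
    (Submonoid.powers ((Scheme.ΓSpecIso (CommRingCat.of (cRing J U))).inv (algebraMap Γ(Y, U) (cRing J U) h)))
    Γ(Spec (CommRingCat.of (cRing J U)), cD J U h) _).1 hd
  refine ⟨N, ?_⟩
  have := congrArg (Scheme.ΓSpecIso (CommRingCat.of (cRing J U))).hom hN
  rwa [map_mul, map_pow, Iso.inv_hom_id_apply, Iso.inv_hom_id_apply, map_zero] at this

end IsoPart

end Groth.CohC3
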