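import Groth.Agent.CohC3.ExistenceProper
import Groth.Agent.CohC3.ProperSupport
import Groth.Agent.CohC3.ProperOverBasic
import Groth.Agent.CohTwo.CohInduction
import Groth.Agent.S0788
import Groth.Agent.S0790
import Groth.Agent.S0791

/-! Supports: direct images, formal modules, the class of modules with support proper over the base. -/

universe u

open CategoryTheory CategoryTheory.Limits AlgebraicGeometry Opposite TopologicalSpace

namespace Groth.CohC3

variable {X Y S : Scheme.{u}}

/-- Sections over an open disjoint from the support vanish. -/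
lemma subsingleton_sections_of_disjoint (M : X.Modules) (W : X.Opens)
    (h : ∀ x ∈ W, x ∉ CohB1.support M) : Subsingleton Γ(M, W) :=
  ⟨fun a b => RefRank.mod_section_ext M fun x hx =>
    @Subsingleton.elim _ ((CohTwo.notMem_support_iff M x).1 (h x hx)) _ _⟩

/-- A direct image is supported in the image of the support, if that is closed. -/
lemma support_pushforward_subset (f : X ⟶ Y) (M : X.Modules) {T : Set X}
    (hM : CohB1.support M ⊆ T) (hc : IsClosed (f '' T)) :
    CohB1.support ((Scheme.Modules.pushforward f).obj M) ⊆ f '' T := by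
  intro y hy
  by_contra hyT
  refine hy (subsingleton_of_forall_eq 0 fun t => ?_)
  obtain ⟨U, hU, s, rfl⟩ := QCohMod.exists_germ ((Scheme.Modules.pushforward f).obj M) y t
  let V : Y.Opens := U ⊓ ⟨(f '' T)ᶜ, hc.isOpen_compl⟩
  haveI : Subsingleton Γ((Scheme.Modules.pushforward f).obj M, V) :=
    subsingleton_sections_of_disjoint M (f ⁻¹ᵁ V) fun x hx hxs => hx.2 ⟨x, hM hxs, rfl⟩
  rw [← QCohMod.germ_res _ (inf_le_left : V ≤ U) y ⟨hU, hyT⟩ s,
    Subsingleton.elim (QCohMod.res _ (inf_le_left : V ≤ U) s) 0, map_zero]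

/-- A module whose sections vanish on all affine opens in an open set is not supported there. -/
lemma notMem_support_of_affine_sections (M : X.Modules) [M.IsQuasicoherent] {V : X.Opens} (hV : IsAffineOpen V)
    (h : Subsingleton Γ(M, V)) {x : X} (hx : x ∈ V) : x ∉ CohB1.support M := by
  rw [CohTwo.notMem_support_iff]
  refine subsingleton_of_forall_eq 0 fun (t : M.presheaf.stalk x) => ?_
  obtain ⟨b, m, hb, hbm⟩ := QCohMod.exists_smul_germ_eq M hV x hx t
  rw [Subsingleton.elim m 0, map_zero] at hbm
  change t = (0 : M.presheaf.stalk x)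
  exact ((Scheme.mem_basicOpen X b x hx).mp hb).smul_left_cancel.mp
    (hbm.trans (smul_zero (X.presheaf.germ V x hx b)).symm)

section Formal

variable {A : Type u} [CommRing A] [X.Over (Spec (CommRingCat.of A))] {I : Ideal A}

/-- All terms of a coherent formal module are supported in the support of the first one. -/
theorem support_sys_subset {G : ℕᵒᵖ ⥤ X.Modules} (hs : IsSys I G) (hG : ∀ n, Coh.IsCoh (G.obj (op n)))
    (n : ℕ) : CohB1.support (G.obj (op n)) ⊆ CohB1.support (G.obj (op 0)) := by
  intro x hx
  by_contra hx0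
  have hc := isClosed_support_of_isCoh _ (hG 0)
  obtain ⟨_, ⟨V, hV, rfl⟩, hxV, hVc⟩ := X.isBasis_affineOpens.exists_subset_of_mem_open hx0 hc.isOpen_compl
  have := (hG n).1
  have := (hG 0).1
  have h0 : Subsingleton Γ(G.obj (op 0), V) := subsingleton_sections_of_disjoint _ V fun y hy => hVc hy
  refine notMem_support_of_affine_sections (G.obj (op n)) hV (subsingleton_of_forall_eq 0 fun m => ?_) hxV hx
  have hpow : ∀ k, ∀ m : Γ(G.obj (op n), V),
      m ∈ (((I.map (baseApp X V)) ^ k) • ⊤ : Submodule Γ(X, V) Γ(G.obj (op n), V)) := by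
    intro k
    induction k with
    | zero => intro m; simp
    | succ k ih =>
      intro m
      have h1 := ((hs.isQuot (Nat.zero_le n)).app_eq_zero_iff m hV).1 (Subsingleton.elim _ _)
      rw [zero_add, pow_one] at h1
      rw [pow_succ', Submodule.mul_smul]
      exact Submodule.smul_mono le_rfl (fun y _ => ih y) h1
  have h2 := hpow (n + 1) m
  rw [← Ideal.map_pow] at h2
  exact ((isQuot_id (hs.killed n)).app_eq_zero_iff m hV).2 h2

end Formal

/-- Being supported in a set proper over the base. -/
def PSupp (q : X ⟶ S) (M : X.Modules) : Prop :=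
  ∃ T : Set X, ClSub.IsProperOver q T ∧ CohB1.support M ⊆ T

lemma PSupp.isProperOver {q : X ⟶ S} {M : X.Modules} (h : PSupp q M) (hM : Coh.IsCoh M) :
    ClSub.IsProperOver q (CohB1.support M) := by
  obtain ⟨T, hT, hle⟩ := h
  exact isProperOver_mono hT hle (isClosed_support_of_isCoh M hM)

lemma PSupp.of_subset {q : X ⟶ S} {M N : X.Modules} (h : PSupp q N)
    (hle : CohB1.support M ⊆ CohB1.support N) : PSupp q M := by
  obtain ⟨T, hT, hN⟩ := h
  exact ⟨T, hT, hle.trans hN⟩

theorem suppClass_pSupp (q : X ⟶ S) [LocallyOfFiniteType q] : SuppClass (PSupp q) where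
  of_epi p _ _ _ h := h.of_subset (CohTwo.support_subset_of_epi p)
  of_mono i _ _ _ h := h.of_subset (CohTwo.support_subset_of_mono i)
  pullback {F H Q} p r _ _ _ hF hH := by
    obtain ⟨T₁, hT₁, h₁⟩ := hF
    obtain ⟨T₂, hT₂, h₂⟩ := hH
    refine ⟨⋃ b : Bool, bif b then T₁ else T₂,
      Groth.Agent.S0791.result q Bool (fun b => bif b then T₁ else T₂) (by intro b; cases b <;> assumption),
      fun x hx => ?_⟩
    by_contra hxu
    simp only [Set.mem_iUnion, Bool.exists_bool, cond_false, cond_true, not_or] at hxu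
    let m : pullback p r ⟶ F ⊞ H := biprod.lift (pullback.fst p r) (pullback.snd p r)
    have : Mono m := ⟨fun {W} g g' e => pullback.hom_ext
      (by simpa [m] using congrArg (· ≫ biprod.fst) e) (by simpa [m] using congrArg (· ≫ biprod.snd) e)⟩
    have hb : x ∈ CohB1.support (F ⊞ H) := CohTwo.support_subset_of_mono m hx
    refine hb ?_
    haveI : Subsingleton ↑((QCohMod.stalk x).obj F) := (CohTwo.notMem_support_iff _ x).1 fun h => hxu.2 (h₁ h)
    haveI : Subsingleton ↑((QCohMod.stalk x).obj H) := (CohTwo.notMem_support_iff _ x).1 fun h => hxu.1 (h₂ h)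
    haveI : PreservesBinaryBiproduct F H (QCohMod.stalk x) :=
      preservesBinaryBiproduct_of_preservesBinaryCoproduct _
    exact AddCommGrpCat.subsingleton_of_isZero (((biprod_isZero_iff _ _).2
      ⟨AddCommGrpCat.isZero_of_subsingleton _, AddCommGrpCat.isZero_of_subsingleton _⟩).of_iso
        ((QCohMod.stalk x).mapBiprod F H))

end Groth.CohC3
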