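import Groth.Agent.CohC3.GenSections
import Groth.Agent.CohC3.GradedVanishing
import Groth.Agent.CohC3.GrSeq
import Groth.Agent.CohC3.FullyFaithful
import Groth.Agent.Chow.QcohExtend
import Groth.Agent.RefRank.HomSec

/-! Coherent generators of systems on schemes with an ample module. -/

universe u

open CategoryTheory CategoryTheory.Limits AlgebraicGeometry Opposite TopologicalSpace

namespace Groth.CohC3

variable {X : Scheme.{u}}

lemma homOfSection_comp {M N : X.Modules} (s : Γ(M, ⊤)) (φ : M ⟶ N) :
    Groth.PicAux.homOfSection s ≫ φ = Groth.PicAux.homOfSection (φ.app ⊤ s) := by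
  refine CohTwo.hom_ext_app fun V m => ?_
  rw [Groth.PicAux.hom_structure_apply (Groth.PicAux.homOfSection s ≫ φ),
    Groth.PicAux.hom_structure_apply (Groth.PicAux.homOfSection (φ.app ⊤ s)), Scheme.Modules.Hom.comp_app,
    ConcreteCategory.comp_apply, Groth.PicAux.homOfSection_one, Groth.PicAux.homOfSection_one]

variable {A : Type u} [CommRing A] [X.Over (Spec (CommRingCat.of A))]

include A in
/-- Global sections lift along an epimorphism whose kernel has no first cohomology. -/
lemma exists_app_top_eq {S : ShortComplex X.Modules} (hS : S.ShortExact)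
    (h : Subsingleton (Coh.HH X S.X₁ 1)) (s : Γ(S.X₃, ⊤)) : ∃ t, S.g.app ⊤ t = s := by
  obtain ⟨y, hy⟩ := exists_of_hdelta_eq_zero (A := A) hS ((secEquiv₀ S.X₃).symm s) (Subsingleton.elim _ _)
  exact ⟨secEquiv₀ _ y, by rw [← secEquiv₀_hmap (A := A), hy, AddEquiv.apply_symm_apply]⟩

variable [IsNoetherianRing A] [IsProper (X ↘ Spec (CommRingCat.of A))] {L : X.Modules}
  {I : Ideal A}

/-- **Generators of a system**: a surjective system killed by powers of `I`, with uniformly vanishing
twisted kernels and Nakayama from some level on, is the image of one coherent module. -/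
theorem exists_generators (hL : CohB1.IsAmple L) (R : ℕᵒᵖ ⥤ X.Modules)
    (hc : ∀ n, Coh.IsCoh (R.obj (op n))) (hk : ∀ n, Formal.KilledBy (I ^ (n + 1)) (R.obj (op n)))
    (hepi : ∀ n, Epi (sysMap R (Nat.le_succ n)))
    (hv : ∃ d₀ : ℕ, ∀ n d, d₀ ≤ d →
      Subsingleton (Coh.HH X (CohB1.tensorMod (grObj R n) (CohB1.tensorPow L d)) 1))
    (hN : ∃ D, ∀ n, D ≤ n → ∀ U : X.Opens, IsAffineOpen U → ∀ y,
      (sysMap R (Nat.le_succ n)).app U y = 0 →
        y ∈ I.map (baseApp X U) • (⊤ : Submodule Γ(X, U) Γ(R.obj (op (n + 1)), U))) :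
    ∃ (F : X.Modules) (p : ∀ n, F ⟶ R.obj (op n)), Coh.IsCoh F ∧ (∀ n, Epi (p n)) ∧
      ∀ {i j : ℕ} (h : i ≤ j), p j ≫ sysMap R h = p i := by
  classical
  haveI := isNoetherian_of_proper A X
  have hq := fun n => (hc n).1
  obtain ⟨d₀, hv⟩ := hv
  obtain ⟨D, hN⟩ := hN
  obtain ⟨d₁, hd₁⟩ := Chow.exists_isGloballyGenerated_twist hL (R.obj (op D)) (hc D).2
  set d := max d₀ d₁
  set L' := CohB1.tensorPow L d
  have hL' : PicF.IsInvertible L' := PicAux.isInvertible_tensorPow hL.1 d
  obtain ⟨M, hM, hinv⟩ := PicAux.exists_isInverseOf hL'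
  have hcoh : ∀ {N : X.Modules}, PicF.IsInvertible N → Coh.IsCoh N := fun hN' =>
    ⟨PicAux.isQCoh_of_isInvertible hN', Ega2Proj.isFT_of_isInvertible hN'⟩
  let E := PicAux.twistEquiv hinv
  let T : X.Modules ⥤ X.Modules := DCoh.tensorRightMod L'
  obtain ⟨S, hS⟩ := exists_epi_secHom (RefRank.isCoh_tensorMod (hc D) (hcoh hL'))
    (hd₁ d (le_max_right _ _))
  -- lifts of the sections
  have hlift : ∀ m, ∀ s : Γ(T.obj (R.obj (op m)), ⊤), ∃ t, (T.map (sysMap R (Nat.le_succ m))).app ⊤ t = s := by
    intro m s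
    have hse : (ShortComplex.mk (kernel.ι (sysMap R (Nat.le_succ m))) (sysMap R (Nat.le_succ m))
        (kernel.condition _)).ShortExact :=
      { exact := ShortComplex.exact_of_f_is_kernel _ (kernelIsKernel _)
        mono_f := inferInstanceAs (Mono (kernel.ι _))
        epi_g := hepi m }
    exact exists_app_top_eq (A := A) (PicAux.shortExact_tensorRightMod hL' hse) (hv m d (le_max_left _ _)) s
  choose up hup using hlift
  let l : ∀ (_ : Fin S.card) (j : ℕ), Γ(T.obj (R.obj (op (D + j))), ⊤) := fun i j =>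
    Nat.rec (motive := fun j => Γ(T.obj (R.obj (op (D + j))), ⊤)) (S.equivFin.symm i).1
      (fun j t => up (D + j) t) j
  let s : ∀ (_ : Fin S.card) (n : ℕ), Γ(T.obj (R.obj (op n)), ⊤) := fun i n =>
    (T.map (sysMap R (Nat.le_add_left n D))).app ⊤ (l i n)
  have hsys : ∀ i {m n : ℕ} (h : n ≤ D + m) (h' : n ≤ D + (m + 1)),
      (T.map (sysMap R h')).app ⊤ (l i (m + 1)) = (T.map (sysMap R h)).app ⊤ (l i m) := fun i m n h h' => by
    rw [← sysMap_comp R h (Nat.le_succ (D + m)), T.map_comp]
    exact congrArg ((T.map (sysMap R h)).app ⊤) (hup (D + m) (l i m))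
  have hlD : ∀ i m, (T.map (sysMap R (Nat.le_add_right D m))).app ⊤ (l i m) = (S.equivFin.symm i).1 := by
    intro i m
    induction m with
    | zero => rw [show sysMap R (Nat.le_add_right D 0) = 𝟙 _ from sysMap_refl R D, T.map_id]; rfl
    | succ m ih => rw [hsys i (Nat.le_add_right D m), ih]
  let φ : ∀ n, pw S.card (Coh.structureModule X) ⟶ T.obj (R.obj (op n)) := fun n =>
    biproduct.desc fun i => Groth.PicAux.homOfSection (s i n)
  have hφD : φ D = secHom S := biproduct.hom_ext' _ _ fun i =>
    (biproduct.ι_desc _ _).trans ((congrArg Groth.PicAux.homOfSection (hlD i D)).trans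
      (biproduct.ι_desc (fun i => Groth.PicAux.homOfSection (S.equivFin.symm i).1) i).symm)
  have hφ : ∀ n, φ (n + 1) ≫ T.map (sysMap R (Nat.le_succ n)) = φ n := fun n => biproduct.hom_ext' _ _ fun i => by
    simp only [φ, biproduct.ι_desc_assoc, biproduct.ι_desc, homOfSection_comp]
    congr 1
    simp only [s]
    rw [app_comp_apply, ← T.map_comp, sysMap_comp]
    exact hsys i (Nat.le_add_left n D) _
  let p : ∀ n, E.inverse.obj (pw S.card (Coh.structureModule X)) ⟶ R.obj (op n) := fun n =>
    E.inverse.map (φ n) ≫ E.unitIso.inv.app (R.obj (op n))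
  have hp₁ : ∀ n, p (n + 1) ≫ sysMap R (Nat.le_succ n) = p n := fun n => by
    simp only [p, Category.assoc]
    refine (congrArg (E.inverse.map (φ (n + 1)) ≫ ·) (E.unitIso.inv.naturality (sysMap R (Nat.le_succ n))).symm).trans ?_
    refine (Category.assoc _ _ _).symm.trans ?_
    exact congrArg (· ≫ E.unitIso.inv.app (R.obj (op n)))
      ((Functor.map_comp E.inverse _ _).symm.trans (congrArg E.inverse.map (hφ n)))
  have hp : ∀ {i j : ℕ} (h : i ≤ j), p j ≫ sysMap R h = p i := fun {i j} h => by
    induction j, h using Nat.le_induction with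
    | base => rw [sysMap_refl, Category.comp_id]
    | succ k hk ih => rw [← sysMap_comp R hk (Nat.le_succ k), ← Category.assoc, hp₁, ih]
  have hF : Coh.IsCoh (E.inverse.obj (pw S.card (Coh.structureModule X))) :=
    RefRank.isCoh_tensorMod (isCoh_pw _ (hcoh (Ega2Proj.isInvertible_structure X))) (hcoh hM)
  have := hF.1
  have hpD : Epi (p D) := by
    have : Epi (φ D) := hφD ▸ hS
    have : Epi (E.inverse.map (φ D)) := inferInstance
    exact @epi_comp _ _ _ _ _ (E.inverse.map (φ D)) this (E.unitIso.inv.app (R.obj (op D)))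
      (@IsIso.epi_of_iso _ _ _ _ _ (E.unitIso.app (R.obj (op D))).isIso_inv)
  refine ⟨_, p, hF, fun n => ?_, hp⟩
  by_cases hn : n ≤ D
  · have : Epi (sysMap R hn) := by
      have aux : ∀ {i j : ℕ} (h : i ≤ j), Epi (sysMap R h) := fun {i j} h => by
        induction j, h using Nat.le_induction with
        | base => rw [sysMap_refl]; infer_instance
        | succ k hk ih => rw [← sysMap_comp R hk (Nat.le_succ k)]; exact epi_comp _ _
      exact aux hn
    rw [← hp hn]
    exact epi_comp _ _
  · refine QCohMod.epi_of_affine_surjective _ fun U hU => ?_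
    set J := I.map (baseApp X U)
    let P : ∀ n, Submodule Γ(X, U) Γ(R.obj (op n), U) := fun n => LinearMap.range (QCohMod.appₗ (p n) U)
    have hstep : ∀ m, D ≤ m → (⊤ : Submodule Γ(X, U) Γ(R.obj (op m), U)) ≤ P m ⊔ J • ⊤ := by
      intro m hm
      induction m, hm using Nat.le_induction with
      | base =>
        intro y _
        obtain ⟨z, hz⟩ := QCohMod.app_surjective_of_epi (p D) hU y
        exact Submodule.mem_sup_left ⟨z, hz⟩
      | succ k hk ih =>
        intro y _
        obtain ⟨_, ⟨z, rfl⟩, w, hw, hzw⟩ := Submodule.mem_sup.1 (ih (trivial : (sysMap R (Nat.le_succ k)).app U y ∈ ⊤))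
        have hsurj : LinearMap.range (QCohMod.appₗ (sysMap R (Nat.le_succ k)) U) = ⊤ :=
          LinearMap.range_eq_top.2 fun t => by
            have := hepi k
            exact QCohMod.app_surjective_of_epi (sysMap R (Nat.le_succ k)) hU t
        rw [← hsurj, LinearMap.range_eq_map, ← Submodule.map_smul''] at hw
        obtain ⟨w', hw', rfl⟩ := hw
        have h0 : (sysMap R (Nat.le_succ k)).app U (y - (p (k + 1)).app U z - w') = 0 := by
          rw [map_sub, map_sub, app_comp_apply, hp₁, ← hzw]
          simp [P]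
        have := add_mem (add_mem (Submodule.mem_sup_right (S := P (k + 1)) (hN k hk U hU _ h0))
          (Submodule.mem_sup_left (T := J • (⊤ : Submodule Γ(X, U) Γ(R.obj (op (k + 1)), U))) ⟨z, rfl⟩))
          (Submodule.mem_sup_right (S := P (k + 1)) hw')
        rwa [show y - (p (k + 1)).app U z - w' + QCohMod.appₗ (p (k + 1)) U z + w' = y from
          (congrArg (fun t => y - (p (k + 1)).app U z - w' + t + w') rfl).trans
            (show y - (p (k + 1)).app U z - w' + (p (k + 1)).app U z + w' = y by abel)] at this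
    have hpow : ∀ k, (⊤ : Submodule Γ(X, U) Γ(R.obj (op n), U)) ≤ P n ⊔ J ^ k • ⊤ := by
      intro k
      induction k with
      | zero => simp
      | succ k ih =>
        refine ih.trans (sup_le le_sup_left ?_)
        refine (Submodule.smul_mono le_rfl (hstep n (by omega))).trans ?_
        rw [Submodule.smul_sup, ← Submodule.mul_smul, ← pow_succ]
        exact sup_le_sup_right Submodule.smul_le_right _
    intro y
    obtain ⟨z, hz, w, hw, rfl⟩ := Submodule.mem_sup.1 (hpow (n + 1) (trivial : y ∈ ⊤))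
    have h0 : w = 0 := by
      rw [← Ideal.map_pow] at hw
      exact app_eq_zero_of_mem_smul (𝟙 (R.obj (op n))) ((killedBy_iff_le _ _).1 (hk n)) hw
    rw [h0, add_zero]
    exact hz

end Groth.CohC3
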