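import Groth.Agent.CohC3.LimitSys

/-! Systems with `F_n → F_(n+1) → F_1` short exact come from an `f`-torsion free module. -/

universe u

open CategoryTheory CategoryTheory.Limits AlgebraicGeometry Opposite TopologicalSpace

namespace Groth.CohC3

variable {A : Type u} [CommRing A] {X : Scheme.{u}} [X.Over (Spec (CommRingCat.of A))]

theorem torsionFree_of_shortExact_system (f : A) (G : ℕᵒᵖ ⥤ X.Modules)
    (hqc : ∀ n : ℕᵒᵖ, Coh.IsQCoh (G.obj n))
    (h1 : ∀ n : ℕ, ∃ i : G.obj (op n) ⟶ G.obj (op (n + 1)), Mono i ∧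
      G.map (homOfLE (Nat.le_succ n)).op ≫ i = Formal.smulMod A (G.obj (op (n + 1))) f ∧
      ∃ w : i ≫ G.map (homOfLE (Nat.zero_le (n + 1))).op = 0,
        (ShortComplex.mk i (G.map (homOfLE (Nat.zero_le (n + 1))).op) w).ShortExact) :
    ∃ F : X.Modules, Mono (Formal.smulMod A F f) ∧
      Nonempty (Formal.completion (Ideal.span ({f} : Set A)) F ≅ G) := by
  choose i hmono hi w hse using h1
  have hq : ∀ n, (G.obj (op n)).IsQuasicoherent := fun n => hqc (op n)
  have hti : ∀ n (U : X.Opens) (x : Γ(G.obj (op (n + 1)), U)),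
      (i n).app U ((sysMap G (Nat.le_succ n)).app U x) = baseApp X U f • x := fun n U x => by
    rw [app_comp_apply]; exact congr(($(hi n)).app U x)
  have hzero : ∀ n (U : X.Opens) (x : Γ(G.obj (op n), U)),
      (sysMap G (Nat.zero_le (n + 1))).app U ((i n).app U x) = 0 := fun n U x => by
    rw [app_comp_apply]; exact congr(($(w n)).app U x)
  have hex : ∀ n (U : X.Opens), IsAffineOpen U → ∀ x : Γ(G.obj (op (n + 1)), U),
      (sysMap G (Nat.zero_le (n + 1))).app U x = 0 → ∃ y, (i n).app U y = x := fun n U hU x hx => by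
    have := hq n; have := hq (n + 1); have := hq 0
    exact QCohMod.exists_app_eq_of_exact (S := ShortComplex.mk _ _ (w n)) (hse n).exact hU x hx
  have hinj : ∀ n (U : X.Opens), Function.Injective ((i n).app U) := fun n U =>
    have := hmono n; QCohMod.app_injective_of_mono (i n) U
  have hsurj0 : ∀ n (U : X.Opens), IsAffineOpen U →
      Function.Surjective ((sysMap G (Nat.zero_le (n + 1))).app U) := fun n U hU =>
    have := hq (n + 1); have := hq 0; have := (hse n).epi_g
    QCohMod.app_surjective_of_epi _ hU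
  have hnil : ∀ n (U : X.Opens), IsAffineOpen U → ∀ x : Γ(G.obj (op n), U),
      baseApp X U f ^ (n + 1) • x = 0 := by
    intro n U hU
    induction n with
    | zero =>
      intro x
      obtain ⟨y, rfl⟩ := hsurj0 0 U hU x
      rw [pow_one, ← Scheme.Modules.Hom.app_smul, ← hti, hzero]
    | succ n ih =>
      intro x
      rw [pow_succ, mul_smul, ← hti, ← Scheme.Modules.Hom.app_smul, ih, map_zero]
  have hsurj : ∀ n (U : X.Opens), IsAffineOpen U →
      Function.Surjective ((sysMap G (Nat.le_succ n)).app U) := by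
    intro n U hU
    induction n with
    | zero => exact hsurj0 0 U hU
    | succ n ih =>
      intro y
      have step : ∀ z : Γ(G.obj (op (n + 1)), U), ∃ x u, z = (sysMap G (Nat.le_succ (n + 1))).app U x + baseApp X U f • u := by
        intro z
        obtain ⟨x, hx⟩ := hsurj0 (n + 1) U hU ((sysMap G (Nat.zero_le (n + 1))).app U z)
        obtain ⟨v, hv⟩ := hex n U hU (z - (sysMap G (Nat.le_succ (n + 1))).app U x) (by
          rw [map_sub, sysMap_app_comp, hx, sub_self])
        obtain ⟨u, rfl⟩ := ih v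
        exact ⟨x, u, by rw [← hti, hv, add_sub_cancel]⟩
      have key : ∀ k, ∃ x u, y = (sysMap G (Nat.le_succ (n + 1))).app U x + baseApp X U f ^ k • u := by
        intro k
        induction k with
        | zero => exact ⟨0, y, by simp⟩
        | succ k ihk =>
          obtain ⟨x, u, e⟩ := ihk
          obtain ⟨x', u', e'⟩ := step u
          exact ⟨x + baseApp X U f ^ k • x', u', by
            rw [e, e', map_add, Scheme.Modules.Hom.app_smul, smul_add, pow_succ, mul_smul, add_assoc]⟩
      obtain ⟨x, u, e⟩ := key (n + 1 + 1)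
      exact ⟨x, by rw [e, hnil _ U hU, add_zero]⟩
  have hit : ∀ n (U : X.Opens), IsAffineOpen U → ∀ z : Γ(G.obj (op (n + 1)), U),
      (sysMap G (Nat.le_succ (n + 1))).app U ((i (n + 1)).app U z) =
        (i n).app U ((sysMap G (Nat.le_succ n)).app U z) := by
    intro n U hU z
    obtain ⟨v, rfl⟩ := hsurj (n + 1) U hU z
    rw [hti, Scheme.Modules.Hom.app_smul, hti]
  let F := limit G
  have hπ : ∀ (j k : ℕ) (h : j ≤ k) (U : X.Opens) (x : Γ(F, U)),
      (sysMap G h).app U ((limit.π G (op k)).app U x) = (limit.π G (op j)).app U x :=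
    fun j k h U x => limit_π_sysMap G h U x
  have hdiv : ∀ (U : X.Opens), IsAffineOpen U → ∀ n (x : Γ(F, U)),
      (limit.π G (op n)).app U x = 0 → ∃ y, x = baseApp X U f ^ (n + 1) • y := by
    intro U hU
    have base : ∀ x : Γ(F, U), (limit.π G (op 0)).app U x = 0 →
        ∃ y : Γ(F, U), x = baseApp X U f • y ∧ ∀ m, (i m).app U ((limit.π G (op m)).app U y) = (limit.π G (op (m + 1))).app U x := by
      intro x hx
      choose v hv using fun m => hex m U hU ((limit.π G (op (m + 1))).app U x) (by rw [hπ, hx])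
      obtain ⟨y, hy⟩ := exists_limit_sec G U v fun m => hinj m U (by
        rw [← hit m U hU, hv, hπ, hv])
      refine ⟨y, limit_sec_ext G U fun ⟨m⟩ => ?_, fun m => (congrArg _ (hy m)).trans (hv m)⟩
      rw [Scheme.Modules.Hom.app_smul]
      change (limit.π G (op m)).app U x = _
      rw [← hπ m (m + 1) (Nat.le_succ m) U x, ← hv m]
      obtain ⟨u, hu⟩ := hsurj m U hU ((limit.π G (op m)).app U y)
      rw [← hy m, ← hu, hti, Scheme.Modules.Hom.app_smul]
    intro n
    induction n with
    | zero => intro x hx; obtain ⟨y, hy, -⟩ := base x hx; exact ⟨y, by rw [pow_one]; exact hy⟩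
    | succ n ih =>
      intro x hx
      obtain ⟨y, rfl, hy⟩ := base x (by rw [← hπ 0 (n + 1) (Nat.zero_le _), hx, map_zero])
      obtain ⟨z, rfl⟩ := ih y (hinj n U ((hy n).trans (hx.trans (map_zero _).symm)))
      exact ⟨z, by rw [pow_succ' (n := n + 1), mul_smul]⟩
  have hmonoF : Mono (Formal.smulMod A F f) := by
    refine Preadditive.mono_of_cancel_zero _ fun {T} g hg => ?_
    refine CohTwo.hom_ext_app fun W s => CohTwo.eq_of_local F _ _ fun x hx => ?_
    obtain ⟨_, ⟨V, hV, rfl⟩, hxV, hVW⟩ := X.isBasis_affineOpens.exists_subset_of_mem_open hx W.2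
    refine ⟨V, hVW, hxV, ?_⟩
    rw [← CohTwo.app_res, ← CohTwo.app_res]
    set t := g.app V (CohTwo.res T hVW s)
    have ht : baseApp X V f • t = 0 := congr(($hg).app V (CohTwo.res T hVW s))
    change t = 0
    refine limit_sec_ext G V fun ⟨m⟩ => ?_
    rw [map_zero]
    refine hinj m V ?_
    rw [map_zero, ← hπ m (m + 1) (Nat.le_succ m) V t, hti, ← Scheme.Modules.Hom.app_smul, ht, map_zero]
  refine ⟨F, hmonoF, nonempty_completion_iso _ F G (fun n => limit.π G (op n))
    (fun n => isQuot_of_affine _ ?_ (fun U hU => limit_π_app_surjective G U n fun m _ => hsurj m U hU)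
      fun U hU x hx => ?_) fun n => limit.w G _⟩
  · rw [Ideal.span_singleton_pow, Ideal.span_le, Set.singleton_subset_iff, SetLike.mem_coe, mem_annHom]
    refine CohTwo.hom_ext_app fun W s => CohTwo.eq_of_local _ _ _ fun x hx => ?_
    obtain ⟨_, ⟨V, hV, rfl⟩, hxV, hVW⟩ := X.isBasis_affineOpens.exists_subset_of_mem_open hx W.2
    refine ⟨V, hVW, hxV, ?_⟩
    rw [← CohTwo.app_res, ← CohTwo.app_res]
    change (limit.π G (op n)).app V (baseApp X V (f ^ (n + 1)) • _) = 0
    rw [Scheme.Modules.Hom.app_smul, map_pow, hnil n V hV]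
  · obtain ⟨y, rfl⟩ := hdiv U hU n x hx
    refine Submodule.smul_mem_smul ?_ trivial
    rw [← map_pow]
    exact Ideal.mem_map_of_mem _ (Ideal.pow_mem_pow (Ideal.mem_span_singleton_self f) _)

end Groth.CohC3
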